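import Cfsg.Agent.EqLemmas
import Cfsg.Agent.Lib.ThompsonWielandt.CubicLocal

/-!
Cubic graphs with a group action whose edge stabilisers are 2-groups (amalgams of index (3, 3)).

Main definitions: `Cubic` (the graph with its axioms), `Cubic.Q u` (the kernel of the stabiliser of `u` on the
neighbours of `u`), `Cubic.D u` (fixing everything within two of `u`), `Cubic.Z u` (generated by the
`Ω₁Z` of the edge stabilisers at `u`), `Cubic.Cen u` (these centres are central in the stabiliser of `u`),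
`Cubic.Con` (each stabiliser is 2-constrained: `C(Q u) ≤ Q u`).
-/

set_option autoImplicit false
set_option linter.unusedSectionVars false
set_option linter.style.haveILetI false

namespace Cfsg.Agent.Amalgam33

open MulAction Cfsg.Agent.ThompsonWielandt.Cubic

universe u₁ u₂

local notation "st" => MulAction.stabilizer _

/-- A connected faithful cubic graph whose vertex stabilisers are transitive on neighbours and whose edge
stabilisers are 2-groups swapping the two remaining neighbours. -/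
structure Cubic (G : Type u₁) [Group G] (V : Type u₂) [MulAction G V] where
  Adj : V → V → Prop
  symm : ∀ {u v : V}, Adj u v → Adj v u
  smul : ∀ (g : G) {u v : V}, Adj u v → Adj (g • u) (g • v)
  trans : ∀ {u x y : V}, Adj u x → Adj u y → ∃ g : G, g • u = u ∧ g • x = y
  three : ∀ {u x : V}, Adj u x → ∃ y z : V, Adj u y ∧ Adj u z ∧ y ≠ x ∧ z ≠ x ∧ z ≠ y ∧
    ∀ w, Adj u w → w = x ∨ w = y ∨ w = z
  two : ∀ {u x : V}, Adj u x → IsPGroup 2 ↥(stabilizer G u ⊓ stabilizer G x)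
  swap : ∀ {u x y z : V}, Adj u x → Adj u y → Adj u z → y ≠ x → z ≠ x →
    ∃ g : G, g • u = u ∧ g • x = x ∧ g • y = z
  reach : ∀ u v : V, Relation.ReflTransGen Adj u v
  faithful : ∀ g : G, (∀ v : V, g • v = v) → g = 1

theorem inv_smul_fix {G V : Type*} [Group G] [MulAction G V] {g : G} {v : V} (h : g • v = v) :
    g⁻¹ • v = v :=
  inv_smul_eq_iff.mpr h.symm

theorem conj_smul_smul {G V : Type*} [Group G] [MulAction G V] (g x : G) (v : V) :
    (g * x * g⁻¹) • g • v = g • x • v := by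
  rw [smul_smul, inv_mul_cancel_right, mul_smul]

namespace Cubic

variable {G : Type u₁} [Group G] {V : Type u₂} [MulAction G V] (S : Cubic G V)

theorem adj_of_fix {u x : V} (h : S.Adj u x) {g : G} (hg : g • u = u) : S.Adj u (g • x) := by
  have h' := S.smul g h
  rwa [hg] at h'

theorem eq_of_three {u x y z w : V} (hx : S.Adj u x) (hy : S.Adj u y) (hz : S.Adj u z)
    (hw : S.Adj u w) (hyx : y ≠ x) (hzx : z ≠ x) (hzy : z ≠ y) : w = x ∨ w = y ∨ w = z := by
  obtain ⟨y', z', -, -, -, -, -, hall⟩ := S.three hx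
  rcases hall y hy with rfl | rfl | rfl
  · exact absurd rfl hyx
  · rcases hall z hz with rfl | rfl | rfl
    · exact absurd rfl hzx
    · exact absurd rfl hzy
    · exact hall w hw
  · rcases hall z hz with rfl | rfl | rfl
    · exact absurd rfl hzx
    · rcases hall w hw with h | h | h
      · exact Or.inl h
      · exact Or.inr (Or.inr h)
      · exact Or.inr (Or.inl h)
    · exact absurd rfl hzy

theorem exists_ne {u x : V} (hx : S.Adj u x) : ∃ y, S.Adj u y ∧ y ≠ x := by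
  obtain ⟨y, z, hy, -, hyx, -⟩ := S.three hx
  exact ⟨y, hy, hyx⟩

theorem exists_third {u x y : V} (hx : S.Adj u x) (hy : S.Adj u y) (hyx : y ≠ x) :
    ∃ z, S.Adj u z ∧ z ≠ x ∧ z ≠ y ∧ ∀ w, S.Adj u w → w = x ∨ w = y ∨ w = z := by
  obtain ⟨y', z', hy', hz', hy'x, hz'x, hz'y', hall⟩ := S.three hx
  rcases hall y hy with rfl | rfl | rfl
  · exact absurd rfl hyx
  · exact ⟨z', hz', hz'x, hz'y', hall⟩
  · exact ⟨y', hy', hy'x, hz'y'.symm, fun w hw => by
      rcases hall w hw with h | h | h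
      exacts [Or.inl h, Or.inr (Or.inr h), Or.inr (Or.inl h)]⟩

/-- The kernel of the stabiliser of `u` on the neighbours of `u`. -/
def Q (u : V) : Subgroup G where
  carrier := {g | g • u = u ∧ ∀ w, S.Adj u w → g • w = w}
  one_mem' := ⟨one_smul _ _, fun w _ => one_smul _ _⟩
  mul_mem' := fun {a b} ha hb => ⟨by rw [mul_smul, hb.1, ha.1],
    fun w hw => by rw [mul_smul, hb.2 w hw, ha.2 w hw]⟩
  inv_mem' := fun {a} ha => ⟨inv_smul_fix ha.1, fun w hw => inv_smul_fix (ha.2 w hw)⟩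

theorem mem_Q {u : V} {g : G} : g ∈ S.Q u ↔ g • u = u ∧ ∀ w, S.Adj u w → g • w = w := Iff.rfl

theorem Q_le {u x : V} (hx : S.Adj u x) : S.Q u ≤ stabilizer G u ⊓ stabilizer G x :=
  fun _ hg => ⟨hg.1, hg.2 x hx⟩

theorem mem_Q_of_two {u x y : V} (hx : S.Adj u x) (hy : S.Adj u y) (hyx : y ≠ x) {g : G}
    (hu : g • u = u) (hgx : g • x = x) (hgy : g • y = y) : g ∈ S.Q u := by
  obtain ⟨z, hz, hzx, hzy, hall⟩ := S.exists_third hx hy hyx
  refine ⟨hu, fun w hw => ?_⟩
  rcases hall w hw with rfl | rfl | rfl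
  · exact hgx
  · exact hgy
  rcases hall (g • w) (S.adj_of_fix hz hu) with h | h | h
  · exact absurd (MulAction.injective g (h.trans hgx.symm)) hzx
  · exact absurd (MulAction.injective g (h.trans hgy.symm)) hzy
  · exact h

theorem conj_mem_Q {u : V} {x : G} (g : G) (hx : x ∈ S.Q u) : g * x * g⁻¹ ∈ S.Q (g • u) := by
  refine ⟨by rw [conj_smul_smul, hx.1], fun w hw => ?_⟩
  have h' := S.smul g⁻¹ hw
  rw [inv_smul_smul] at h'
  have h := conj_smul_smul g x (g⁻¹ • w)
  rw [hx.2 _ h', smul_inv_smul] at h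
  exact h

theorem conj_mem_Q_of_fix {u : V} {x g : G} (hg : g • u = u) (hx : x ∈ S.Q u) :
    g * x * g⁻¹ ∈ S.Q u := by
  have h := S.conj_mem_Q g hx
  rwa [hg] at h

theorem st_le_normalizer_Q (u : V) :
    stabilizer G u ≤ Subgroup.normalizer (S.Q u : Set G) := by
  rw [Subgroup.le_normalizer_iff]
  exact fun g hg x hx => S.conj_mem_Q_of_fix hg hx

theorem moved {u x y : V} (hx : S.Adj u x) (hy : S.Adj u y) (hyx : y ≠ x) {g : G}
    (hu : g • u = u) (hgx : g • x = x) (hg : g ∉ S.Q u) : g • y ≠ y ∧ g • y ≠ x :=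
  ⟨fun e => hg (S.mem_Q_of_two hx hy hyx hu hgx e),
    fun e => hyx (MulAction.injective g (e.trans hgx.symm))⟩

theorem swap_eq {u x y z : V} (hx : S.Adj u x) (hy : S.Adj u y) (hz : S.Adj u z) (hyx : y ≠ x)
    (hzx : z ≠ x) (hzy : z ≠ y) {g : G} (hu : g • u = u) (hgx : g • x = x) (hg : g ∉ S.Q u) :
    g • y = z := by
  obtain ⟨h1, h2⟩ := S.moved hx hy hyx hu hgx hg
  rcases S.eq_of_three hx hy hz (S.adj_of_fix hy hu) hyx hzx hzy with h | h | h
  exacts [absurd h h2, absurd h h1, h]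

theorem mul_mem_Q {u x : V} (hx : S.Adj u x) {g h : G} (hg : g ∈ stabilizer G u ⊓ stabilizer G x)
    (hh : h ∈ stabilizer G u ⊓ stabilizer G x) (hgQ : g ∉ S.Q u) (hhQ : h ∉ S.Q u) :
    g * h ∈ S.Q u := by
  obtain ⟨y, z, hy, hz, hyx, hzx, hzy, -⟩ := S.three hx
  refine S.mem_Q_of_two hx hy hyx (mul_mem hg.1 hh.1) (mul_mem hg.2 hh.2) ?_
  rw [mul_smul, S.swap_eq hx hy hz hyx hzx hzy hh.1 hh.2 hhQ,
    S.swap_eq hx hz hy hzx hyx hzy.symm hg.1 hg.2 hgQ]

theorem mul_mem_Q_iff {u x : V} (hx : S.Adj u x) {g h : G}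
    (hg : g ∈ stabilizer G u ⊓ stabilizer G x) (hh : h ∈ stabilizer G u ⊓ stabilizer G x) :
    g * h ∈ S.Q u ↔ (g ∈ S.Q u ↔ h ∈ S.Q u) := by
  by_cases h1 : g ∈ S.Q u
  · simp [h1, (S.Q u).mul_mem_cancel_left h1]
  · by_cases h2 : h ∈ S.Q u
    · simp [h1, h2, (S.Q u).mul_mem_cancel_right h2]
    · simp [h1, h2, S.mul_mem_Q hx hg hh h1 h2]

theorem mul_self_mem_Q {u x : V} (hx : S.Adj u x) {g : G}
    (hg : g ∈ stabilizer G u ⊓ stabilizer G x) : g * g ∈ S.Q u :=
  (S.mul_mem_Q_iff hx hg hg).mpr Iff.rfl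

theorem exists_not_mem {u x : V} (hx : S.Adj u x) :
    ∃ g ∈ stabilizer G u ⊓ stabilizer G x, g ∉ S.Q u := by
  obtain ⟨y, z, hy, hz, hyx, hzx, hzy, -⟩ := S.three hx
  obtain ⟨g, hu, hgx, hgy⟩ := S.swap hx hy hz hyx hzx
  exact ⟨g, ⟨hu, hgx⟩, fun hg => hzy (hgy.symm.trans (hg.2 y hy))⟩

/-- An edge group and an element moving that edge generate the vertex group. -/
theorem gen {u x : V} (hx : S.Adj u x) {H : Subgroup G}
    (hE : stabilizer G u ⊓ stabilizer G x ≤ H) {h : G} (hh : h ∈ H) (hu : h • u = u)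
    (hne : h • x ≠ x) : stabilizer G u ≤ H := by
  intro g hg
  have key : ∀ w, S.Adj u w → ∃ k ∈ H, k • u = u ∧ k • x = w := by
    intro w hw
    by_cases hwx : w = x
    · exact ⟨1, one_mem _, one_smul _ _, hwx ▸ one_smul _ _⟩
    by_cases hwh : w = h • x
    · exact ⟨h, hh, hu, hwh.symm⟩
    obtain ⟨e, heu, hex, hew⟩ := S.swap hx (S.adj_of_fix hx hu) hw hne hwx
    exact ⟨e * h, mul_mem (hE ⟨heu, hex⟩) hh, by rw [mul_smul, hu, heu], by rw [mul_smul, hew]⟩
  obtain ⟨k, hk, hku, hkx⟩ := key _ (S.adj_of_fix hx hg)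
  have h1 : k⁻¹ * g ∈ stabilizer G u ⊓ stabilizer G x :=
    ⟨show (k⁻¹ * g) • u = u by rw [mul_smul, mem_stabilizer_iff.mp hg, inv_smul_fix hku],
      show (k⁻¹ * g) • x = x by rw [mul_smul, ← hkx, inv_smul_smul]⟩
  have := mul_mem hk (hE h1)
  rwa [mul_inv_cancel_left] at this

/-- Two edge groups at a vertex generate the vertex group. -/
theorem gen₂ {u x y : V} (hx : S.Adj u x) (hy : S.Adj u y) (hyx : y ≠ x) {H : Subgroup G}
    (hEx : stabilizer G u ⊓ stabilizer G x ≤ H) (hEy : stabilizer G u ⊓ stabilizer G y ≤ H) :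
    stabilizer G u ≤ H := by
  obtain ⟨z, hz, hzx, hzy, -⟩ := S.exists_third hx hy hyx
  obtain ⟨g, hu, hgy, hgx⟩ := S.swap hy hx hz hyx.symm hzy
  exact S.gen hx hEx (hEy ⟨hu, hgy⟩) hu (hgx ▸ hzx)

/-- A subgroup containing two adjacent vertex groups reaches every vertex. -/
theorem translate {u v : V} (huv : S.Adj u v) {H : Subgroup G} (hu : stabilizer G u ≤ H)
    (hv : stabilizer G v ≤ H) (w : V) : ∃ g ∈ H, g • u = w ∨ g • v = w := by
  induction S.reach u w with
  | refl => exact ⟨1, one_mem _, Or.inl (one_smul _ _)⟩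
  | @tail b c _ hbc ih =>
    obtain ⟨g, hg, hb | hb⟩ := ih
    · have h' := S.smul g⁻¹ hbc
      rw [← hb, inv_smul_smul] at h'
      obtain ⟨k, hk, hkv⟩ := S.trans huv h'
      exact ⟨g * k, mul_mem hg (hu hk), Or.inr (by rw [mul_smul, hkv, smul_inv_smul])⟩
    · have h' := S.smul g⁻¹ hbc
      rw [← hb, inv_smul_smul] at h'
      obtain ⟨k, hk, hku⟩ := S.trans (S.symm huv) h'
      exact ⟨g * k, mul_mem hg (hv hk), Or.inl (by rw [mul_smul, hku, smul_inv_smul])⟩

/-- No nontrivial subgroup of an edge group is normalised by both vertex groups. -/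
theorem eq_bot_of_normalized {u v : V} (huv : S.Adj u v) {N : Subgroup G}
    (hN : N ≤ stabilizer G u ⊓ stabilizer G v)
    (hu : stabilizer G u ≤ Subgroup.normalizer (N : Set G))
    (hv : stabilizer G v ≤ Subgroup.normalizer (N : Set G)) : N = ⊥ := by
  rw [Subgroup.eq_bot_iff_forall]
  intro x hx
  refine S.faithful x fun w => ?_
  obtain ⟨g, hg, hw⟩ := S.translate huv hu hv w
  have h1 : g⁻¹ * x * g ∈ N := by
    have h := Subgroup.le_normalizer_iff.mp (le_refl (Subgroup.normalizer (N : Set G))) g⁻¹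
      (inv_mem hg) x hx
    rwa [inv_inv] at h
  rcases hw with rfl | rfl
  · have h := mem_stabilizer_iff.mp (hN h1).1
    rwa [mul_smul, mul_smul, inv_smul_eq_iff] at h
  · have h := mem_stabilizer_iff.mp (hN h1).2
    rwa [mul_smul, mul_smul, inv_smul_eq_iff] at h

/-- An element of an edge group centralised by both vertex groups is trivial. -/
theorem eq_one_of_central {u v : V} (huv : S.Adj u v) {z : G} (hz : z • u = u) (hz' : z • v = v)
    (hu : stabilizer G u ≤ Subgroup.centralizer ({z} : Set G))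
    (hv : stabilizer G v ≤ Subgroup.centralizer ({z} : Set G)) : z = 1 := by
  have h : Subgroup.zpowers z = ⊥ := by
    refine S.eq_bot_of_normalized huv (Subgroup.zpowers_le.mpr ⟨hz, hz'⟩) ?_ ?_ <;>
    · refine le_trans (by first | exact hu | exact hv) ?_
      rw [← Subgroup.centralizer_closure, ← Subgroup.zpowers_eq_closure]
      exact Subgroup.centralizer_le_normalizer _
  exact Subgroup.zpowers_eq_bot.mp h

theorem card_eq_three_mul {u x : V} (hx : S.Adj u x) :
    (stabilizer G x).relIndex (stabilizer G u) = 3 := by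
  have hs : (stabilizer G x).subgroupOf (stabilizer G u) = stabilizer (stabilizer G u) x := by
    ext g; simp [Subgroup.mem_subgroupOf, mem_stabilizer_iff, Subgroup.smul_def]
  rw [Subgroup.relIndex, hs, index_stabilizer]
  obtain ⟨y, z, hy, hz, hyx, hzx, hzy, hall⟩ := S.three hx
  rw [Set.ncard_eq_three]
  refine ⟨x, y, z, hyx.symm, hzx.symm, hzy.symm, ?_⟩
  ext w
  simp only [Set.mem_insert_iff, Set.mem_singleton_iff]
  constructor
  · rintro ⟨⟨g, hg⟩, rfl⟩
    exact hall _ (S.adj_of_fix hx hg)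
  · intro hw
    have hadj : S.Adj u w := by rcases hw with rfl | rfl | rfl <;> assumption
    obtain ⟨g, hg, hgw⟩ := S.trans hx hadj
    exact ⟨⟨g, hg⟩, hgw⟩

variable [Finite G]

theorem relIndex_Q {u x : V} (hx : S.Adj u x) :
    (S.Q u).relIndex (stabilizer G u ⊓ stabilizer G x) = 2 := by
  obtain ⟨t, ht, htQ⟩ := S.exists_not_mem hx
  rw [Subgroup.relIndex, Subgroup.index_eq_two_iff]
  refine ⟨⟨t, ht⟩, fun b => ?_⟩
  simp only [Subgroup.mem_subgroupOf, Subgroup.coe_mul]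
  rw [S.mul_mem_Q_iff hx b.2 ht, xor_iff_not_iff]
  tauto

theorem card_edge {u x : V} (hx : S.Adj u x) :
    Nat.card ↥(stabilizer G u ⊓ stabilizer G x) = 2 * Nat.card ↥(S.Q u) := by
  rw [← relIndex_mul_card (S.Q_le hx), S.relIndex_Q hx]

theorem exists_central_mem {u x : V} (hx : S.Adj u x) {N : Subgroup G}
    (hN : N ≤ stabilizer G u ⊓ stabilizer G x)
    (hn : stabilizer G u ⊓ stabilizer G x ≤ Subgroup.normalizer (N : Set G)) (hne : N ≠ ⊥) :
    ∃ z ∈ N, z ∈ Zc (stabilizer G u ⊓ stabilizer G x) ∧ z ≠ 1 := by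
  set E := stabilizer G u ⊓ stabilizer G x
  have hp : IsPGroup 2 ↥E := S.two hx
  haveI : Fact (Nat.Prime 2) := ⟨Nat.prime_two⟩
  have hNp : IsPGroup 2 ↥(N.subgroupOf E) := hp.to_subgroup _
  let φ : MulAction ↥E ↥(N.subgroupOf E) :=
    { smul := fun e n => ⟨e * n * e⁻¹, by
        have h := Subgroup.le_normalizer_iff.mp hn e e.2 _ n.2
        exact Subgroup.mem_subgroupOf.mpr h⟩
      one_smul := fun n => Subtype.ext (by simp [HSMul.hSMul])
      mul_smul := fun a b n => Subtype.ext (by simp [HSMul.hSMul, mul_assoc]) }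
  have hnt : N.subgroupOf E ≠ ⊥ := by
    rwa [Ne, Subgroup.subgroupOf_eq_bot, disjoint_iff, inf_eq_left.mpr hN]
  have hdvd : 2 ∣ Nat.card ↥(N.subgroupOf E) := by
    obtain ⟨n, hn⟩ := IsPGroup.iff_card.mp hNp
    rcases n with _ | n
    · exact absurd (Subgroup.eq_bot_of_card_eq _ (by rw [hn, pow_zero])) hnt
    · exact hn ▸ dvd_pow_self _ n.succ_ne_zero
  obtain ⟨c, hc, hc1⟩ := hp.exists_fixed_point_of_prime_dvd_card_of_fixed_point
    ↥(N.subgroupOf E) hdvd (a := 1) (fun e => Subtype.ext (by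
      show (e : ↥E) * (1 : ↥E) * e⁻¹ = 1
      group))
  have hcomm : ∀ t ∈ E, t * (c : ↥E).1 = (c : ↥E).1 * t := fun t ht => by
    have h := congrArg (fun n : ↥(N.subgroupOf E) => ((n : ↥E) : G)) (hc ⟨t, ht⟩)
    have h' : t * (c : ↥E).1 * t⁻¹ = (c : ↥E).1 := h
    calc t * (c : ↥E).1 = t * (c : ↥E).1 * t⁻¹ * t := by group
      _ = (c : ↥E).1 * t := by rw [h']
  set d : G := (c : ↥E).1
  have hd1 : d ≠ 1 := fun e => hc1 (Subtype.ext (Subtype.ext e.symm))
  obtain ⟨k, hk⟩ := IsPGroup.iff_orderOf.mp hp (c : ↥E)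
  rw [← Subgroup.orderOf_coe] at hk
  rcases k with _ | k
  · exact absurd (orderOf_eq_one_iff.mp (hk.trans (pow_zero _))) hd1
  refine ⟨d ^ 2 ^ k, pow_mem c.2 _, ⟨pow_mem (c : ↥E).2 _, fun t ht => ?_, ?_⟩, ?_⟩
  · exact (Commute.pow_right (hcomm t ht) _)
  · rw [← pow_add, ← Nat.two_mul, ← pow_succ', ← hk]
    exact pow_orderOf_eq_one d
  · intro e
    have := orderOf_le_of_pow_eq_one (Nat.two_pow_pos k) e
    rw [hk, pow_succ] at this
    have := Nat.two_pow_pos k
    omega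

theorem edge_ne_bot {u x : V} (hx : S.Adj u x) : stabilizer G u ⊓ stabilizer G x ≠ ⊥ := by
  obtain ⟨t, ht, htQ⟩ := S.exists_not_mem hx
  intro e
  exact htQ ((Subgroup.mem_bot.mp (e ▸ ht)) ▸ one_mem _)

theorem exists_central {u x : V} (hx : S.Adj u x) :
    ∃ z ∈ Zc (stabilizer G u ⊓ stabilizer G x), z ≠ 1 := by
  obtain ⟨z, -, hz, hz1⟩ := S.exists_central_mem hx le_rfl Subgroup.le_normalizer (S.edge_ne_bot hx)
  exact ⟨z, hz, hz1⟩

end Cubic

theorem conj_mem_Zc {G V : Type*} [Group G] [MulAction G V] {u x : V} {z : G} (g : G)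
    (hz : z ∈ Zc (stabilizer G u ⊓ stabilizer G x)) :
    g * z * g⁻¹ ∈ Zc (stabilizer G (g • u) ⊓ stabilizer G (g • x)) := by
  rw [stabilizer_smul_eq_stabilizer_map_conj, stabilizer_smul_eq_stabilizer_map_conj,
    ← Subgroup.map_inf _ _ _ (MulAut.conj g).injective,
    ← ThompsonWielandt.Cubic.conj_smul_eq_map, smul_Zc]
  exact conj_mem hz


end Cfsg.Agent.Amalgam33
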