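import Cfsg.Agent.Lib.Amalgam33.Basic

/-!
The central subgroups `Z u` of a cubic graph with 2-group edge stabilisers, and the case in which some stabiliser is
not 2-constrained (`Cubic.card_le_of_not_con`: then an edge group has order at most 16).
-/

set_option autoImplicit false
set_option linter.unusedSectionVars false
set_option linter.style.haveILetI false

namespace Cfsg.Agent.Amalgam33

open MulAction Cfsg.Agent.ThompsonWielandt.Cubic

universe u₁ u₂

namespace Cubic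

variable {G : Type u₁} [Group G] {V : Type u₂} [MulAction G V] (S : Cubic G V)

/-- The elements fixing everything within two of `u`. -/
def D (u : V) : Subgroup G := S.Q u ⊓ ⨅ (w : V) (_ : S.Adj u w), S.Q w

theorem mem_D {u : V} {g : G} : g ∈ S.D u ↔ g ∈ S.Q u ∧ ∀ w, S.Adj u w → g ∈ S.Q w := by
  simp [D, Subgroup.mem_inf, Subgroup.mem_iInf]

theorem conj_mem_D {u : V} {x : G} (g : G) (hx : x ∈ S.D u) : g * x * g⁻¹ ∈ S.D (g • u) := by
  rw [mem_D] at hx ⊢
  refine ⟨S.conj_mem_Q g hx.1, fun w hw => ?_⟩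
  have h' := S.smul g⁻¹ hw
  rw [inv_smul_smul] at h'
  have h := S.conj_mem_Q g (hx.2 _ h')
  rwa [smul_inv_smul] at h

theorem st_le_normalizer_D (u : V) :
    stabilizer G u ≤ Subgroup.normalizer (S.D u : Set G) := by
  rw [Subgroup.le_normalizer_iff]
  intro g hg x hx
  have h := S.conj_mem_D g hx
  rwa [mem_stabilizer_iff.mp hg] at h

/-- Every vertex stabiliser is 2-constrained. -/
def Con : Prop := ∀ (v : V) (g : G), g • v = v → (∀ q ∈ S.Q v, g * q = q * g) → g ∈ S.Q v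

/-- `Z u`: generated by the `Ω₁Z` of the edge groups at `u`. -/
def Z (u : V) : Subgroup G :=
  ⨆ (w : V) (_ : S.Adj u w), Zc (stabilizer G u ⊓ stabilizer G w)

theorem Zc_le_Z {u w : V} (h : S.Adj u w) : Zc (stabilizer G u ⊓ stabilizer G w) ≤ S.Z u :=
  le_iSup₂_of_le w h le_rfl

theorem Z_le {u : V} {H : Subgroup G}
    (h : ∀ w, S.Adj u w → Zc (stabilizer G u ⊓ stabilizer G w) ≤ H) : S.Z u ≤ H :=
  iSup₂_le h

theorem conj_mem_Z {u : V} {x : G} (g : G) (hx : x ∈ S.Z u) : g * x * g⁻¹ ∈ S.Z (g • u) := by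
  suffices h : S.Z u ≤ (S.Z (g • u)).comap (MulAut.conj g).toMonoidHom from h hx
  refine S.Z_le fun w hw z hz => ?_
  exact S.Zc_le_Z (S.smul g hw) (conj_mem_Zc g hz)

theorem conj_mem_Z_of_fix {u : V} {x g : G} (hg : g • u = u) (hx : x ∈ S.Z u) :
    g * x * g⁻¹ ∈ S.Z u := by
  have h := S.conj_mem_Z g hx
  rwa [hg] at h

/-- The centres of the edge groups at `u` are central in the stabiliser of `u`. -/
def Cen (u : V) : Prop :=
  ∀ w, S.Adj u w → ∀ z ∈ Zc (stabilizer G u ⊓ stabilizer G w), ∀ g : G, g • u = u → g * z = z * g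

theorem cen_of_edge {u w : V} (hw : S.Adj u w)
    (h : ∀ z ∈ Zc (stabilizer G u ⊓ stabilizer G w), ∀ g : G, g • u = u → g * z = z * g) :
    S.Cen u := by
  intro w' hw' z hz g hg
  obtain ⟨k, hk, rfl⟩ := S.trans hw hw'
  have hz' := conj_mem_Zc k⁻¹ hz
  rw [inv_smul_smul, inv_smul_fix hk, inv_inv] at hz'
  have h1 := h _ hz' k hk
  have h2 := h _ hz' g hg
  have e : z = k⁻¹ * z * k := by
    calc z = k * (k⁻¹ * z * k) * k⁻¹ := by group
      _ = k⁻¹ * z * k := by rw [h1]; group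
  rwa [← e] at h2

theorem cen_smul (g : G) {u : V} (h : S.Cen u) : S.Cen (g • u) := by
  intro w hw z hz k hk
  have hw' := S.smul g⁻¹ hw
  rw [inv_smul_smul] at hw'
  have hz' := conj_mem_Zc g⁻¹ hz
  rw [inv_smul_smul, inv_inv] at hz'
  have h1 := h _ hw' _ hz' (g⁻¹ * k * g)
    (by rw [mul_smul, mul_smul, hk, inv_smul_smul])
  calc k * z = g * (g⁻¹ * k * g * (g⁻¹ * z * g)) * g⁻¹ := by group
    _ = g * (g⁻¹ * z * g * (g⁻¹ * k * g)) * g⁻¹ := by rw [h1]
    _ = z * k := by group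

theorem cen_smul_iff (g : G) (u : V) : S.Cen (g • u) ↔ S.Cen u :=
  ⟨fun h => by simpa using S.cen_smul g⁻¹ h, S.cen_smul g⟩

theorem eq_one_of_cen {u v : V} (huv : S.Adj u v) (hu : S.Cen u) (hv : S.Cen v) {z : G}
    (hz : z ∈ Zc (stabilizer G u ⊓ stabilizer G v)) : z = 1 := by
  refine S.eq_one_of_central huv hz.1.1 hz.1.2 ?_ ?_
  · intro g hg
    rw [Subgroup.mem_centralizer_singleton_iff]
    exact hu v huv z hz g hg
  · intro g hg
    rw [Subgroup.mem_centralizer_singleton_iff]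
    exact hv u (S.symm huv) z (by rwa [inf_comm]) g hg

variable [Finite G]

theorem not_cen_both {u v : V} (huv : S.Adj u v) : ¬ (S.Cen u ∧ S.Cen v) := by
  rintro ⟨hu, hv⟩
  obtain ⟨z, hz, hz1⟩ := S.exists_central huv
  exact hz1 (S.eq_one_of_cen huv hu hv hz)

/-! ### A stabiliser which is not constrained -/

theorem centralizer_transitive {v x w : V} (hx : S.Adj v x) (hw : S.Adj v w) {g : G}
    (hg : g • v = v) (hgx : g • x ≠ x) :
    ∃ k : G, k • v = v ∧ k • x = w ∧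
      ∀ H : Subgroup G, g ∈ H → (∀ e : G, e • v = v → ∀ h ∈ H, e * h * e⁻¹ ∈ H) → k ∈ H := by
  by_cases hwx : w = x
  · exact ⟨1, one_smul _ _, by rw [one_smul, hwx], fun H _ _ => one_mem H⟩
  obtain ⟨e, hev, hex, hew⟩ := S.swap hx (S.adj_of_fix hx hg) hw hgx hwx
  refine ⟨e * g * e⁻¹, by rw [mul_smul, mul_smul, inv_smul_fix hev, hg, hev],
    by rw [mul_smul, mul_smul, inv_smul_fix hex, hew], fun H hH hn => hn e hev g hH⟩

/-- If some stabiliser is not constrained then some edge group has order at most 16. -/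
theorem card_le_of_not_con (hnc : ¬ S.Con) (hne : ∀ u : V, ∃ x, S.Adj u x) :
    ∃ u v, S.Adj u v ∧ Nat.card ↥(stabilizer G u ⊓ stabilizer G v) ≤ 16 := by
  simp only [Con, not_forall] at hnc
  obtain ⟨v, g, hgv, hgc, hgQ⟩ := hnc
  obtain ⟨x0, hx0⟩ := hne v
  obtain ⟨x, hx, hgx⟩ : ∃ x, S.Adj v x ∧ g • x ≠ x := by
    by_contra h
    push Not at h
    exact hgQ ⟨hgv, h⟩
  refine ⟨x, v, S.symm hx, ?_⟩
  set C := stabilizer G v ⊓ Subgroup.centralizer (S.Q v : Set G) with hC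
  have hCn : ∀ e : G, e • v = v → ∀ h ∈ C, e * h * e⁻¹ ∈ C := by
    intro e he h hh
    refine ⟨mul_mem (mul_mem he hh.1) (inv_mem (s := stabilizer G v) he), fun q hq => ?_⟩
    have hq' := S.conj_mem_Q_of_fix (inv_smul_fix he) hq
    have hh' := hh.2 _ hq'
    rw [inv_inv] at hh'
    calc q * (e * h * e⁻¹) = e * (e⁻¹ * q * e * h) * e⁻¹ := by group
      _ = e * (h * (e⁻¹ * q * e)) * e⁻¹ := by rw [hh']
      _ = e * h * e⁻¹ * q := by group
  have hgC : g ∈ C := ⟨hgv, fun q hq => (hgc q hq).symm⟩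
  have hDv : S.D x ≤ S.Q v := fun d hd => ((S.mem_D).mp hd).2 v (S.symm hx)
  have hDn : stabilizer G v ≤ Subgroup.normalizer (S.D x : Set G) := by
    refine S.gen hx (inf_le_right.trans (S.st_le_normalizer_D x)) ?_ hgv hgx
    rw [Subgroup.mem_normalizer_iff]
    intro d
    constructor
    · intro hd
      rw [show g * d * g⁻¹ = d by rw [← hgC.2 d (hDv hd), mul_inv_cancel_right]]
      exact hd
    · intro hd
      have h := hgC.2 _ (hDv hd)
      have : d = g * d * g⁻¹ := by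
        calc d = g⁻¹ * (g * d * g⁻¹ * g) := by group
          _ = g⁻¹ * (g * (g * d * g⁻¹)) := by rw [h]
          _ = g * d * g⁻¹ := by group
      rwa [← this] at hd
  have hD : S.D x = ⊥ := S.eq_bot_of_normalized (S.symm hx)
    (fun d hd => ⟨((S.mem_D).mp hd).1.1, (hDv hd).1⟩) (S.st_le_normalizer_D x) hDn
  obtain ⟨y, z, hy, hz, hyv, hzv, hzy, hall⟩ := S.three (S.symm hx)
  have hle : S.Q x ⊓ S.Q v ⊓ S.Q y ⊓ S.Q z ≤ S.D x := by
    intro d hd
    refine (S.mem_D).mpr ⟨hd.1.1.1, fun w hw => ?_⟩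
    rcases hall w hw with rfl | rfl | rfl
    exacts [hd.1.1.2, hd.1.2, hd.2]
  have two_le : ∀ {A : Subgroup G} {w : V}, S.Adj x w → A ≤ S.Q x →
      Nat.card ↥A ≤ 2 * Nat.card ↥(A ⊓ S.Q w) := by
    intro A w hw hA
    rw [← relIndex_mul_card (inf_le_left : A ⊓ S.Q w ≤ A), Subgroup.inf_relIndex_left]
    refine Nat.mul_le_mul_right _ ?_
    have h := S.relIndex_Q (S.symm hw)
    rw [← h]
    refine Subgroup.relIndex_le_of_le_right ?_ (by rw [h]; norm_num)
    rw [inf_comm]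
    exact hA.trans (S.Q_le hw)
  have h1 := two_le (S.symm hx) (le_refl (S.Q x))
  have h2 := two_le hy (A := S.Q x ⊓ S.Q v) inf_le_left
  have h3 := two_le hz (A := S.Q x ⊓ S.Q v ⊓ S.Q y) (inf_le_left.trans inf_le_left)
  have h4 : Nat.card ↥(S.Q x ⊓ S.Q v ⊓ S.Q y ⊓ S.Q z) = 1 := by
    rw [Subgroup.card_eq_one]
    exact le_bot_iff.mp (hle.trans hD.le)
  have h5 := S.card_edge (S.symm hx)
  omega

/-! ### Facts for constrained stabilisers -/

section Con

variable (hcon : S.Con)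
include hcon

theorem Zc_le_Q {u w : V} (h : S.Adj u w) : Zc (stabilizer G u ⊓ stabilizer G w) ≤ S.Q u :=
  fun z hz => hcon u z hz.1.1 fun q hq => (hz.2.1 q (S.Q_le h hq)).symm

/-- `Z u` is an elementary abelian subgroup of `Q u` centralised by `Q u`. -/
theorem Z_le_Zc_Q (u : V) : S.Z u ≤ Zc (S.Q u) :=
  S.Z_le fun _ hw z hz => ⟨S.Zc_le_Q hcon hw hz, fun q hq => hz.2.1 q (S.Q_le hw hq), hz.2.2⟩

theorem Z_le_Q (u : V) : S.Z u ≤ S.Q u := (S.Z_le_Zc_Q hcon u).trans (Zc_le _)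

theorem Z_comm_Q {u : V} {z q : G} (hz : z ∈ S.Z u) (hq : q ∈ S.Q u) : q * z = z * q :=
  (S.Z_le_Zc_Q hcon u hz).2.1 q hq

theorem Z_sq {u : V} {z : G} (hz : z ∈ S.Z u) : z * z = 1 := (S.Z_le_Zc_Q hcon u hz).2.2

theorem Z_inv {u : V} {z : G} (hz : z ∈ S.Z u) : z⁻¹ = z :=
  inv_eq_of_mul_eq_one_right (S.Z_sq hcon hz)

theorem Z_comm {u : V} {z z' : G} (hz : z ∈ S.Z u) (hz' : z' ∈ S.Z u) : z * z' = z' * z :=
  S.Z_comm_Q hcon hz' (S.Z_le_Q hcon u hz)

theorem Zc_of_comm {u w : V} (h : S.Adj u w) {t z : G}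
    (ht : t ∈ stabilizer G u ⊓ stabilizer G w) (htQ : t ∉ S.Q u) (hz : z ∈ S.Z u)
    (hc : t * z = z * t) : z ∈ Zc (stabilizer G u ⊓ stabilizer G w) := by
  refine ⟨S.Q_le h (S.Z_le_Q hcon u hz), fun e he => ?_, S.Z_sq hcon hz⟩
  by_cases heQ : e ∈ S.Q u
  · exact S.Z_comm_Q hcon hz heQ
  · have h1 := S.Z_comm_Q hcon hz (S.mul_mem_Q h he ht heQ htQ)
    calc e * z = e * (z * t) * t⁻¹ := by group
      _ = (e * t * z) * t⁻¹ := by rw [← hc]; group
      _ = z * (e * t) * t⁻¹ := by rw [h1]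
      _ = z * e := by group

/-- Commutators of `Z u` with the edge group lie in its centre. -/
theorem comm_mem_Zc {u w : V} (h : S.Adj u w) {t z : G}
    (ht : t ∈ stabilizer G u ⊓ stabilizer G w) (hz : z ∈ S.Z u) :
    t * z * t⁻¹ * z ∈ Zc (stabilizer G u ⊓ stabilizer G w) := by
  have hz' := S.conj_mem_Z_of_fix ht.1 hz
  by_cases htQ : t ∈ S.Q u
  · rw [S.Z_comm_Q hcon hz htQ, mul_inv_cancel_right, S.Z_sq hcon hz]
    exact one_mem _
  refine S.Zc_of_comm hcon h ht htQ (mul_mem hz' hz) ?_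
  have h2 : t * t * z = z * (t * t) := S.Z_comm_Q hcon hz (S.mul_self_mem_Q h ht)
  calc t * (t * z * t⁻¹ * z) = (t * t * z) * (t⁻¹ * z) := by group
    _ = z * (t * t) * (t⁻¹ * z) := by rw [h2]
    _ = z * (t * z * t⁻¹) * t := by group
    _ = t * z * t⁻¹ * z * t := by rw [S.Z_comm hcon hz hz']

theorem cen_Zc_eq {u w : V} (hu : S.Cen u) (h : S.Adj u w) :
    Zc (stabilizer G u ⊓ stabilizer G w) = S.Z u := by
  refine le_antisymm (S.Zc_le_Z h) (S.Z_le fun w' hw' z hz => ?_)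
  obtain ⟨k, hk, rfl⟩ := S.trans hw' h
  have h1 := conj_mem_Zc k hz
  rwa [hk, hu w' hw' z hz k hk, mul_inv_cancel_right] at h1

theorem cen_comm {u : V} (hu : S.Cen u) {z g : G} (hz : z ∈ S.Z u) (hg : g • u = u) :
    g * z = z * g := by
  have h : S.Z u ≤ Subgroup.centralizer (stabilizer G u : Set G) :=
    S.Z_le fun w hw z hz g hg => hu w hw z hz g hg
  exact h hz g hg

theorem mem_Q_of_comm {u : V} (hu : ¬ S.Cen u) {g : G} (hg : g • u = u)
    (hc : ∀ z ∈ S.Z u, g * z = z * g) : g ∈ S.Q u := by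
  by_contra hgQ
  obtain ⟨x, hx, hgx⟩ : ∃ x, S.Adj u x ∧ g • x ≠ x := by
    by_contra h
    push Not at h
    exact hgQ ⟨hg, h⟩
  refine hu (S.cen_of_edge hx fun z hz => ?_)
  have h := S.gen (H := Subgroup.centralizer ({z} : Set G)) hx
    (fun e he => Subgroup.mem_centralizer_singleton_iff.mpr (hz.2.1 e he))
    (Subgroup.mem_centralizer_singleton_iff.mpr (hc z (S.Zc_le_Z hx hz))) hg hgx
  exact fun k hk => Subgroup.mem_centralizer_singleton_iff.mp (h hk)

theorem Q_not_le {u v : V} (h : S.Adj u v) : ¬ S.Q u ≤ S.Q v := by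
  intro hle
  have h1 := S.card_edge h
  have h2 := S.card_edge (S.symm h)
  rw [inf_comm] at h2
  have he : S.Q u = S.Q v := Subgroup.eq_of_le_of_card_ge hle (by omega)
  have hb : S.Q u = ⊥ := S.eq_bot_of_normalized h (S.Q_le h) (S.st_le_normalizer_Q u)
    (he ▸ S.st_le_normalizer_Q v)
  obtain ⟨t, ht, htQ⟩ := S.exists_not_mem h
  refine htQ (hcon u t ht.1 fun q hq => ?_)
  rw [hb, Subgroup.mem_bot] at hq
  rw [hq, mul_one, one_mul]

end Con

end Cubic

end Cfsg.Agent.Amalgam33
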