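import Cfsg.Agent.Lib.Amalgam33.Walks

/-!
Auxiliary notions in the setting of `Cubic.Setting`: `Cubic.V' u` (generated by the `Z w`, `w` adjacent to `u`),
`Cubic.Two u w` (`|Z u : Z w| ≤ 2`) and its consequences, and a counting lemma for subgroups of index two.
-/

set_option autoImplicit false
set_option linter.unusedSectionVars false
set_option linter.style.haveILetI false

namespace Cfsg.Agent.Amalgam33

open MulAction Cfsg.Agent.ThompsonWielandt.Cubic

universe u₁ u₂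

theorem card_le_two_mul {G : Type*} [Group G] [Finite G] {A B : Subgroup G} (hAB : A ≤ B)
    (h : ∀ x ∈ B, ∀ y ∈ B, x ∉ A → y ∉ A → x * y ∈ A) :
    Nat.card ↥B ≤ 2 * Nat.card ↥A := by
  rw [← relIndex_mul_card hAB]
  refine Nat.mul_le_mul_right _ ?_
  by_cases hle : B ≤ A
  · rw [Subgroup.relIndex_eq_one.mpr hle]; norm_num
  obtain ⟨t, ht, htA⟩ := SetLike.not_le_iff_exists.mp hle
  refine le_of_eq ?_
  rw [Subgroup.relIndex, Subgroup.index_eq_two_iff]
  refine ⟨⟨t, ht⟩, fun b => ?_⟩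
  simp only [Subgroup.mem_subgroupOf, Subgroup.coe_mul]
  by_cases hb : (b : G) ∈ A
  · exact Or.inr ⟨hb, fun hh => htA ((A.mul_mem_cancel_left hb).mp hh)⟩
  · exact Or.inl ⟨h b b.2 t ht hb htA, hb⟩

namespace Cubic

variable {G : Type u₁} [Group G] {V : Type u₂} [MulAction G V] (S : Cubic G V)

/-- Generated by the `Z w` over the neighbours `w` of `u`. -/
def V' (u : V) : Subgroup G := ⨆ (w : V) (_ : S.Adj u w), S.Z w

theorem Z_le_V' {u w : V} (h : S.Adj u w) : S.Z w ≤ S.V' u := le_iSup₂_of_le w h le_rfl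

theorem V'_le {u : V} {H : Subgroup G} (h : ∀ w, S.Adj u w → S.Z w ≤ H) : S.V' u ≤ H :=
  iSup₂_le h

theorem conj_mem_V' {u : V} {x : G} (g : G) (hx : x ∈ S.V' u) : g * x * g⁻¹ ∈ S.V' (g • u) := by
  suffices h : S.V' u ≤ (S.V' (g • u)).comap (MulAut.conj g).toMonoidHom from h hx
  exact S.V'_le fun w hw z hz => S.Z_le_V' (S.smul g hw) (S.conj_mem_Z g hz)

theorem st_le_normalizer_V' (u : V) :
    stabilizer G u ≤ Subgroup.normalizer (S.V' u : Set G) := by
  rw [Subgroup.le_normalizer_iff]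
  intro g hg x hx
  have h := S.conj_mem_V' g hx
  rwa [mem_stabilizer_iff.mp hg] at h

/-- `Z w` has index at most two in `Z u`. -/
def Two (u w : V) : Prop := ∀ x ∈ S.Z u, ∀ y ∈ S.Z u, x ∉ S.Z w → y ∉ S.Z w → x * y ∈ S.Z w

theorem Two.smul (g : G) {u w : V} (h : S.Two u w) : S.Two (g • u) (g • w) := by
  intro x hx y hy hxw hyw
  have key : ∀ (z : G) (v : V), z ∈ S.Z (g • v) ↔ g⁻¹ * z * g ∈ S.Z v := fun z v => by
    constructor
    · intro hz
      have h' := S.conj_mem_Z g⁻¹ hz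
      rwa [inv_smul_smul, inv_inv] at h'
    · intro hz
      have h' := S.conj_mem_Z g hz
      rwa [show g * (g⁻¹ * z * g) * g⁻¹ = z by group] at h'
  rw [key] at hx hy hxw hyw ⊢
  have h' := h _ hx _ hy hxw hyw
  rwa [show g⁻¹ * x * g * (g⁻¹ * y * g) = g⁻¹ * (x * y) * g by group] at h'

theorem nb_zero (v : V) : S.NB 0 (fun _ => v) :=
  ⟨fun i hi => absurd hi (Nat.not_lt_zero i), fun i hi => absurd hi (by omega)⟩

theorem nb_two {a c d : V} (h : S.Adj a c) (h' : S.Adj c d) (hne : a ≠ d) :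
    S.NB 2 (pre a (pre c fun _ => d)) :=
  NB.cons S (NB.cons S (S.nb_zero d) h' (fun h => absurd h (by omega))) h (fun _ => hne)

variable [Finite G]

/-- The kernel on the neighbours is at most eight times what fixes everything within two. -/
theorem card_Q_le {u x : V} (hx : S.Adj u x) :
    Nat.card ↥(S.Q u) ≤ 8 * Nat.card ↥(S.D u) := by
  obtain ⟨y, z, hy, hz, -, -, -, hall⟩ := S.three hx
  have step : ∀ {A : Subgroup G} {w : V}, S.Adj u w → A ≤ S.Q u →
      Nat.card ↥A ≤ 2 * Nat.card ↥(A ⊓ S.Q w) := by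
    intro A w hw hA
    refine card_le_two_mul inf_le_left fun a ha b hb ha' hb' => ⟨mul_mem ha hb, ?_⟩
    have hfix : ∀ {d : G}, d ∈ A → d ∈ stabilizer G w ⊓ stabilizer G u := fun hd =>
      ⟨(hA hd).2 w hw, (hA hd).1⟩
    exact S.mul_mem_Q (S.symm hw) (hfix ha) (hfix hb) (fun h => ha' ⟨ha, h⟩) (fun h => hb' ⟨hb, h⟩)
  have h1 := step hx (le_refl (S.Q u))
  have h2 := step hy (A := S.Q u ⊓ S.Q x) inf_le_left
  have h3 := step hz (A := S.Q u ⊓ S.Q x ⊓ S.Q y) (inf_le_left.trans inf_le_left)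
  have hle : S.Q u ⊓ S.Q x ⊓ S.Q y ⊓ S.Q z ≤ S.D u := by
    intro d hd
    refine (S.mem_D).mpr ⟨hd.1.1.1, fun w hw => ?_⟩
    rcases hall w hw with rfl | rfl | rfl
    exacts [hd.1.1.2, hd.1.2, hd.2]
  have h4 := Subgroup.card_le_of_le hle
  omega

namespace Setting

variable {S} {b : ℕ} (K : S.Setting b)
include K

theorem V'_fix {u v : V} (h : S.Near (b - 1) u v) {x : G} (hx : x ∈ S.V' u) : x • v = v := by
  suffices hle : S.V' u ≤ stabilizer G v from hle hx
  refine S.V'_le fun w hw z hz => K.fix (Near.mono S (Near.trans S (S.near_one (S.symm hw)) h) ?_) hz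
  have := K.pos
  omega

/-- Any two edges with a noncentral first end are conjugate. -/
theorem exists_conj_edge {u w u' w' : V} (h : S.Adj u w) (h' : S.Adj u' w') (hu : ¬ S.Cen u)
    (hu' : ¬ S.Cen u') : ∃ g : G, g • u = u' ∧ g • w = w' := by
  obtain ⟨g, hg⟩ := S.exists_conj_of_cen K.one (u := u) (v := u') (by tauto)
  obtain ⟨k, hk, hkw⟩ := S.trans (hg ▸ S.smul g h) h'
  exact ⟨k * g, by rw [mul_smul, hg, hk], by rw [mul_smul, hkw]⟩

theorem two_all {u w : V} (h : S.Adj u w) (hu : ¬ S.Cen u) (htwo : S.Two u w) {u' w' : V}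
    (h' : S.Adj u' w') (hu' : ¬ S.Cen u') : S.Two u' w' := by
  obtain ⟨g, rfl, rfl⟩ := K.exists_conj_edge h h' hu hu'
  exact Two.smul S g htwo

/-- The commutator of `Z u` and the edge group outside `Q u` does not depend on the elements. -/
theorem comm_eq {u w : V} (h : S.Adj u w) (hw : S.Cen w) (htwo : S.Two u w) {t t' x x' : G}
    (ht : t ∈ stabilizer G u ⊓ stabilizer G w) (ht' : t' ∈ stabilizer G u ⊓ stabilizer G w)
    (htQ : t ∉ S.Q u) (htQ' : t' ∉ S.Q u) (hx : x ∈ S.Z u) (hx' : x' ∈ S.Z u)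
    (hxw : x ∉ S.Z w) (hxw' : x' ∉ S.Z w) : t' * x' * t'⁻¹ * x' = t * x * t⁻¹ * x := by
  set z := x * x' with hz
  have hzw : z ∈ S.Z w := htwo x hx x' hx' hxw hxw'
  have hzu : z ∈ S.Z u := K.Z_le_Z h hw hzw
  have ex : x' = x * z := by rw [hz, ← mul_assoc, S.Z_sq K.con hx, one_mul]
  set q := t⁻¹ * t' with hq
  have hqQ : q ∈ S.Q u := S.mul_mem_Q h (inv_mem ht) ht' (fun hh => htQ (inv_mem_iff.mp hh)) htQ'
  have et : t' = t * q := by rw [hq, mul_inv_cancel_left]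
  have hcq : q * x' = x' * q := S.Z_comm_Q K.con hx' hqQ
  have hcz : t * z = z * t := S.cen_comm K.con hw hzw ht.2
  calc t' * x' * t'⁻¹ * x' = t * (q * x') * q⁻¹ * t⁻¹ * x' := by rw [et]; group
    _ = t * x' * t⁻¹ * x' := by rw [hcq]; group
    _ = t * x * t⁻¹ * (t * z) * t⁻¹ * (x * z) := by rw [ex]; group
    _ = t * x * t⁻¹ * (z * x) * z := by rw [hcz]; group
    _ = t * x * t⁻¹ * x * (z * z) := by rw [S.Z_comm K.con hzu hx]; group
    _ = t * x * t⁻¹ * x := by rw [S.Z_sq K.con hzw, mul_one]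

theorem comm_ne_one {u w : V} (h : S.Adj u w) (hw : S.Cen w) {t x : G}
    (ht : t ∈ stabilizer G u ⊓ stabilizer G w) (htQ : t ∉ S.Q u) (hx : x ∈ S.Z u)
    (hxw : x ∉ S.Z w) : t * x * t⁻¹ * x ≠ 1 := by
  intro e
  refine hxw (K.Z_of_comm h hw ht.1 ht.2 htQ hx ?_)
  calc t * x = t * x * t⁻¹ * x * x⁻¹ * t := by group
    _ = x⁻¹ * t := by rw [e, one_mul]
    _ = x * t := by rw [S.Z_inv K.con hx]

end Setting

end Cubic

end Cfsg.Agent.Amalgam33
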