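import Cfsg.Agent.Lib.Amalgam33.TypeBThree

/-!
Critical distance three: an edge group has order at most `2 ^ 7` (`Cubic.Setting.card_le_three`).
-/

set_option autoImplicit false
set_option linter.unusedSectionVars false
set_option linter.style.haveILetI false

namespace Cfsg.Agent.Amalgam33

open MulAction Cfsg.Agent.ThompsonWielandt.Cubic

universe u₁ u₂

namespace Cubic

variable {G : Type u₁} [Group G] {V : Type u₂} [MulAction G V] (S : Cubic G V)

/-- The elements in the kernels at every vertex within two of `v`. -/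
def K2 (v : V) : Subgroup G := ⨅ (w : V) (_ : S.Near 2 v w), S.Q w

theorem mem_K2 {v : V} {g : G} : g ∈ S.K2 v ↔ ∀ w, S.Near 2 v w → g ∈ S.Q w := by
  simp [K2, Subgroup.mem_iInf]

theorem conj_mem_K2 {v : V} {x : G} (g : G) (hx : x ∈ S.K2 v) :
    g * x * g⁻¹ ∈ S.K2 (g • v) := by
  rw [mem_K2] at hx ⊢
  intro w hw
  have h := Near.smul S g⁻¹ hw
  rw [inv_smul_smul] at h
  have h' := S.conj_mem_Q g (hx _ h)
  rwa [smul_inv_smul] at h'

theorem K2_le_D (v : V) : S.K2 v ≤ S.D v := fun d hd => by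
  rw [mem_K2] at hd
  exact (S.mem_D).mpr ⟨hd v (S.near_refl 2 v),
    fun w hw => hd w (Near.mono S (S.near_one hw) (by omega))⟩

/-- The elements fixing everything within two of every neighbour of `v`. -/
def D2 (v : V) : Subgroup G := ⨅ (w : V) (_ : S.Adj v w), S.D w

theorem mem_D2 {v : V} {g : G} : g ∈ S.D2 v ↔ ∀ w, S.Adj v w → g ∈ S.D w := by
  simp [D2, Subgroup.mem_iInf]

theorem st_le_normalizer_D2 (v : V) :
    stabilizer G v ≤ Subgroup.normalizer (S.D2 v : Set G) := by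
  rw [Subgroup.le_normalizer_iff]
  intro k hk d hd
  rw [mem_D2] at hd ⊢
  intro w hw
  have h := S.conj_mem_D k (hd _ (S.adj_of_fix hw (inv_smul_fix hk)))
  rwa [smul_inv_smul] at h

namespace Setting

variable {S} [Finite G] (K : S.Setting 3) (hall : S.AllCrit 3)
include K hall

theorem out_four {r : ℕ → V} (hr : S.NB 4 r) (hc : S.Cen (r 0)) {z : G} (hz : z ∈ S.Z (r 0))
    (hz1 : z ≠ 1) : z ∉ S.Q (r 4) := by
  have h10 : S.Adj (r 1) (r 0) := S.symm (hr.1 0 (by omega))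
  have h12 : S.Adj (r 1) (r 2) := hr.1 1 (by omega)
  have k1 := K.not_cen h10 hc
  exact K.not_mem_of_two hall (NB.shift S hr (show 1 + 3 ≤ 4 by omega)) k1
    (K.three_two hall _ _ h12 k1) (K.Z_le_Z h10 hc hz)
    (fun h => hz1 (K.meet h10 h12 (hr.2 0 (by omega)) hc hz h))

theorem Z_le_K2 (v : V) : S.Z v ≤ S.K2 v := fun z hz => (S.mem_K2).mpr fun w hw => K.below v w hw hz

/-- A parity along the branches at a central vertex. -/
theorem parity_branch {v x y w w' t t' : V} (hv : S.Cen v) (hx : S.Adj v x) (hy : S.Adj v y)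
    (hxy : x ≠ y) (hw : S.Adj x w) (hw' : S.Adj x w') (hwv : w ≠ v) (hwv' : w' ≠ v) (hww : w' ≠ w)
    (ht : S.Adj y t) (ht' : S.Adj y t') (htv : t ≠ v) (htv' : t' ≠ v) (htt : t' ≠ t) {d : G}
    (hd : d ∈ S.D v) : (d ∈ S.Q w ↔ d ∈ S.Q w') ↔ (d ∈ S.Q t ↔ d ∈ S.Q t') := by
  obtain ⟨l, hl, hlx, hly, -⟩ := S.exists_third hx hy hxy.symm
  obtain ⟨s, hs, hsv⟩ := S.exists_ne (S.symm hl)
  obtain ⟨k, hk, hkl⟩ := S.exists_ne (S.symm hs)
  have kx := K.not_cen (S.symm hx) hv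
  have kl := K.not_cen (S.symm hl) hv
  have ks := K.cen hs kl
  have kk := K.not_cen (S.symm hk) ks
  have hnb : S.NB 3 (pre k (pre s (pre l fun _ => v))) :=
    NB.cons S (S.nb_two (S.symm hs) (S.symm hl) hsv) (S.symm hk) (fun _ => hkl)
  obtain ⟨a, ha, haQ⟩ := SetLike.not_le_iff_exists.mp (hall _ hnb kk)
  have hak : a ∈ S.Z k := ha
  have haQv : a ∉ S.Q v := haQ
  have hav : a • v = v := K.fix (Near.trans S (S.near_one (S.symm hk))
    (S.near_two (S.symm hs) (S.symm hl))) hak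
  have hal : a • l = l := K.fix (Near.mono S (S.near_two (S.symm hk) (S.symm hs)) (by omega)) hak
  have hax : a • x = y := S.swap_eq hl hx hy hlx.symm hly.symm hxy.symm hav hal haQv
  have hainv := S.Z_inv K.con hak
  -- the commutator lies in `Z l`
  set e := d⁻¹ * a * d * a with he
  have hdl : d⁻¹ ∈ S.Q l := inv_mem (((S.mem_D).mp hd).2 l hl)
  have hds : d⁻¹ • s = s := hdl.2 s hs
  have hdll : d⁻¹ • l = l := hdl.1
  have hek : d⁻¹ * a * d ∈ S.Z (d⁻¹ • k) := by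
    have h := S.conj_mem_Z d⁻¹ hak
    rwa [inv_inv] at h
  have hel : e ∈ S.Z l := by
    by_cases hkk : d⁻¹ • k = k
    · have h := K.comm_mem (S.symm hk) ks hkk hds hak
      rw [inv_inv] at h
      exact K.Z_le_Z hs ks h
    obtain ⟨g, hg, hgk⟩ := S.trans hk (S.symm hs)
    have hkk' : d⁻¹ • k ≠ l := fun h => hkl (MulAction.injective d⁻¹ (h.trans hdll.symm))
    have hσ := K.three_sigma hall ks hk (S.symm hs) (S.adj_of_fix hk hds) hkl hkk hkk' hak hg hgk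
      hds rfl
    rw [inv_inv] at hσ
    have hgm : g * a * g⁻¹ ∈ S.Z l := hgk ▸ S.conj_mem_Z g hak
    have m1 : a ∈ S.V' s := S.Z_le_V' hk hak
    have m2 : g * a * g⁻¹ ∈ S.V' s := S.Z_le_V' (S.symm hs) hgm
    have m3 : d⁻¹ * a * d ∈ S.V' s := S.Z_le_V' (S.adj_of_fix hk hds) hek
    have hcm : ∀ {x y : G}, x ∈ S.V' s → y ∈ S.V' s → x * y = y * x :=
      fun h h' => K.V'_comm le_rfl h h'
    rw [hcm m1 m2, mul_assoc, hcm m1 m3] at hσ
    have h := mul_mem (inv_mem hgm) hσ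
    rwa [inv_mul_cancel_left] at h
  have key : ∀ {w : V}, S.Adj x w → w ≠ v →
      (d ∈ S.Q (a • w) ↔ (d ∈ S.Q w ↔ e ∈ S.Z v)) := by
    intro w hw hwv
    have kw := K.cen hw kx
    have hdE : d ∈ stabilizer G w ⊓ stabilizer G x :=
      ⟨(((S.mem_D).mp hd).2 x hx).2 w hw, (((S.mem_D).mp hd).2 x hx).1⟩
    have hn3 : S.Near 3 l w := Near.trans S (S.near_two (S.symm hl) hx) (S.near_one hw)
    have heE : e ∈ stabilizer G w ⊓ stabilizer G x :=
      ⟨K.fix hn3 hel, K.fix (Near.mono S (S.near_two (S.symm hl) hx) (by omega)) hel⟩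
    have h1 : d ∈ S.Q (a • w) ↔ d * e ∈ S.Q w := by
      have e1 : d * e = a * d * a⁻¹ := by rw [he, hainv]; group
      rw [e1]
      constructor
      · intro h
        have h' := S.conj_mem_Q a h
        rwa [smul_smul, S.Z_sq K.con hak, one_smul] at h'
      · intro h
        have h' := S.conj_mem_Q a⁻¹ h
        rwa [show a⁻¹ * (a * d * a⁻¹) * a⁻¹⁻¹ = d by group, hainv] at h'
    rw [h1, S.mul_mem_Q_iff (S.symm hw) hdE heE]
    refine iff_congr Iff.rfl ⟨fun h => ?_, fun h => K.below v w (S.near_two hx hw) h⟩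
    by_contra hev
    exact K.not_mem_of_two hall (NB.cons S (S.nb_two hx hw hwv.symm) (S.symm hl) (fun _ => hlx)) kl
      (K.three_two hall _ _ (S.symm hl) kl) hel hev h
  have hne : a • w' ≠ a • w := fun h => hww (MulAction.injective a h)
  have hfin : (d ∈ S.Q (a • w) ↔ d ∈ S.Q (a • w')) ↔ (d ∈ S.Q w ↔ d ∈ S.Q w') := by
    rw [key hw hwv, key hw' hwv']
    by_cases hev : e ∈ S.Z v <;> simp [hev, not_iff_not]
  have hmem : ∀ {u : V}, S.Adj x u → u ≠ v → a • u = t ∨ a • u = t' := by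
    intro u hu huv
    rcases S.eq_of_three (S.symm hy) ht ht' (hax ▸ S.smul a hu) htv htv' htt with h | h | h
    · exact absurd (MulAction.injective a (h.trans hav.symm)) huv
    · exact Or.inl h
    · exact Or.inr h
  rcases hmem hw hwv with h | h <;> rcases hmem hw' hwv' with h' | h'
  · exact absurd (h'.trans h.symm) hne
  · rw [h, h'] at hfin; exact hfin.symm
  · rw [h, h'] at hfin; exact hfin.symm.trans Iff.comm
  · exact absurd (h'.trans h.symm) hne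

/-- An element fixing everything within three fixes everything within two of the outer vertices. -/
theorem K2_le_D_far {v x w : V} (hv : S.Cen v) (hx : S.Adj v x) (hw : S.Adj x w) (hwv : w ≠ v)
    {d : G} (hd : d ∈ S.K2 v) : d ∈ S.D w := by
  have hd' := (S.mem_K2).mp hd
  have kx := K.not_cen (S.symm hx) hv
  have kw := K.cen hw kx
  have hdw : d ∈ S.Q w := hd' w (S.near_two hx hw)
  refine (S.mem_D).mpr ⟨hdw, fun k hk => ?_⟩
  by_cases hkx : k = x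
  · exact hkx ▸ hd' x (Near.mono S (S.near_one hx) (by omega))
  have kk := K.not_cen (S.symm hk) kw
  have hnb : S.NB 3 (pre k (pre w (pre x fun _ => v))) :=
    NB.cons S (S.nb_two (S.symm hw) (S.symm hx) hwv) (S.symm hk) (fun _ => hkx)
  obtain ⟨u, hu, huQ⟩ := SetLike.not_le_iff_exists.mp (hall _ hnb kk)
  have huk : u ∈ S.Z k := hu
  have huv : u • v = v :=
    K.fix (Near.trans S (S.near_one (S.symm hk)) (S.near_two (S.symm hw) (S.symm hx))) huk
  have huw : u ∉ S.Z w := fun h =>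
    (show u ∉ S.Q v from huQ) (K.below w v (S.near_two (S.symm hw) (S.symm hx)) h)
  have hdk : d • k = k := hdw.2 k hk
  have he := K.comm_mem (S.symm hk) kw hdk hdw.1 huk
  set e := d * u * d⁻¹ * u with hedef
  have heK : e ∈ S.K2 v := by
    have h := S.conj_mem_K2 u (inv_mem hd)
    rw [huv, S.Z_inv K.con huk] at h
    have h' := mul_mem hd h
    rwa [show d * (u * d⁻¹ * u) = e by rw [hedef]; simp only [mul_assoc]] at h'
  have he1 : e = 1 := by
    by_contra hne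
    obtain ⟨y, hy, hyx⟩ := S.exists_ne hx
    obtain ⟨t, ht, htv⟩ := S.exists_ne (S.symm hy)
    exact K.out_four hall
      (NB.cons S (NB.cons S (S.nb_two hy ht htv.symm) (S.symm hx) (fun _ => hyx.symm)) (S.symm hw)
        (fun _ => hwv)) kw he hne ((S.mem_K2).mp heK t (S.near_two hy ht))
  have hc : d * u = u * d :=
    calc d * u = e * u⁻¹ * d := by rw [hedef]; group
      _ = u * d := by rw [he1, one_mul, S.Z_inv K.con huk]
  by_contra hdQ
  exact huw (K.Z_of_comm (S.symm hk) kw hdk hdw.1 hdQ huk hc)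

theorem K2_le_D2 {v x : V} (hv : S.Cen v) (hx : S.Adj v x) : S.K2 v ≤ S.D2 x := fun d hd =>
  (S.mem_D2).mpr fun w hw => by
    by_cases hwv : w = v
    · exact hwv ▸ S.K2_le_D v hd
    · exact K.K2_le_D_far hall hv hx hw hwv hd

/-- If `d` fixes everything within two of `j` and `i` and lies in the kernels at the outer vertices `i'` and
`m`, it lies in all kernels within two of `j`. -/
theorem mem_K2_of {v j i i' y m : V} (hj : S.Cen j) (hv : S.Adj j v) (hi : S.Adj v i)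
    (hi' : S.Adj v i') (hij : i ≠ j) (hij' : i' ≠ j) (hii : i' ≠ i) (hy : S.Adj j y) (hyv : y ≠ v)
    (hm : S.Adj y m) (hmj : m ≠ j) {d : G} (hd : d ∈ S.D j) (hdi : d ∈ S.D i)
    (hdi' : d ∈ S.Q i') (hdm : d ∈ S.Q m) : d ∈ S.K2 j := by
  have kv := K.not_cen (S.symm hv) hj
  have ki := K.cen hi kv
  have hdv : ∀ w, S.Adj v w → d ∈ S.Q w := by
    intro w hw
    rcases S.eq_of_three (S.symm hv) hi hi' hw hij hij' hii with rfl | rfl | rfl
    exacts [((S.mem_D).mp hd).1, ((S.mem_D).mp hdi).1, hdi']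
  have branch : ∀ {y t : V}, S.Adj j y → y ≠ v → S.Adj y t → t ≠ j → d ∈ S.Q t →
      ∀ s, S.Adj y s → d ∈ S.Q s := by
    intro y t hy hyv ht htj hdt s hs
    by_cases hst : s = t
    · exact hst ▸ hdt
    by_cases hsj : s = j
    · exact hsj ▸ ((S.mem_D).mp hd).1
    exact ((K.parity_branch hall hj hv hy hyv.symm hi hi' hij hij' hii ht hs htj hsj hst hd).mp
      (iff_of_true (hdv i hi) (hdv i' hi'))).mp hdt
  obtain ⟨k, hk, hkv⟩ := S.exists_ne (S.symm hi)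
  have kk := K.not_cen (S.symm hk) ki
  have hnb : S.NB 3 (pre k (pre i (pre v fun _ => j))) :=
    NB.cons S (S.nb_two (S.symm hi) (S.symm hv) hij) (S.symm hk) (fun _ => hkv)
  obtain ⟨u, hu, huQ⟩ := SetLike.not_le_iff_exists.mp (hall _ hnb kk)
  have huk : u ∈ S.Z k := hu
  have huj : u • j = j :=
    K.fix (Near.trans S (S.near_one (S.symm hk)) (S.near_two (S.symm hi) (S.symm hv))) huk
  have huv : u • v = v := K.fix (Near.mono S (S.near_two (S.symm hk) (S.symm hi)) (by omega)) huk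
  have hdk : d ∈ S.Q k := ((S.mem_D).mp hdi).2 k hk
  have hc := S.Z_comm_Q K.con huk hdk
  obtain ⟨huy, huy'⟩ := S.moved hv hy hyv huj huv (show u ∉ S.Q j from huQ)
  have hdum : d ∈ S.Q (u • m) := by
    have h := S.conj_mem_Q u hdm
    rwa [← hc, mul_inv_cancel_right] at h
  rw [S.mem_K2]
  intro w hw
  rcases hw with rfl | ⟨z, hz, hzw⟩
  · exact ((S.mem_D).mp hd).1
  rcases hzw with rfl | ⟨w', hw', hww'⟩
  · exact ((S.mem_D).mp hd).2 _ hz
  obtain rfl : w' = w := hww'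
  rcases S.eq_of_three hv hy (S.adj_of_fix hy huj) hz hyv huy' huy with rfl | rfl | rfl
  · exact hdv _ hw'
  · exact branch hy hyv hm hmj hdm _ hw'
  · exact branch hz huy' (S.smul u hm) (fun h => hmj (MulAction.injective u (h.trans huj.symm)))
      hdum _ hw'

/-- `K2 j` has index at most two in `D2 v`. -/
theorem D2_step {v j : V} (hj : S.Cen j) (hv : S.Adj j v) {d d' : G} (hd : d ∈ S.D2 v)
    (hd' : d' ∈ S.D2 v) (h : d ∉ S.K2 j) (h' : d' ∉ S.K2 j) : d * d' ∈ S.K2 j := by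
  obtain ⟨i, i', hi, hi', hij, hij', hii, -⟩ := S.three (S.symm hv)
  obtain ⟨y, hy, hyv⟩ := S.exists_ne hv
  obtain ⟨m, hm, hmj⟩ := S.exists_ne (S.symm hy)
  have hdD := fun {d : G} (hd : d ∈ S.D2 v) (w : V) (hw : S.Adj v w) => (S.mem_D2).mp hd w hw
  have mk : ∀ {d : G}, d ∈ S.D2 v → d ∈ S.Q m → d ∈ S.K2 j := fun hd hdm =>
    K.mem_K2_of hall hj hv hi hi' hij hij' hii hy hyv hm hmj (hdD hd j (S.symm hv)) (hdD hd i hi)
      ((S.mem_D).mp (hdD hd i' hi')).1 hdm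
  have hE : ∀ {d : G}, d ∈ S.D2 v → d ∈ stabilizer G m ⊓ stabilizer G y := fun hd =>
    ⟨(((S.mem_D).mp (hdD hd j (S.symm hv))).2 y hy).2 m hm,
      (((S.mem_D).mp (hdD hd j (S.symm hv))).2 y hy).1⟩
  exact mk (mul_mem hd hd') (S.mul_mem_Q (S.symm hm) (hE hd) (hE hd')
    (fun hh => h (mk hd hh)) (fun hh => h' (mk hd' hh)))

theorem not_mem_K2 {v i j : V} (hi : S.Cen i) (hiv : S.Adj v i) (hjv : S.Adj v j) (hne : j ≠ i)
    {z : G} (hz : z ∈ S.Z i) (hz1 : z ≠ 1) : z ∉ S.K2 j := by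
  intro h
  obtain ⟨l, hl, hlv⟩ := S.exists_ne (S.symm hjv)
  obtain ⟨m, hm, hmj⟩ := S.exists_ne (S.symm hl)
  exact K.out_four hall (NB.cons S (NB.cons S (S.nb_two hl hm hmj.symm) hjv (fun _ => hlv.symm))
    (S.symm hiv) (fun _ => hne.symm)) hi hz hz1 ((S.mem_K2).mp h m (S.near_two hl hm))

/-- `K2` is the centre of the edge groups, and `D2` is `Z`. -/
theorem K2_D2 {v j : V} (hj : S.Cen j) (hv : S.Adj j v) :
    S.K2 j ≤ S.Z j ∧ S.D2 v ≤ S.Z v := by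
  have kv := K.not_cen (S.symm hv) hj
  obtain ⟨i, i', hi, hi', hij, hij', hii, hnb⟩ := S.three (S.symm hv)
  have ki := K.cen hi kv
  have ki' := K.cen hi' kv
  have cenj : ∀ w, S.Adj v w → S.Cen w := fun w hw => K.cen hw kv
  set W := S.D2 v with hW
  -- the common intersection is trivial
  have hbot : ∀ d ∈ W, d ∈ S.K2 j → d ∈ S.K2 i → d ∈ S.K2 i' → d = 1 := by
    let N := W ⊓ ⨅ (w : V) (_ : S.Adj v w), S.K2 w
    have hNmem : ∀ {d : G}, d ∈ N ↔ d ∈ W ∧ ∀ w, S.Adj v w → d ∈ S.K2 w := fun {d} => by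
      simp [N, Subgroup.mem_inf, Subgroup.mem_iInf]
    suffices h : N = ⊥ by
      intro d hd h1 h2 h3
      refine Subgroup.mem_bot.mp (h ▸ hNmem.mpr ⟨hd, fun w hw => ?_⟩)
      rcases hnb w hw with rfl | rfl | rfl <;> assumption
    by_contra hne
    have hNE : N ≤ stabilizer G v ⊓ stabilizer G j := fun d hd => by
      have h := (S.mem_D).mp ((S.mem_D2).mp (hNmem.mp hd).1 j (S.symm hv))
      exact ⟨(h.2 v hv).1, h.1.1⟩
    have hNn : stabilizer G v ≤ Subgroup.normalizer (N : Set G) := by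
      rw [Subgroup.le_normalizer_iff]
      intro k hk d hd
      rw [hNmem] at hd ⊢
      refine ⟨(Subgroup.le_normalizer_iff.mp (S.st_le_normalizer_D2 v)) k hk d hd.1, fun w hw => ?_⟩
      have h := S.conj_mem_K2 k (hd.2 _ (S.adj_of_fix hw (inv_smul_fix hk)))
      rwa [smul_inv_smul] at h
    obtain ⟨z, hzN, hz, hz1⟩ :=
      S.exists_central_mem (S.symm hv) hNE (inf_le_left.trans hNn) hne
    rw [K.Zc_eq (S.symm hv) hj] at hz
    exact K.not_mem_K2 hall hj (S.symm hv) hi hij hz hz1 ((hNmem.mp hzN).2 i hi)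
  have hZW : ∀ w, S.Adj v w → S.Z w ≤ W := fun w hw =>
    (K.Z_le_K2 hall w).trans (K.K2_le_D2 hall (cenj w hw) (S.symm hw))
  have step : ∀ w, S.Adj v w → ∀ {d d' : G}, d ∈ W → d' ∈ W → d ∉ S.K2 w → d' ∉ S.K2 w →
      d * d' ∈ S.K2 w := fun w hw d d' hd hd' => K.D2_step hall (cenj w hw) (S.symm hw) hd hd'
  have inW : ∀ {w : V} {d d' : G}, S.Adj v w → d ∈ W → d' ∈ W →
      (d * d' ∈ S.K2 w ↔ (d ∈ S.K2 w ↔ d' ∈ S.K2 w)) := by
    intro w d d' hw hd hd'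
    by_cases h1 : d ∈ S.K2 w
    · simp [h1, (S.K2 w).mul_mem_cancel_left h1]
    · by_cases h2 : d' ∈ S.K2 w
      · simp [h1, h2, (S.K2 w).mul_mem_cancel_right h2]
      · simp [h1, h2, step w hw hd hd' h1 h2]
  have hjv : S.Adj v j := S.symm hv
  -- no element lies outside all three
  have noall : ∀ d ∈ W, d ∉ S.K2 j → d ∉ S.K2 i → d ∉ S.K2 i' → False := by
    intro d hd h1 h2 h3
    have hsq : d * d = 1 := hbot _ (mul_mem hd hd) ((inW hjv hd hd).mpr Iff.rfl)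
      ((inW hi hd hd).mpr Iff.rfl) ((inW hi' hd hd).mpr Iff.rfl)
    have hall3 : ∀ w, S.Adj v w → d ∉ S.K2 w := fun w hw => by
      rcases hnb w hw with rfl | rfl | rfl <;> assumption
    have hfix : ∀ k : G, k • v = v → k * d = d * k := by
      intro k hk
      have hd' : k * d * k⁻¹ ∈ W :=
        (Subgroup.le_normalizer_iff.mp (S.st_le_normalizer_D2 v)) k hk d hd
      have hout : ∀ w, S.Adj v w → k * d * k⁻¹ ∉ S.K2 w := fun w hw hin => by
        have h := S.conj_mem_K2 k⁻¹ hin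
        rw [show k⁻¹ * (k * d * k⁻¹) * k⁻¹⁻¹ = d by group] at h
        exact hall3 _ (S.adj_of_fix hw (inv_smul_fix hk)) h
      have h := hbot _ (mul_mem hd' hd) ((inW hjv hd' hd).mpr (iff_of_false (hout j hjv) h1))
        ((inW hi hd' hd).mpr (iff_of_false (hout i hi) h2))
        ((inW hi' hd' hd).mpr (iff_of_false (hout i' hi') h3))
      calc k * d = k * d * k⁻¹ * (d * d) * k * (d * d) := by rw [hsq]; group
        _ = (k * d * k⁻¹ * d) * (d * k) * (d * d) := by group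
        _ = d * k := by rw [h, one_mul, hsq, mul_one]
    have hfix' : d ∈ stabilizer G v := (((S.mem_D).mp ((S.mem_D2).mp hd j hjv)).2 v hv).1
    have mem : ∀ w, S.Adj v w → d ∈ S.Z w := fun w hw => by
      rw [← K.Zc_eq hw (cenj w hw)]
      exact ⟨⟨hfix', ((S.mem_D).mp ((S.mem_D2).mp hd w hw)).1.1⟩, fun k hk => hfix k hk.1, hsq⟩
    exact h1 ((K.meet hjv hi hij hj (mem j hjv) (mem i hi)) ▸ one_mem _)
  obtain ⟨z, hz, hz1⟩ := K.Z_ne_bot j ⟨v, hv⟩
  obtain ⟨z', hz', hz'1⟩ := K.Z_ne_bot i ⟨v, S.symm hi⟩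
  have zK := K.Z_le_K2 hall j hz
  have zW : z ∈ W := hZW j hjv hz
  have z'W : z' ∈ W := hZW i hi hz'
  have zi : z ∉ S.K2 i := K.not_mem_K2 hall hj hjv hi hij hz hz1
  have zi' : z ∉ S.K2 i' := K.not_mem_K2 hall hj hjv hi' hij' hz hz1
  have z'j : z' ∉ S.K2 j := K.not_mem_K2 hall ki hi hjv hij.symm hz' hz'1
  have z'i' : z' ∉ S.K2 i' := K.not_mem_K2 hall ki hi hi' hii hz' hz'1
  have z'i : z' ∈ S.K2 i := K.Z_le_K2 hall i hz'
  have two_in : ∀ d ∈ W, d ∈ S.K2 j → d ∈ S.K2 i → d = 1 := by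
    intro d hd h1 h2
    by_cases h3 : d ∈ S.K2 i'
    · exact hbot d hd h1 h2 h3
    exfalso
    have hzz := mul_mem zW z'W
    refine noall (d * (z * z')) (mul_mem hd hzz) ?_ ?_ ?_
    · rw [inW hjv hd hzz, inW hjv zW z'W]; simp [h1, zK, z'j]
    · rw [inW hi hd hzz, inW hi zW z'W]; simp [h2, zi, z'i]
    · rw [inW hi' hd hzz, inW hi' zW z'W]; simp [h3, zi', z'i']
  have hK : S.K2 j ≤ S.Z j := by
    intro d hd
    have hdW : d ∈ W := K.K2_le_D2 hall hj hv hd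
    by_cases hdi : d ∈ S.K2 i
    · rw [two_in d hdW hd hdi]; exact one_mem _
    · have h := two_in _ (mul_mem hdW zW) (mul_mem hd zK) ((inW hi hdW zW).mpr (iff_of_false hdi zi))
      rw [mul_eq_one_iff_eq_inv.mp h]
      exact inv_mem hz
  refine ⟨hK, fun d hd => ?_⟩
  by_cases hdj : d ∈ S.K2 j
  · exact K.Z_le_Z hjv hj (hK hdj)
  · have h := K.Z_le_Z hjv hj (hK ((inW hjv hd z'W).mpr (iff_of_false hdj z'j)))
    exact ((S.Z v).mul_mem_cancel_right (K.Z_le_Z hi ki hz')).mp h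

theorem card_Z_le {j v : V} (hj : S.Cen j) (hv : S.Adj j v) : Nat.card ↥(S.Z j) ≤ 2 := by
  classical
  obtain ⟨z, hz, hz1⟩ := K.Z_ne_bot j ⟨v, hv⟩
  let f : ↥(S.Z j) → Bool := fun x => decide ((x : G) = z)
  have hf : Function.Injective f := by
    intro x y h
    have hu : ∀ x : ↥(S.Z j), (x : G) ≠ z → (x : G) = 1 := fun x hx => by
      by_contra h1
      exact hx (K.unique (K.three_two hall) hj ⟨v, hv⟩ x.2 hz h1 hz1)
    simp only [f, decide_eq_decide] at h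
    refine Subtype.ext ?_
    by_cases hx : (x : G) = z
    · rw [hx, h.mp hx]
    · rw [hu x hx, hu y fun e => hx (h.mpr e)]
  exact (Nat.card_le_card_of_injective f hf).trans (by simp)

theorem card_F_le {p : ℕ → V} (hp : S.NB 4 p) (hc : ¬ S.Cen (p 0)) {o : V} (ho : S.Adj (p 2) o)
    (ho1 : o ≠ p 1) (ho3 : o ≠ p 3) :
    Nat.card ↥(S.D (p 1) ⊓ S.D (p 3) ⊓ S.Q o) ≤ 4 := by
  have h01 : S.Adj (p 0) (p 1) := hp.1 0 (by omega)
  have h12 : S.Adj (p 1) (p 2) := hp.1 1 (by omega)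
  have h23 : S.Adj (p 2) (p 3) := hp.1 2 (by omega)
  have k1 : S.Cen (p 1) := K.cen h01 hc
  obtain ⟨m, hm, hm1⟩ := S.exists_ne h01
  set F := S.D (p 1) ⊓ S.D (p 3) ⊓ S.Q o with hF
  have hle : F ⊓ S.Q m ≤ S.Z (p 1) := fun d hd =>
    (K.K2_D2 hall k1 h12).1 (K.mem_K2_of hall k1 h12 h23 ho (hp.2 1 (by omega)) ho1 ho3
      (S.symm h01) (hp.2 0 (by omega)).symm hm hm1 hd.1.1.1 hd.1.1.2 hd.1.2 hd.2)
  have h2 : Nat.card ↥F ≤ 2 * Nat.card ↥(F ⊓ S.Q m) := by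
    refine card_le_two_mul inf_le_left fun a ha b hb h h' => ⟨mul_mem ha hb, ?_⟩
    have hfix : ∀ {d : G}, d ∈ F → d ∈ stabilizer G m ⊓ stabilizer G (p 0) := fun hd =>
      ⟨(((S.mem_D).mp hd.1.1).2 _ (S.symm h01)).2 m hm, (((S.mem_D).mp hd.1.1).2 _ (S.symm h01)).1⟩
    exact S.mul_mem_Q (S.symm hm) (hfix ha) (hfix hb) (fun hh => h ⟨ha, hh⟩) (fun hh => h' ⟨hb, hh⟩)
  have h3 := Subgroup.card_le_of_le hle
  have h4 := K.card_Z_le hall k1 h12
  omega

/-- The commutator of the two exceptional elements is not central at the first vertex. -/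
theorem sep {c v i i' : V} (hc : S.Cen c) (hv : S.Adj c v) (hi : S.Adj v i) (hi' : S.Adj v i')
    (hic : i ≠ c) (hic' : i' ≠ c) (hii : i' ≠ i) {x y : G} (hx : x ∈ S.D c) (hxi : x ∈ S.Q i)
    (hxi' : x ∉ S.Q i') (hy : y ∈ S.Q c) (hyv : y ∈ S.Q v) (hyD : y ∉ S.D c) :
    y * x * y⁻¹ * x⁻¹ ∉ S.Z c := by
  intro hz
  obtain ⟨o, l, ho, hl, hov, hlv, hlo, hnb⟩ := S.three hv
  have hyo : y ∉ S.Q o := fun h => hyD ((S.mem_D).mpr ⟨hy, fun w hw => by
    rcases hnb w hw with rfl | rfl | rfl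
    exacts [hyv, h, (K.three_even hall hc hv ho hl hov.symm hlv hlo hy).mpr (iff_of_true hyv h)]⟩)
  obtain ⟨w, w', hw, hw', hwc, hwc', hww, hnb'⟩ := S.three (S.symm ho)
  have hpar := K.parity_branch hall hc hv ho hov.symm hi hi' hic hic' hii hw hw' hwc hwc' hww hx
  have hyw : y • w = w' :=
    S.swap_eq (S.symm ho) hw hw' hwc hwc' hww (hy.2 o ho) hy.1 hyo
  have h1 : x ∈ S.Q w ↔ y * x * y⁻¹ ∈ S.Q w' := by
    rw [← hyw]
    exact ⟨S.conj_mem_Q y, fun h => by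
      have h' := S.conj_mem_Q y⁻¹ h
      rwa [inv_smul_smul, show y⁻¹ * (y * x * y⁻¹) * y⁻¹⁻¹ = x by group] at h'⟩
  have h2 : y * x * y⁻¹ ∈ S.Q w' ↔ x ∈ S.Q w' := by
    rw [show y * x * y⁻¹ = y * x * y⁻¹ * x⁻¹ * x by group]
    exact (S.Q w').mul_mem_cancel_left (K.below c w' (S.near_two ho hw') hz)
  exact hxi' ((hpar.mpr (h1.trans h2)).mp hxi)

/-- The exceptional configuration is impossible. -/
theorem three_contra {p : ℕ → V} (hp : S.NB 4 p) (hc : ¬ S.Cen (p 0)) {o : V}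
    (ho : S.Adj (p 2) o) (ho1 : o ≠ p 1) (ho3 : o ≠ p 3) {x y : G}
    (hx : x ∈ S.D (p 1) ⊓ S.D (p 3)) (hxo : x ∉ S.Q o)
    (hy : y ∈ S.D (p 1) ⊓ S.Q (p 3)) (hy3 : y ∉ S.D (p 3)) (hyo : y ∈ S.Q o) : False := by
  have htwo := K.three_two hall
  have h01 : S.Adj (p 0) (p 1) := hp.1 0 (by omega)
  have h12 : S.Adj (p 1) (p 2) := hp.1 1 (by omega)
  have h23 : S.Adj (p 2) (p 3) := hp.1 2 (by omega)
  have n13 : p 3 ≠ p 1 := hp.2 1 (by omega)
  have n02 : p 0 ≠ p 2 := (hp.2 0 (by omega)).symm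
  have k1 : S.Cen (p 1) := K.cen h01 hc
  have k2 : ¬ S.Cen (p 2) := K.not_cen (S.symm h12) k1
  have k3 : S.Cen (p 3) := K.cen h23 k2
  have ko : S.Cen o := K.cen ho k2
  obtain ⟨l, l', hl, hl', hl2, hl2', hll, hnbo⟩ := S.three (S.symm ho)
  -- an element of `Z (p 0)` moving at `o`
  have hnb0 : S.NB 3 (pre (p 0) (pre (p 1) (pre (p 2) fun _ => o))) :=
    NB.cons S (S.nb_two h12 ho ho1.symm) h01 (fun _ => n02)
  obtain ⟨a, ha, haQ⟩ := SetLike.not_le_iff_exists.mp (hall _ hnb0 hc)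
  have ha0 : a ∈ S.Z (p 0) := ha
  have hao : a ∉ S.Q o := haQ
  have hafo : a • o = o := K.fix (Near.trans S (S.near_two h01 h12) (S.near_one ho)) ha0
  have haf2 : a • p 2 = p 2 := K.fix (Near.mono S (S.near_two h01 h12) (by omega)) ha0
  have hainv := S.Z_inv K.con ha0
  have hal : a • l = l' := S.swap_eq (S.symm ho) hl hl' hl2 hl2' hll hafo haf2 hao
  have hyc : y * a = a * y := S.Z_comm_Q K.con ha0 (((S.mem_D).mp hy.1).2 _ (S.symm h01))
  have hyl : y ∈ S.Q l ↔ y ∈ S.Q l' := by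
    constructor
    · intro h
      have h' := S.conj_mem_Q a h
      rwa [hal, ← hyc, mul_inv_cancel_right] at h'
    · intro h
      have h' := S.conj_mem_Q a⁻¹ h
      rwa [← hal, inv_smul_smul, inv_inv, mul_assoc, hyc, inv_mul_cancel_left] at h'
  -- the conjugate of `y`
  obtain ⟨g, hg2, hgo, hg1⟩ := S.swap ho (S.symm h12) h23 ho1.symm ho3.symm
  have hg3 : g • p 3 = p 1 := by
    rcases S.eq_of_three (S.symm h12) h23 ho (S.adj_of_fix h23 hg2) n13 ho1 ho3 with h | h | h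
    · exact h
    · exact absurd (MulAction.injective g (h.trans hg1.symm)) n13
    · exact absurd (MulAction.injective g (h.trans hgo.symm)) ho3.symm
  have hy2 : y ∈ S.Q (p 2) := ((S.mem_D).mp hy.1).2 _ h12
  set y' := g * y * g⁻¹ with hy'def
  have hy'D3 : y' ∈ S.D (p 3) := hg1 ▸ S.conj_mem_D g hy.1
  have hy'1 : y' ∈ S.Q (p 1) := hg3 ▸ S.conj_mem_Q g hy.2
  have hy'2 : y' ∈ S.Q (p 2) := S.conj_mem_Q_of_fix hg2 hy2
  have hy'o : y' ∈ S.Q o := S.conj_mem_Q_of_fix hgo hyo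
  have hy'D1 : y' ∉ S.D (p 1) := fun h => hy3 (by
    have h' := S.conj_mem_D g⁻¹ h
    rwa [← hg3, inv_smul_smul, hy'def, show g⁻¹ * (g * y * g⁻¹) * g⁻¹⁻¹ = y by group] at h')
  have hy'l : ∀ k, S.Adj o k → k ≠ p 2 → (y' ∈ S.Q k ↔ y ∈ S.Q l) := by
    intro k hk hk2
    have hk' : S.Adj o (g⁻¹ • k) := S.adj_of_fix hk (inv_smul_fix hgo)
    have hk2' : g⁻¹ • k ≠ p 2 := fun h => hk2 (by rw [inv_smul_eq_iff.mp h, hg2])
    have h1 : y' ∈ S.Q k ↔ y ∈ S.Q (g⁻¹ • k) := by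
      constructor
      · intro h
        have h' := S.conj_mem_Q g⁻¹ h
        rwa [hy'def, show g⁻¹ * (g * y * g⁻¹) * g⁻¹⁻¹ = y by group] at h'
      · intro h
        have h' := S.conj_mem_Q g h
        rwa [smul_inv_smul] at h'
    rcases hnbo _ hk' with h | h | h
    · exact absurd h hk2'
    · rw [h1, h]
    · rw [h1, h]; exact hyl.symm
  set n := y * y' with hn
  have hn1 : n ∈ S.Q (p 1) := mul_mem ((S.mem_D).mp hy.1).1 hy'1
  have hn3 : n ∈ S.Q (p 3) := mul_mem hy.2 ((S.mem_D).mp hy'D3).1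
  have hn2 : n ∈ S.Q (p 2) := mul_mem hy2 hy'2
  have hnD1 : n ∉ S.D (p 1) := fun h => hy'D1 (((S.D (p 1)).mul_mem_cancel_left hy.1).mp h)
  have hnD3 : n ∉ S.D (p 3) := fun h => hy3 (((S.D (p 3)).mul_mem_cancel_right hy'D3).mp h)
  have hnDo : n ∈ S.D o := by
    refine (S.mem_D).mpr ⟨mul_mem hyo hy'o, fun k hk => ?_⟩
    by_cases hk2 : k = p 2
    · exact hk2 ▸ hn2
    have hE : ∀ {d : G}, d ∈ S.Q o → d ∈ stabilizer G k ⊓ stabilizer G o := fun hd =>
      ⟨hd.2 k hk, hd.1⟩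
    rw [hn, S.mul_mem_Q_iff (S.symm hk) (hE hyo) (hE hy'o), hy'l k hk hk2]
    rcases hnbo k hk with rfl | rfl | rfl
    · exact absurd rfl hk2
    · exact Iff.rfl
    · exact hyl.symm
  have hx2 : x ∈ S.Q (p 2) := ((S.mem_D).mp hx.1).2 _ h12
  have hxfo : x • o = o := hx2.2 o ho
  set v := n * x * n⁻¹ * x⁻¹ with hvdef
  have hvD : v ∈ S.D2 (p 2) := by
    rw [S.mem_D2]
    intro w hw
    rcases S.eq_of_three (S.symm h12) h23 ho hw n13 ho1 ho3 with rfl | rfl | rfl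
    · have h := S.conj_mem_D n hx.1
      rw [hn1.1] at h
      exact mul_mem h (inv_mem hx.1)
    · have h := S.conj_mem_D n hx.2
      rw [hn3.1] at h
      exact mul_mem h (inv_mem hx.2)
    · have h := S.conj_mem_D x (inv_mem hnDo)
      rw [hxfo] at h
      have h' := mul_mem hnDo h
      rwa [← mul_assoc, ← mul_assoc] at h'
  have hv2 : v ∈ S.Z (p 2) := (K.K2_D2 hall k1 h12).2 hvD
  have hv1 : v ∉ S.Z (p 1) :=
    K.sep hall k1 h12 h23 ho n13 ho1 ho3 hx.1 ((S.mem_D).mp hx.2).1 hxo hn1 hn2 hnD1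
  have hv3 : v ∉ S.Z (p 3) :=
    K.sep hall k3 (S.symm h23) (S.symm h12) ho n13.symm ho3 ho1 hx.2 ((S.mem_D).mp hx.1).1 hxo
      hn3 hn2 hnD3
  have hvo : v ∈ S.Z o := by
    by_contra hno
    obtain ⟨z, hz, hz1⟩ := K.Z_ne_bot (p 1) ⟨_, h12⟩
    obtain ⟨z', hz', hz'1⟩ := K.Z_ne_bot (p 3) ⟨_, S.symm h23⟩
    have hzm := K.Z_le_Z (S.symm h12) k1 hz
    have hzm' := K.Z_le_Z h23 k3 hz'
    have e1 := htwo _ _ ho k2 v hv2 z hzm hno
      (fun h => hz1 (K.meet (S.symm h12) ho ho1 k1 hz h))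
    have e2 := htwo _ _ ho k2 v hv2 z' hzm' hno
      (fun h => hz'1 (K.meet h23 ho ho3 k3 hz' h))
    have ne1 : v * z ≠ 1 := fun h => hv1 ((mul_eq_one_iff_eq_inv.mp h).symm ▸ inv_mem hz)
    have ne2 : v * z' ≠ 1 := fun h => hv3 ((mul_eq_one_iff_eq_inv.mp h).symm ▸ inv_mem hz')
    obtain rfl : z = z' :=
      mul_left_cancel (K.unique htwo ko ⟨_, S.symm ho⟩ e1 e2 ne1 ne2)
    exact hz1 (K.meet (S.symm h12) h23 n13 k1 hz hz')
  -- the parities at `o` are in conflict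
  obtain ⟨w, w', hw, hw', hwo, hwo', hww, -⟩ := S.three (S.symm hl)
  obtain ⟨t, t', ht, ht', hto, hto', htt, hnbt⟩ := S.three (S.symm hl')
  have hpar : ∀ {k w w' : V}, S.Adj o k → k ≠ p 2 → S.Adj k w → S.Adj k w' → w ≠ o → w' ≠ o →
      w' ≠ w → (n ∈ S.Q w ↔ n ∈ S.Q w') := fun hk hk2 hw hw' hwo hwo' hww =>
    (K.parity_branch hall ko (S.symm ho) hk hk2.symm (S.symm h12) h23 ho1.symm ho3.symm n13 hw hw'
      hwo hwo' hww hnDo).mp (iff_of_true hn1 hn3)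
  have hsame : ∀ s, S.Adj l' s → s ≠ o → (n ∈ S.Q s ↔ n ∈ S.Q t) := by
    intro s hs hso
    rcases hnbt s hs with rfl | rfl | rfl
    · exact absurd rfl hso
    · exact Iff.rfl
    · exact (hpar hl' hl2' ht hs hto hso htt).symm
  have hxl : x • l = l' := S.swap_eq (S.symm ho) hl hl' hl2 hl2' hll hxfo hx2.1 hxo
  have haw : S.Adj l' (a • w) := hal ▸ S.smul a hw
  have hxw : S.Adj l' (x • w) := hxl ▸ S.smul x hw
  have haw' : a • w ≠ o := fun h => hwo (MulAction.injective a (h.trans hafo.symm))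
  have hxw' : x • w ≠ o := fun h => hwo (MulAction.injective x (h.trans hxfo.symm))
  -- conjugation by `x`
  have hcx : n ∈ S.Q w ↔ n ∈ S.Q (x • w) := by
    have hvw : v ∈ S.Q (x • w) := K.below o _ (S.near_two (hxl ▸ hl') hxw) hvo
    have e : x * n * x⁻¹ = v⁻¹ * n := by rw [hvdef]; group
    constructor
    · intro h
      have h' := S.conj_mem_Q x h
      rw [e] at h'
      exact ((S.Q (x • w)).mul_mem_cancel_left (inv_mem hvw)).mp h'
    · intro h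
      have h' := S.conj_mem_Q x⁻¹ (((S.Q (x • w)).mul_mem_cancel_left (inv_mem hvw)).mpr h)
      rwa [inv_smul_smul, ← e, show x⁻¹ * (x * n * x⁻¹) * x⁻¹⁻¹ = n by group] at h'
  -- conjugation by `a`
  have hn0 : n ∉ S.Q (p 0) := fun h => hnD1 ((S.mem_D).mpr ⟨hn1, fun k hk => by
    obtain ⟨r, hr, hr0, hr2, hnbr⟩ := S.exists_third (S.symm h01) h12 n02.symm
    rcases hnbr k hk with rfl | rfl | rfl
    exacts [h, hn2,
      (K.three_even hall k1 (S.symm h01) h12 hr n02 hr0 hr2 hn1).mpr (iff_of_true h hn2)]⟩)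
  have hn00 : n ∈ stabilizer G (p 0) ⊓ stabilizer G (p 1) := ⟨hn1.2 _ (S.symm h01), hn1.1⟩
  have ha1 : a ∉ S.Z (p 1) := fun h =>
    hao (K.below (p 1) o (S.near_two h12 ho) h)
  have hez := K.comm_mem h01 k1 hn00.1 hn00.2 ha0
  have he1 := K.comm_ne_one h01 k1 hn00 hn0 ha0 ha1
  set e := n * a * n⁻¹ * a with hedef
  have heQ : e ∉ S.Q w := K.out_four hall
    (NB.cons S (NB.cons S (S.nb_two hl hw hwo.symm) ho (fun _ => hl2.symm)) h12
      (fun _ => ho1.symm)) k1 hez he1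
  have hca : n ∈ S.Q (a • w) ↔ ¬ n ∈ S.Q w := by
    have e1 : n⁻¹ * e = a * n⁻¹ * a := by rw [hedef]; group
    have hE : n⁻¹ ∈ stabilizer G w ⊓ stabilizer G l := inv_mem
      ⟨(((S.mem_D).mp hnDo).2 l hl).2 w hw, (((S.mem_D).mp hnDo).2 l hl).1⟩
    have hEe : e ∈ stabilizer G w ⊓ stabilizer G l :=
      ⟨K.fix (Near.trans S (S.near_two ho hl) (S.near_one hw)) (K.Z_le_Z (S.symm h12) k1 hez),
        K.fix (Near.mono S (S.near_two ho hl) (by omega)) (K.Z_le_Z (S.symm h12) k1 hez)⟩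
    have h1 : n ∈ S.Q (a • w) ↔ n⁻¹ * e ∈ S.Q w := by
      rw [e1]
      constructor
      · intro h
        have h' := S.conj_mem_Q a (inv_mem h)
        rwa [smul_smul, S.Z_sq K.con ha0, one_smul, hainv] at h'
      · intro h
        have h' := S.conj_mem_Q a h
        rw [hainv, show a * (a * n⁻¹ * a) * a = (a * a) * n⁻¹ * (a * a) by group,
          S.Z_sq K.con ha0, one_mul, mul_one] at h'
        exact inv_mem_iff.mp h'
    rw [h1, S.mul_mem_Q_iff (S.symm hw) hE hEe, inv_mem_iff]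
    simp [heQ]
  have hfin := hca
  rw [hsame _ haw haw', ← hsame _ hxw hxw', ← hcx] at hfin
  exact iff_not_self hfin

theorem card_le_three :
    ∃ u v, S.Adj u v ∧ Nat.card ↥(stabilizer G u ⊓ stabilizer G v) ≤ 2 ^ 7 := by
  obtain ⟨p, a, -, hp, hc, ha, haQ, -, -⟩ := K.odd_setup (n := 4) le_rfl (by norm_num) hall
  have h01 : S.Adj (p 0) (p 1) := hp.1 0 (by omega)
  have h12 : S.Adj (p 1) (p 2) := hp.1 1 (by omega)
  have h23 : S.Adj (p 2) (p 3) := hp.1 2 (by omega)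
  have h34 : S.Adj (p 3) (p 4) := hp.1 3 (by omega)
  have n02 : p 2 ≠ p 0 := hp.2 0 (by omega)
  have n13 : p 3 ≠ p 1 := hp.2 1 (by omega)
  have n24 : p 4 ≠ p 2 := hp.2 2 (by omega)
  have k1 : S.Cen (p 1) := K.cen h01 hc
  obtain ⟨o, ho, ho1, ho3, -⟩ := S.exists_third (S.symm h12) h23 n13
  obtain ⟨r, hr, hr0, hr2, hnb1⟩ := S.exists_third (S.symm h01) h12 n02
  have hQ2 : ∀ {d : G}, d ∈ S.D (p 1) → d ∈ S.Q (p 2) := fun hd => ((S.mem_D).mp hd).2 _ h12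
  have ha3 : a • p 3 = p 3 :=
    K.fix (Walk.near' S hp.1 (Nat.zero_le 4) (by omega) (by omega) (by omega)) ha
  have ha2 : a • p 2 = p 2 :=
    K.fix (Walk.near' S hp.1 (Nat.zero_le 4) (by omega) (by omega) (by omega)) ha
  obtain ⟨ha4, ha4'⟩ := S.moved (S.symm h23) h34 n24 ha3 ha2 haQ
  set D := S.D (p 1) with hD
  set X := D ⊓ S.Q (p 3) with hX
  set F := D ⊓ S.D (p 3) with hF
  have hXF : X ⊓ S.Q (p 4) ≤ F := fun d hd => ⟨hd.1.1, (S.mem_D).mpr ⟨hd.1.2, fun w hw => by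
    rcases S.eq_of_three (S.symm h23) h34 (S.adj_of_fix h34 ha3) hw n24 ha4' ha4 with rfl | rfl | rfl
    · exact hQ2 hd.1.1
    · exact hd.2
    · have h := S.conj_mem_Q a hd.2
      rwa [← S.Z_comm_Q K.con ha (((S.mem_D).mp hd.1.1).2 _ (S.symm h01)), mul_inv_cancel_right]
        at h⟩⟩
  have hFX : F ≤ X := fun d hd => ⟨hd.1, ((S.mem_D).mp hd.2).1⟩
  have cD : Nat.card ↥D ≤ 2 * Nat.card ↥X := by
    refine card_le_two_mul inf_le_left fun x hx y hy h h' => ⟨mul_mem hx hy, ?_⟩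
    have hfix : ∀ {d : G}, d ∈ D → d ∈ stabilizer G (p 3) ⊓ stabilizer G (p 2) := fun hd =>
      ⟨(hQ2 hd).2 _ h23, (hQ2 hd).1⟩
    exact S.mul_mem_Q (S.symm h23) (hfix hx) (hfix hy) (fun hh => h ⟨hx, hh⟩) (fun hh => h' ⟨hy, hh⟩)
  have cX : Nat.card ↥X ≤ 2 * Nat.card ↥F := by
    refine card_le_two_mul hFX fun x hx y hy h h' => hXF ⟨mul_mem hx hy, ?_⟩
    have hfix : ∀ {d : G}, d ∈ X → d ∈ stabilizer G (p 4) ⊓ stabilizer G (p 3) := fun hd =>
      ⟨hd.2.2 _ h34, hd.2.1⟩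
    exact S.mul_mem_Q (S.symm h34) (hfix hx) (hfix hy) (fun hh => h (hXF ⟨hx, hh⟩))
      (fun hh => h' (hXF ⟨hy, hh⟩))
  have cF : Nat.card ↥F ≤ 2 * Nat.card ↥(F ⊓ S.Q o) := by
    refine card_le_two_mul inf_le_left fun x hx y hy h h' => ⟨mul_mem hx hy, ?_⟩
    have hfix : ∀ {d : G}, d ∈ F → d ∈ stabilizer G o ⊓ stabilizer G (p 2) := fun hd =>
      ⟨(hQ2 hd.1).2 _ ho, (hQ2 hd.1).1⟩
    exact S.mul_mem_Q (S.symm ho) (hfix hx) (hfix hy) (fun hh => h ⟨hx, hh⟩) (fun hh => h' ⟨hy, hh⟩)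
  have cF' : Nat.card ↥(F ⊓ S.Q o) ≤ 4 := K.card_F_le hall hp hc ho ho1 ho3
  have hD16 : Nat.card ↥D ≤ 16 := by
    by_cases hFo : F ≤ S.Q o
    · rw [inf_eq_left.mpr hFo] at cF'
      omega
    by_cases hXle : X ≤ F
    · have := Subgroup.card_le_of_le hXle
      omega
    exfalso
    obtain ⟨x, hx, hxo⟩ := SetLike.not_le_iff_exists.mp hFo
    obtain ⟨y, hy, hyF⟩ := SetLike.not_le_iff_exists.mp hXle
    obtain ⟨y', hy', hy'F, hy'o⟩ : ∃ y' ∈ X, y' ∉ F ∧ y' ∈ S.Q o := by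
      by_cases hyo : y ∈ S.Q o
      · exact ⟨y, hy, hyF, hyo⟩
      have hfix : ∀ {d : G}, d ∈ X → d ∈ stabilizer G o ⊓ stabilizer G (p 2) := fun hd =>
        ⟨(hQ2 hd.1).2 _ ho, (hQ2 hd.1).1⟩
      exact ⟨x * y, mul_mem (hFX hx) hy, fun h => hyF ((F.mul_mem_cancel_left hx).mp h),
        S.mul_mem_Q (S.symm ho) (hfix (hFX hx)) (hfix hy) hxo hyo⟩
    exact K.three_contra hall hp hc ho ho1 ho3 hx hxo hy' (fun h => hy'F ⟨hy'.1, h⟩) hy'o
  have hle : S.Q (p 1) ⊓ S.Q (p 0) ⊓ S.Q (p 2) ≤ D := fun q hq =>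
    (S.mem_D).mpr ⟨hq.1.1, fun w hw => by
      rcases hnb1 w hw with rfl | rfl | rfl
      exacts [hq.1.2, hq.2,
        (K.three_even hall k1 (S.symm h01) h12 hr n02.symm hr0 hr2 hq.1.1).mpr
          (iff_of_true hq.1.2 hq.2)]⟩
  have step : ∀ {A : Subgroup G} {w : V}, S.Adj (p 1) w → A ≤ S.Q (p 1) →
      Nat.card ↥A ≤ 2 * Nat.card ↥(A ⊓ S.Q w) := by
    intro A w hw hA
    refine card_le_two_mul inf_le_left fun x hx y hy h h' => ⟨mul_mem hx hy, ?_⟩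
    have hfix : ∀ {d : G}, d ∈ A → d ∈ stabilizer G w ⊓ stabilizer G (p 1) := fun hd =>
      ⟨(hA hd).2 w hw, (hA hd).1⟩
    exact S.mul_mem_Q (S.symm hw) (hfix hx) (hfix hy) (fun hh => h ⟨hx, hh⟩) (fun hh => h' ⟨hy, hh⟩)
  have h1 := step (S.symm h01) (le_refl (S.Q (p 1)))
  have h2 := step h12 (A := S.Q (p 1) ⊓ S.Q (p 0)) inf_le_left
  have h3 := Subgroup.card_le_of_le hle
  refine ⟨p 1, p 2, h12, ?_⟩
  have h4 := S.card_edge h12
  rw [show (2 : ℕ) ^ 7 = 128 by norm_num]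
  omega

end Setting

end Cubic

end Cfsg.Agent.Amalgam33
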