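import Cfsg.Agent.Lib.Amalgam33.TypeATwo
import Cfsg.Agent.Lib.Amalgam33.TypeBThreeEnd
import Cfsg.Agent.Lib.SFourAmalgam.Graph

/-!
Goldschmidt's bound for cubic graphs with 2-group edge stabilisers: `Cubic.card_le`
(`|G u ⊓ G v| ≤ 2 ^ 7` on every edge).
-/

set_option autoImplicit false
set_option linter.unusedSectionVars false
set_option linter.style.haveILetI false

namespace Cfsg.Agent.Amalgam33

open MulAction Cfsg.Agent.ThompsonWielandt Cfsg.Agent.ThompsonWielandt.Cubic

universe u₁ u₂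

namespace Cubic

variable {G : Type u₁} [Group G] {V : Type u₂} [MulAction G V] (S : Amalgam33.Cubic G V) [Finite G]

theorem pCoreOf_eq {u x : V} (hx : S.Adj u x) :
    Cfsg.pCoreOf 2 (stabilizer G u) = S.Q u := by
  refine le_antisymm (fun g hg => (S.mem_Q).mpr ⟨pCoreOf_le 2 _ hg, fun w hw => ?_⟩) ?_
  · have hn : stabilizer G u ⊓ stabilizer G w ≤
        Subgroup.normalizer (Cfsg.pCoreOf 2 (stabilizer G u) : Set G) :=
      inf_le_left.trans (le_normalizer_pCoreOf 2 _)
    have h := eq_of_two_group (le_sup_left :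
        stabilizer G u ⊓ stabilizer G w ≤
          (stabilizer G u ⊓ stabilizer G w) ⊔ Cfsg.pCoreOf 2 (stabilizer G u))
      (sup_le inf_le_left (pCoreOf_le 2 _))
      ((S.two hw).to_sup_of_normal_right' (isPGroup_pCoreOf 2 _) hn)
      (by rw [Subgroup.inf_relIndex_left]; exact S.card_eq_three_mul hw)
    have hle : Cfsg.pCoreOf 2 (stabilizer G u) ≤ stabilizer G u ⊓ stabilizer G w :=
      le_sup_right.trans h.le
    exact (hle hg).2
  · exact le_pCoreOf (fun g hg => hg.1) ((S.two hx).to_le (S.Q_le hx))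
      (isSubnormal_subgroupOf_of_normal (S.st_le_normalizer_Q u))

theorem card_stab {u x : V} (hx : S.Adj u x) :
    Nat.card ↥(stabilizer G u) = 6 * Nat.card ↥(S.Q u) := by
  have h := relIndex_mul_card
    (inf_le_left : stabilizer G u ⊓ stabilizer G x ≤ stabilizer G u)
  rw [Subgroup.inf_relIndex_left, S.card_eq_three_mul hx, S.card_edge hx] at h
  omega

theorem card_edge_const {a c u v : V} (h : S.Adj a c) (h' : S.Adj u v) :
    Nat.card ↥(stabilizer G u ⊓ stabilizer G v) = Nat.card ↥(stabilizer G a ⊓ stabilizer G c) := by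
  have conj : ∀ (g : G) (x y : V), Nat.card ↥(stabilizer G (g • x) ⊓ stabilizer G (g • y)) =
      Nat.card ↥(stabilizer G x ⊓ stabilizer G y) := fun g x y => by
    rw [stabilizer_smul_eq_stabilizer_map_conj, stabilizer_smul_eq_stabilizer_map_conj,
      ← Subgroup.map_inf _ _ _ (MulAut.conj g).injective,
      Subgroup.card_map_of_injective (MulAut.conj g).injective]
  obtain ⟨g, -, hg | hg⟩ := S.translate h (H := ⊤) le_top le_top u
  · obtain ⟨k, hk, hkv⟩ := S.trans (hg ▸ S.smul g h) h'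
    have e1 : (k * g) • a = u := by rw [mul_smul, hg, hk]
    have e2 : (k * g) • c = v := by rw [mul_smul, hkv]
    rw [← e1, ← e2, conj]
  · obtain ⟨k, hk, hkv⟩ := S.trans (hg ▸ S.smul g (S.symm h)) h'
    have e1 : (k * g) • c = u := by rw [mul_smul, hg, hk]
    have e2 : (k * g) • a = v := by rw [mul_smul, hkv]
    rw [← e1, ← e2, conj, inf_comm]

/-- When no centre is central the edge groups have order at most 16. -/
theorem card_le_of_none_cen (hcon : S.Con) (hnone : ∀ u, ¬ S.Cen u) {u₀ v₀ : V}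
    (h₀ : S.Adj u₀ v₀) :
    ∃ u v, S.Adj u v ∧ Nat.card ↥(stabilizer G u ⊓ stabilizer G v) ≤ 16 := by
  have vert : ∀ {u x : V}, S.Adj u x → SFourAmalgam.Vert (stabilizer G u) := fun {u x} hx => by
    refine ⟨?_, ?_⟩
    · show Nat.card ↥(stabilizer G u) = 6 * Nat.card ↥(Cfsg.pCoreOf 2 (stabilizer G u))
      rw [S.pCoreOf_eq hx]
      exact S.card_stab hx
    · show stabilizer G u ⊓ Subgroup.centralizer (Cfsg.pCoreOf 2 (stabilizer G u) : Set G) ≤
        Cfsg.pCoreOf 2 (stabilizer G u)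
      rw [S.pCoreOf_eq hx]
      exact fun g hg => hcon u g hg.1 fun q hq => (hg.2 q hq).symm
  have nc : ∀ {u x : V}, S.Adj u x →
      ¬ stabilizer G u ≤ Subgroup.centralizer
        (Zc (stabilizer G u ⊓ stabilizer G x) : Set G) := fun {u x} hx hle =>
    hnone u (S.cen_of_edge hx fun z hz g hg => (hle hg z hz).symm)
  have hS : SFourAmalgam.Sys G S.Adj :=
    { symm := S.symm
      smul := S.smul
      trans := fun hx hy => S.trans hx hy
      edge := fun {u v} h => ⟨vert h, vert (S.symm h), S.card_eq_three_mul h,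
        S.card_eq_three_mul (S.symm h), nc h, by rw [inf_comm]; exact nc (S.symm h),
        fun X hX h1 h2 => S.eq_bot_of_normalized h hX h1 h2⟩ }
  obtain ⟨a, c, hac, ⟨ea⟩, -, -, hle⟩ := hS.main h₀
  refine ⟨a, c, hac, ?_⟩
  have h1 : Nat.card ↥(stabilizer G a) =
      Nat.card (Equiv.Perm (Fin 4)) * Nat.card ↥(C (stabilizer G a)) := by
    rw [Nat.card_congr ea.toEquiv, Nat.card_prod]
  rw [Nat.card_perm, Nat.card_fin, show Nat.factorial 4 = 24 from rfl] at h1
  have h2 := S.card_stab hac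
  have h3 := S.card_edge hac
  have h4 : Nat.card ↥(C (stabilizer G a)) ≤ 2 := hle
  omega

/-- Goldschmidt's bound. -/
theorem card_le {u v : V} (h : S.Adj u v) :
    Nat.card ↥(stabilizer G u ⊓ stabilizer G v) ≤ 2 ^ 7 := by
  suffices hex : ∃ a c, S.Adj a c ∧ Nat.card ↥(stabilizer G a ⊓ stabilizer G c) ≤ 2 ^ 7 by
    obtain ⟨a, c, hac, hle⟩ := hex
    exact (S.card_edge_const hac h).trans_le hle
  by_cases hcon : S.Con
  swap
  · have hne : ∀ w : V, ∃ x, S.Adj w x := fun w => by
      obtain ⟨g, -, hg | hg⟩ := S.translate h (H := ⊤) le_top le_top w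
      · exact ⟨g • v, hg ▸ S.smul g h⟩
      · exact ⟨g • u, hg ▸ S.smul g (S.symm h)⟩
    obtain ⟨a, c, hac, hle⟩ := S.card_le_of_not_con hcon hne
    exact ⟨a, c, hac, hle.trans (by norm_num)⟩
  by_cases hnone : ∀ w, ¬ S.Cen w
  · obtain ⟨a, c, hac, hle⟩ := S.card_le_of_none_cen hcon hnone h
    exact ⟨a, c, hac, hle.trans (by norm_num)⟩
  have hone : S.One := by
    intro a c hac
    refine ⟨fun ha hc => S.not_cen_both hac ⟨ha, hc⟩, fun hc => ?_⟩
    by_contra ha
    refine hnone fun w => ?_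
    obtain ⟨g, -, hg | hg⟩ := S.translate hac (H := ⊤) le_top le_top w
    · rwa [← hg, S.cen_smul_iff]
    · rwa [← hg, S.cen_smul_iff]
  obtain ⟨b, K⟩ := S.exists_setting hcon hone h
  rcases Nat.mod_two_eq_zero_or_one b with hb | hb
  · obtain ⟨a, c, hac, hle⟩ := K.card_le_even hb
    exact ⟨a, c, hac, hle.trans (by norm_num)⟩
  · obtain rfl := K.odd_eq_three hb
    exact K.card_le_three (K.allCrit_odd hb)

end Cubic

end Cfsg.Agent.Amalgam33
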