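import Cfsg.Agent.Lib.Amalgam33.Common

/-!
Even critical distance `b`: then `b = 2` and an edge group has order at most 64.
-/

set_option autoImplicit false
set_option linter.unusedSectionVars false
set_option linter.style.haveILetI false

namespace Cfsg.Agent.Amalgam33

open MulAction Cfsg.Agent.ThompsonWielandt.Cubic

universe u₁ u₂

namespace Cubic.Setting

variable {G : Type u₁} [Group G] [Finite G] {V : Type u₂} [MulAction G V] {S : Cubic G V} {b : ℕ}
  (K : S.Setting b)
include K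

theorem cen_even (heven : b % 2 = 0) {p : ℕ → V} (hp : S.NB b p) (hc : ¬ S.Cen (p 0)) :
    ¬ S.Cen (p b) := by
  have h := S.cen_walk K.one hp.1 (le_refl b)
  tauto

theorem crit_rev (heven : b % 2 = 0) {p : ℕ → V} (hp : S.NB b p) (hc : ¬ S.Cen (p 0))
    (hcrit : ¬ S.Z (p 0) ≤ S.Q (p b)) : ¬ S.Z (p b) ≤ S.Q (p 0) := by
  intro hle
  refine hcrit fun z hz => S.mem_Q_of_comm K.con (K.cen_even heven hp hc)
    (K.fix (Walk.near' S hp.1 (Nat.zero_le b) le_rfl (by omega) (by omega)) hz) fun c hc' => ?_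
  exact (S.Z_comm_Q K.con hz (hle hc')).symm

theorem inf_Q_le (heven : b % 2 = 0) {p : ℕ → V} (hp : S.NB b p) (hc : ¬ S.Cen (p 0))
    (hcrit : ¬ S.Z (p 0) ≤ S.Q (p b)) {z : G} (hz : z ∈ S.Z (p 0)) (hzQ : z ∈ S.Q (p b)) :
    z ∈ S.Z (p 1) := by
  have h01 : S.Adj (p 0) (p 1) := hp.1 0 K.pos
  obtain ⟨c, hcz, hcQ⟩ := SetLike.not_le_iff_exists.mp (K.crit_rev heven hp hc hcrit)
  refine K.Z_of_comm h01 (K.cen h01 hc) ?_ ?_ hcQ hz (S.Z_comm_Q K.con hcz hzQ).symm
  · exact K.fix (Walk.near' S hp.1 le_rfl (Nat.zero_le b) (by omega) (by omega)) hcz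
  · have := K.pos
    exact K.fix (Walk.near' S hp.1 le_rfl K.pos (by omega) (by omega)) hcz

theorem two_of_crit (heven : b % 2 = 0) {p : ℕ → V} (hp : S.NB b p) (hc : ¬ S.Cen (p 0))
    (hcrit : ¬ S.Z (p 0) ≤ S.Q (p b)) : S.Two (p 0) (p 1) := by
  intro x hx y hy hxw hyw
  have hb := K.pos
  have hadj : S.Adj (p b) (p (b - 1)) := by
    have h := S.symm (hp.1 (b - 1) (by omega))
    rwa [show b - 1 + 1 = b by omega] at h
  have hfix : ∀ z ∈ S.Z (p 0), z ∈ stabilizer G (p b) ⊓ stabilizer G (p (b - 1)) := fun z hz =>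
    ⟨K.fix (Walk.near' S hp.1 (Nat.zero_le b) le_rfl (by omega) (by omega)) hz,
      K.fix (Walk.near' S hp.1 (Nat.zero_le b) (by omega) (by omega) (by omega)) hz⟩
  refine K.inf_Q_le heven hp hc hcrit (mul_mem hx hy) (S.mul_mem_Q hadj (hfix x hx) (hfix y hy)
    (fun h => hxw (K.inf_Q_le heven hp hc hcrit hx h))
    (fun h => hyw (K.inf_Q_le heven hp hc hcrit hy h)))

/-- The commutator of a critical pair is central at both of the inner vertices next to its ends. -/
theorem exists_central_comm (heven : b % 2 = 0) {p : ℕ → V} (hp : S.NB b p) (hc : ¬ S.Cen (p 0))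
    (hcrit : ¬ S.Z (p 0) ≤ S.Q (p b)) :
    ∃ a c : G, a ∈ S.Z (p 0) ∧ a ∉ S.Z (p 1) ∧ c ∈ S.Z (p b) ∧
      c ∈ stabilizer G (p 0) ⊓ stabilizer G (p 1) ∧ c ∉ S.Q (p 0) ∧
      c * a * c⁻¹ * a ∈ S.Z (p 1) ∧ c * a * c⁻¹ * a ∈ S.Z (p (b - 1)) := by
  have hb := K.pos
  obtain ⟨a, ha, haQ⟩ := SetLike.not_le_iff_exists.mp hcrit
  obtain ⟨c, hcz, hcQ⟩ := SetLike.not_le_iff_exists.mp (K.crit_rev heven hp hc hcrit)
  have h01 : S.Adj (p 0) (p 1) := hp.1 0 hb
  have hlast : S.Adj (p b) (p (b - 1)) := by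
    have h := S.symm (hp.1 (b - 1) (by omega))
    rwa [show b - 1 + 1 = b by omega] at h
  have hcfix : c ∈ stabilizer G (p 0) ⊓ stabilizer G (p 1) :=
    ⟨K.fix (Walk.near' S hp.1 le_rfl (Nat.zero_le b) (by omega) (by omega)) hcz,
      K.fix (Walk.near' S hp.1 le_rfl hb (by omega) (by omega)) hcz⟩
  have haw : a ∉ S.Z (p 1) := fun h => haQ (K.below _ _
    (Walk.near S hp.1 hb le_rfl) h)
  have h1 := K.comm_mem h01 (K.cen h01 hc) hcfix.1 hcfix.2 ha
  refine ⟨a, c, ha, haw, hcz, hcfix, hcQ, h1, ?_⟩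
  have h2 := K.comm_mem hlast (K.cen hlast (K.cen_even heven hp hc))
    (K.fix (Walk.near' S hp.1 (Nat.zero_le b) le_rfl (by omega) (by omega)) ha)
    (K.fix (Walk.near' S hp.1 (Nat.zero_le b) (by omega) (by omega) (by omega)) ha) hcz
  have e : c * a * c⁻¹ * a = (a * c * a⁻¹ * c)⁻¹ := by
    rw [S.Z_inv K.con hcz, S.Z_inv K.con ha, _root_.mul_inv_rev, _root_.mul_inv_rev,
      _root_.mul_inv_rev, S.Z_inv K.con hcz, S.Z_inv K.con ha]
    simp [mul_assoc]
  rw [e]
  exact inv_mem h2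

/-- Moving a critical walk two steps back, when no element moves at the other colour. -/
theorem shift_even (heven : b % 2 = 0)
    (halt : ∀ r, S.NB (b - 1) r → S.Cen (r (b - 1)) → ¬ S.Mv (b - 1) r)
    {p : ℕ → V} (hp : S.NB b p) (hc : ¬ S.Cen (p 0)) (hcrit : ¬ S.Z (p 0) ≤ S.Q (p b))
    {x y : V} (hx : S.Adj (p 0) x) (hxne : x ≠ p 1) (hy : S.Adj x y) (hyne : y ≠ p 0) :
    ¬ S.Z y ≤ S.Q (p (b - 2)) := by
  intro hle
  have hb : 2 ≤ b := by have := K.pos; omega
  obtain ⟨a, ha, haQ⟩ := SetLike.not_le_iff_exists.mp hcrit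
  obtain ⟨c, hcz, hcQ⟩ := SetLike.not_le_iff_exists.mp (K.crit_rev heven hp hc hcrit)
  have hcinv := S.Z_inv K.con hcz
  have hc0 : c • p 0 = p 0 := K.fix (Walk.near' S hp.1 le_rfl (Nat.zero_le b) (by omega) (by omega)) hcz
  have hc1 : c • p 1 = p 1 := K.fix (Walk.near' S hp.1 le_rfl K.pos (by omega) (by omega)) hcz
  have h01 : S.Adj (p 0) (p 1) := hp.1 0 K.pos
  have hcx : c • x ≠ x := (S.moved h01 hx hxne hc0 hc1 hcQ).1
  have hnear : ∀ i, i ≤ b - 2 → S.Near (b - 1) x (p i) := fun i hi =>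
    Near.mono S (Near.trans S (S.near_one (S.symm hx)) (Walk.near S hp.1 (Nat.zero_le i) (by omega)))
      (by omega)
  set U := S.V' x ⊓ stabilizer G (p (b - 1)) with hU
  have hbm : S.Adj (p (b - 1)) (p b) := by
    have h := hp.1 (b - 1) (by omega)
    rwa [show b - 1 + 1 = b by omega] at h
  have hUfix : ∀ u ∈ U, u • p b = p b := by
    intro u hu
    have hfix : ∀ i, i ≤ b - 1 → u • p i = p i := fun i hi => by
      rcases Nat.lt_or_ge i (b - 1) with h | h
      · exact K.V'_fix (hnear i (by omega)) hu.1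
      · rw [show i = b - 1 by omega]; exact hu.2
    have hcen : S.Cen (p (b - 1)) := by
      have h := S.cen_walk K.one hp.1 (show b - 1 ≤ b by omega)
      have h' : ¬ (b - 1) % 2 = 0 := by omega
      tauto
    by_contra hne
    exact halt p (NB.take S hp (by omega)) hcen
      ⟨u, hfix, fun hQ => hne (hQ.2 _ hbm)⟩
  have ha' : a ∈ S.V' x := S.Z_le_V' (S.symm hx) ha
  have hab : a ∈ stabilizer G (p b) ⊓ stabilizer G (p (b - 1)) :=
    ⟨K.fix (Walk.near' S hp.1 (Nat.zero_le b) le_rfl (by omega) (by omega)) ha,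
      K.fix (Walk.near' S hp.1 (Nat.zero_le b) (by omega) (by omega) (by omega)) ha⟩
  -- `U` lies in the conjugate of `V' x` under `c`
  have hUc : U ≤ S.V' (c • x) := by
    intro u hu
    have hu' : u ∈ stabilizer G (p b) ⊓ stabilizer G (p (b - 1)) := ⟨hUfix u hu, hu.2⟩
    have key : c * u * c⁻¹ ∈ S.V' x := by
      by_cases huQ : u ∈ S.Q (p b)
      · rw [← S.Z_comm_Q K.con hcz huQ, mul_inv_cancel_right]
        exact hu.1
      · have h := S.Z_comm_Q K.con hcz (S.mul_mem_Q (S.symm hbm) hab hu' haQ huQ)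
        have e : c * u * c⁻¹ = c * a⁻¹ * c⁻¹ * (a * u) :=
          calc c * u * c⁻¹ = c * a⁻¹ * c⁻¹ * (c * (a * u)) * c⁻¹ := by group
            _ = c * a⁻¹ * c⁻¹ * (a * u * c) * c⁻¹ := by rw [h]
            _ = c * a⁻¹ * c⁻¹ * (a * u) := by group
        rw [e]
        exact mul_mem (S.Z_le_V' (S.symm hx) (S.conj_mem_Z_of_fix hc0 (inv_mem ha)))
          (mul_mem ha' hu.1)
    have h := S.conj_mem_V' c⁻¹ key
    rw [show c⁻¹ * (c * u * c⁻¹) * c⁻¹⁻¹ = u by group, hcinv] at h
    exact h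
  have hZy : S.Z y ≤ U := fun z hz => ⟨S.Z_le_V' hy hz, (hle hz).2 _ (by
    have h := hp.1 (b - 2) (by omega)
    rwa [show b - 2 + 1 = b - 1 by omega] at h)⟩
  have hZ0 : S.Z (p 0) ≤ U := fun z hz => ⟨S.Z_le_V' (S.symm hx) hz,
    K.fix (Walk.near' S hp.1 (Nat.zero_le b) (by omega) (by omega) (by omega)) hz⟩
  -- an element of `Q (p 0)` moving `y` fixes `c • x`
  obtain ⟨q, hq, hqQ⟩ := SetLike.not_le_iff_exists.mp (S.Q_not_le K.con hx)
  have hqx : q • x = x := hq.2 x hx
  have hqcx : q • c • x = c • x := hq.2 _ (S.adj_of_fix hx hc0)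
  obtain ⟨hqy, hqy'⟩ := S.moved (S.symm hx) hy hyne hqx hq.1 hqQ
  have hV : S.V' x ≤ S.V' (c • x) := by
    refine S.V'_le fun w hw => ?_
    rcases S.eq_of_three (S.symm hx) hy (S.adj_of_fix hy hqx) hw hyne hqy' hqy with rfl | rfl | rfl
    · exact hZ0.trans hUc
    · exact hZy.trans hUc
    · intro z hz
      have h1 := S.conj_mem_Z q⁻¹ hz
      rw [inv_smul_smul, inv_inv] at h1
      have h2 := S.conj_mem_V' q (hUc (hZy h1))
      rwa [hqcx, show q * (q⁻¹ * z * q) * q⁻¹ = z by group] at h2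
  have hV' : S.V' (c • x) ≤ S.V' x := by
    intro v hv
    have h1 := S.conj_mem_V' c hv
    rw [smul_smul, S.Z_sq K.con hcz, one_smul] at h1
    have h2 := S.conj_mem_V' c⁻¹ (hV h1)
    rwa [inv_smul_smul, show c⁻¹ * (c * v * c⁻¹) * c⁻¹⁻¹ = v by group] at h2
  have heq : S.V' x = S.V' (c • x) := le_antisymm hV hV'
  have hcn : c ∈ Subgroup.normalizer (S.V' x : Set G) := by
    rw [Subgroup.mem_normalizer_iff_map_conj_eq]
    ext v
    constructor
    · rintro ⟨w, hw, rfl⟩
      have h := S.conj_mem_V' c hw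
      rwa [← heq] at h
    · intro hv
      have h := S.conj_mem_V' c⁻¹ hv
      rw [hcinv, ← heq] at h
      refine ⟨_, h, ?_⟩
      show c * (c * v * c⁻¹) * c⁻¹ = v
      rw [show c * (c * v * c⁻¹) * c⁻¹ = (c * c) * v * (c * c)⁻¹ by group, S.Z_sq K.con hcz]
      group
  have hn0 : stabilizer G (p 0) ≤ Subgroup.normalizer (S.V' x : Set G) :=
    S.gen hx (inf_le_right.trans (S.st_le_normalizer_V' x)) hcn hc0 hcx
  have hbot : S.V' x = ⊥ := S.eq_bot_of_normalized (S.symm hx)
    (fun v hv => ⟨K.V'_fix (S.near_refl _ x) hv,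
      K.V'_fix (Near.mono S (S.near_one (S.symm hx)) (by omega)) hv⟩)
    (S.st_le_normalizer_V' x) hn0
  obtain ⟨z, hz, hz1⟩ := K.Z_ne_bot (p 0) ⟨_, h01⟩
  have hz' := S.Z_le_V' (S.symm hx) hz
  rw [hbot, Subgroup.mem_bot] at hz'
  exact hz1 hz'

set_option maxHeartbeats 1000000 in
theorem allCrit_even (heven : b % 2 = 0) : S.AllCrit b := by
  by_cases halt : ∃ r, S.NB (b - 1) r ∧ S.Cen (r (b - 1)) ∧ S.Mv (b - 1) r
  · obtain ⟨r, hr, hrc, hrm⟩ := halt
    refine K.allCrit_of_alt fun p hp hc => ⟨r, hr, ?_, hrm⟩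
    have := K.cen_even heven hp hc
    tauto
  push Not at halt
  obtain ⟨p, hp, hc, hcrit⟩ := K.crit
  have key : ∀ k, 2 * k ≤ b → ∀ q, S.NB b q → (∀ i, i ≤ b - 2 * k → q (2 * k + i) = p i) →
      (1 ≤ k → q (2 * k - 1) ≠ p 1) → ¬ S.Z (q 0) ≤ S.Q (q b) := by
    intro k
    induction k with
    | zero =>
      intro _ q _ hqp _
      have h0 := hqp 0 (by omega)
      have hb := hqp b (by omega)
      simp only [Nat.mul_zero, Nat.zero_add] at h0 hb
      rwa [h0, hb]
    | succ k ih =>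
      intro hk q hq hqp hne
      let q' : ℕ → V := fun i => if i ≤ 2 * k then q (i + 2) else p (i - 2 * k)
      have hq'q : ∀ i, i ≤ b - 2 → q' i = q (i + 2) := fun i hi => by
        simp only [q']
        split_ifs with h
        · rfl
        · rw [← hqp (i - 2 * k) (by omega)]
          congr 1
          omega
      have hq'p : ∀ i, i ≤ b - 2 * k → q' (2 * k + i) = p i := fun i hi => by
        simp only [q']
        split_ifs with h
        · obtain rfl : i = 0 := by omega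
          rw [show 2 * k + 0 + 2 = 2 * (k + 1) + 0 by omega]
          exact hqp 0 (by omega)
        · rw [show 2 * k + i - 2 * k = i by omega]
      have hNB : S.NB b q' := by
        refine ⟨fun i hi => ?_, fun i hi => ?_⟩
        · rcases Nat.lt_or_ge i (2 * k) with h | h
          · rw [hq'q i (by omega), hq'q (i + 1) (by omega)]
            exact hq.1 (i + 2) (by omega)
          · rw [show i = 2 * k + (i - 2 * k) by omega, hq'p _ (by omega),
              show 2 * k + (i - 2 * k) + 1 = 2 * k + (i - 2 * k + 1) by omega, hq'p _ (by omega)]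
            exact hp.1 _ (by omega)
        · rcases Nat.lt_or_ge i (2 * k) with h | h
          · rw [hq'q i (by omega)]
            rcases Nat.lt_or_ge (i + 2) (2 * k + 1) with h' | h'
            · rw [hq'q (i + 2) (by omega)]
              exact hq.2 (i + 2) (by omega)
            · rw [show i + 2 = 2 * k + 1 by omega, hq'p 1 (by omega)]
              have := (hne (by omega)).symm
              rwa [show 2 * (k + 1) - 1 = 2 * k + 1 by omega] at this
          · rw [show i = 2 * k + (i - 2 * k) by omega, hq'p _ (by omega),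
              show 2 * k + (i - 2 * k) + 2 = 2 * k + (i - 2 * k + 2) by omega, hq'p _ (by omega)]
            exact hp.2 _ (by omega)
      have hc' : ¬ S.Cen (q' 0) := by
        have h := S.cen_walk K.one hNB.1 (show 2 * k ≤ b by omega)
        rw [show q' (2 * k) = p 0 from hq'p 0 (Nat.zero_le _)] at h
        exact fun h0 => hc (h.mpr (iff_of_true h0 (Nat.mul_mod_right 2 k)))
      have h1 : q' 1 ≠ q 1 := by
        rcases Nat.eq_zero_or_pos k with rfl | hk'
        · have e := hq'p 1 (by omega)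
          rw [show 2 * 0 + 1 = 1 from rfl] at e
          rw [e]
          exact (hne le_rfl).symm
        · rw [hq'q 1 (by omega)]
          exact hq.2 1 (by omega)
      have hq0 : q' 0 = q 2 := hq'q 0 (by omega)
      have hadj1 : S.Adj (q' 0) (q 1) := by rw [hq0]; exact S.symm (hq.1 1 (by omega))
      have hfin := K.shift_even heven (fun r hr hrc hm => halt r hr hrc hm) hNB hc'
        (ih (by omega) q' hNB hq'p fun hk1 => by
          rw [hq'q _ (by omega), show 2 * k - 1 + 2 = 2 * (k + 1) - 1 by omega]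
          exact hne (by omega))
        hadj1 h1.symm (S.symm (hq.1 0 (by omega))) (by rw [hq0]; exact (hq.2 0 (by omega)).symm)
      rwa [hq'q (b - 2) le_rfl, show b - 2 + 2 = b by omega] at hfin
  intro q hq hqc
  have hb : 2 ≤ b := by have := K.pos; omega
  have hqb := K.cen_even heven hq hqc
  obtain ⟨g, hg⟩ := S.exists_conj_of_cen K.one (u := q b) (v := p 0) (by tauto)
  obtain ⟨x, hx, hxne⟩ := S.exists_ne (hp.1 0 (by omega))
  have hadj : S.Adj (p 0) (g • q (b - 1)) := by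
    have h := S.symm (hq.1 (b - 1) (by omega))
    rw [show b - 1 + 1 = b by omega] at h
    exact hg ▸ S.smul g h
  obtain ⟨k, hk, hkx⟩ := S.trans hadj hx
  have hcritq := key (b / 2) (by omega) (fun i => (k * g) • q i) (NB.smul S hq _)
    (fun i hi => by
      obtain rfl : i = 0 := by omega
      rw [show 2 * (b / 2) + 0 = b by omega, mul_smul, hg, hk])
    (fun _ => by rw [show 2 * (b / 2) - 1 = b - 1 by omega, mul_smul, hkx]; exact hxne)
  intro hle
  refine hcritq fun z hz => ?_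
  have h1 := S.conj_mem_Z (k * g)⁻¹ hz
  rw [inv_smul_smul] at h1
  have h2 := S.conj_mem_Q (k * g) (hle h1)
  rwa [show k * g * ((k * g)⁻¹ * z * (k * g)⁻¹⁻¹) * (k * g)⁻¹ = z by group] at h2

theorem even_eq_two (heven : b % 2 = 0) : b = 2 := by
  by_contra hne
  have hb : 4 ≤ b := by have := K.pos; omega
  obtain ⟨p, hp, hc, hcrit⟩ := K.crit
  obtain ⟨a, c, ha, haw, -, hcfix, hcQ, h1, h2⟩ := K.exists_central_comm heven hp hc hcrit
  have hq := NB.take S hp (show b - 2 ≤ b by omega)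
  have hd : S.Adj (p (b - 2)) (p (b - 3)) := by
    have h := S.symm (hp.1 (b - 3) (by omega))
    rwa [show b - 3 + 1 = b - 2 by omega] at h
  have hd' : S.Adj (p (b - 2)) (p (b - 1)) := by
    have h := hp.1 (b - 2) (by omega)
    rwa [show b - 2 + 1 = b - 1 by omega] at h
  have hne' : p (b - 1) ≠ p (b - 3) := by
    have h := hp.2 (b - 3) (by omega)
    rwa [show b - 3 + 2 = b - 1 by omega] at h
  obtain ⟨x, hx, hx3, hx1, -⟩ := S.exists_third hd hd' hne'
  have hw := NB.snoc S hq hx (fun _ => by rwa [show b - 2 - 1 = b - 3 by omega])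
  obtain ⟨y, hy, hyne⟩ := NB.exists_snoc S hw (by omega)
  have hw' := NB.snoc S hw hy (fun _ => hyne)
  have hw'' : S.NB b (post (b - 2 + 1) (post (b - 2) p x) y) := by
    rwa [show b - 2 + 1 + 1 = b by omega] at hw'
  set w := post (b - 2 + 1) (post (b - 2) p x) y with hwdef
  have hw0 : w 0 = p 0 := (post_of_le _ _ (Nat.zero_le _)).trans (post_of_le _ _ (Nat.zero_le _))
  have hw1 : w 1 = p 1 := (post_of_le _ _ (by omega)).trans (post_of_le _ _ (by omega))
  have hwl : w (b - 1) = x := (post_of_le _ _ (by omega)).trans (post_of_lt _ _ (by omega))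
  obtain ⟨a', c', ha', haw', -, hcfix', hcQ', -, h2'⟩ := K.exists_central_comm heven hw''
    (by rw [hw0]; exact hc) (K.allCrit_even heven w hw'' (by rw [hw0]; exact hc))
  rw [hw0] at ha' hcfix' hcQ'
  rw [hw1] at haw' hcfix'
  rw [hwl] at h2'
  have h01 : S.Adj (p 0) (p 1) := hp.1 0 K.pos
  have hcen1 := K.cen h01 hc
  rw [K.comm_eq h01 hcen1 (K.two_of_crit heven hp hc hcrit) hcfix hcfix' hcQ hcQ' ha ha' haw haw']
    at h2'
  have hpc : S.Cen (p (b - 1)) := by
    have h := S.cen_walk K.one hp.1 (show b - 1 ≤ b by omega)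
    have h' : ¬ (b - 1) % 2 = 0 := by omega
    tauto
  exact K.comm_ne_one h01 hcen1 hcfix hcQ ha haw (K.meet hd' hx hx1 hpc h2 h2')

end Cubic.Setting

end Cfsg.Agent.Amalgam33
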