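import Cfsg.Agent.Lib.Amalgam33.TypeA

/-!
Even critical distance: some edge group has order at most 64.
-/

set_option autoImplicit false
set_option linter.unusedSectionVars false
set_option linter.style.haveILetI false

namespace Cfsg.Agent.Amalgam33

open MulAction Cfsg.Agent.ThompsonWielandt.Cubic

universe u₁ u₂

theorem sq_of_three {G : Type*} [Group G] {e e' g c : G} (he : e * e = 1) (he' : e' * e' = 1)
    (hg : g * g = 1) (hc : c * c = 1) (h1 : e' * e = c * (e * e')) (h2 : g * e = c * (e * g))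
    (h3 : g * e' = c * (e' * g)) (c1 : e * c = c * e) (c2 : e' * c = c * e') :
    e * e' * g * (e * e' * g) = c := by
  calc e * e' * g * (e * e' * g) = e * e' * (g * e) * e' * g := by group
    _ = e * e' * (c * (e * g)) * e' * g := by rw [h2]
    _ = e * (e' * c) * e * (g * e') * g := by group
    _ = e * (c * e') * e * (c * (e' * g)) * g := by rw [c2, h3]
    _ = e * c * (e' * e) * c * e' * (g * g) := by group
    _ = c * e * (c * (e * e')) * c * e' := by rw [hg, mul_one, c1, h1]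
    _ = c * (e * c) * e * (e' * c) * e' := by group
    _ = c * (c * e) * e * (c * e') * e' := by rw [c1, c2]
    _ = c * c * (e * e) * c * (e' * e') := by group
    _ = c := by rw [hc, he, he', one_mul, one_mul, mul_one]

namespace Cubic.Setting

variable {G : Type u₁} [Group G] [Finite G] {V : Type u₂} [MulAction G V] {S : Cubic G V} {b : ℕ}
  (K : S.Setting b)
include K

theorem not_mem_Q_two (h2 : b = 2) (hall : S.AllCrit b) {x v y : V} (hx : S.Adj x v)
    (hy : S.Adj v y) (hne : x ≠ y) (hc : ¬ S.Cen x) {a : G} (ha : a ∈ S.Z x) (hav : a ∉ S.Z v) :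
    a ∉ S.Q y := by
  subst h2
  have hp := S.nb_two hx hy hne
  exact fun h => hav (K.inf_Q_le rfl hp hc (hall _ hp hc) ha h)

theorem card_le_even (heven : b % 2 = 0) :
    ∃ u v, S.Adj u v ∧ Nat.card ↥(stabilizer G u ⊓ stabilizer G v) ≤ 64 := by
  have h2 : b = 2 := K.even_eq_two heven
  subst h2
  have hall := K.allCrit_even rfl
  obtain ⟨p₀, hp₀, hc0, -⟩ := K.crit
  obtain ⟨p, hp, hpe⟩ := NB.extend S hp₀ (by omega) 4 (by omega)
  rw [← hpe 0 (by omega)] at hc0
  have h01 : S.Adj (p 0) (p 1) := hp.1 0 (by omega)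
  have h12 : S.Adj (p 1) (p 2) := hp.1 1 (by omega)
  have h23 : S.Adj (p 2) (p 3) := hp.1 2 (by omega)
  have h34 : S.Adj (p 3) (p 4) := hp.1 3 (by omega)
  have n02 : p 0 ≠ p 2 := (hp.2 0 (by omega)).symm
  have n13 : p 3 ≠ p 1 := hp.2 1 (by omega)
  have n24 : p 4 ≠ p 2 := hp.2 2 (by omega)
  have k1 : S.Cen (p 1) := K.cen h01 hc0
  have k2 : ¬ S.Cen (p 2) := K.not_cen (S.symm h12) k1
  have k3 : S.Cen (p 3) := K.cen h23 k2
  have k4 : ¬ S.Cen (p 4) := K.not_cen (S.symm h34) k3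
  obtain ⟨o, ho, ho0, ho2, hnb⟩ := S.exists_third (S.symm h01) h12 n02.symm
  have ko : ¬ S.Cen o := K.not_cen (S.symm ho) k1
  have htwo : ∀ {x w : V}, S.Adj x w → ¬ S.Cen x → S.Two x w := fun hx hxc =>
    K.two_all h01 hc0 (K.two_of_crit rfl (NB.take S hp (by omega)) hc0
      (hall _ (NB.take S hp (by omega)) hc0)) hx hxc
  have choose_a : ∀ {x : V}, S.Adj x (p 1) → ∀ {y : V}, S.Adj (p 1) y → x ≠ y →
      ∃ a ∈ S.Z x, a ∉ S.Z (p 1) := by
    intro x hx y hy hxy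
    have hxc : ¬ S.Cen x := K.not_cen hx k1
    obtain ⟨a, ha, haQ⟩ := SetLike.not_le_iff_exists.mp (hall _ (S.nb_two hx hy hxy) hxc)
    exact ⟨a, ha, fun h => haQ (K.below _ _ (S.near_one hy) h)⟩
  obtain ⟨e, he, hew⟩ := choose_a h01 h12 n02
  obtain ⟨e', he', hew'⟩ := choose_a (S.symm ho) h12 ho2
  obtain ⟨g, hg, hgw⟩ := choose_a (S.symm h12) (S.symm h01) n02.symm
  -- the common commutator
  have near2 : ∀ {x y : V}, S.Adj x (p 1) → S.Adj (p 1) y → ∀ {a : G}, a ∈ S.Z x →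
      a ∈ stabilizer G y ⊓ stabilizer G (p 1) := fun hx hy a ha =>
    ⟨K.fix (S.near_two hx hy) ha, K.fix (Near.mono S (S.near_one hx) (by omega)) ha⟩
  have pair : ∀ {x y : V}, S.Adj x (p 1) → S.Adj y (p 1) → x ≠ y → ∀ {a a' : G}, a ∈ S.Z x →
      a' ∈ S.Z y → a ∉ S.Z (p 1) → a' ∉ S.Z (p 1) →
      a' * a * a'⁻¹ * a ∈ S.Z (p 1) ∧ a' * a * a'⁻¹ * a ≠ 1 ∧
        a * a' * a⁻¹ * a' = a' * a * a'⁻¹ * a := by
    intro x y hx hy hxy a a' ha ha' haw haw'
    have hf := near2 hy (S.symm hx) ha'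
    have h := K.comm_mem hx k1 hf.1 hf.2 ha
    refine ⟨h, K.comm_ne_one hx k1 hf ?_ ha haw, ?_⟩
    · exact K.not_mem_Q_two rfl hall hy (S.symm hx) hxy.symm (K.not_cen hy k1) ha' haw'
    · have := S.Z_inv K.con h
      rw [S.Z_inv K.con ha, S.Z_inv K.con ha'] at *
      rw [← this, _root_.mul_inv_rev, _root_.mul_inv_rev, _root_.mul_inv_rev, S.Z_inv K.con ha,
        S.Z_inv K.con ha']
      simp [mul_assoc]
  obtain ⟨hcm, hc1, esym⟩ := pair h01 (S.symm ho) ho0.symm he he' hew hew'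
  set c := e' * e * e'⁻¹ * e with hcdef
  have ege : g * e * g⁻¹ * e = c := K.comm_eq h01 k1 (htwo h01 hc0) (near2 (S.symm ho) (S.symm h01) he')
    (near2 (S.symm h12) (S.symm h01) hg)
    (K.not_mem_Q_two rfl hall (S.symm ho) (S.symm h01) ho0 ko he' hew')
    (K.not_mem_Q_two rfl hall (S.symm h12) (S.symm h01) n02.symm k2 hg hgw) he he hew hew
  have ege' : g * e' * g⁻¹ * e' = c := by
    rw [← esym]
    exact K.comm_eq (S.symm ho) k1 (htwo (S.symm ho) ko) (near2 h01 ho he)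
      (near2 (S.symm h12) ho hg) (K.not_mem_Q_two rfl hall h01 ho ho0.symm hc0 he hew)
      (K.not_mem_Q_two rfl hall (S.symm h12) ho ho2.symm k2 hg hgw) he' he' hew' hew'
  have flip : ∀ {x y : V} {a a' : G}, a ∈ S.Z x → a' ∈ S.Z y → a' * a * a'⁻¹ * a = c →
      a' * a = c * (a * a') := by
    intro x y a a' ha ha' h
    rw [← h, S.Z_inv K.con ha']
    calc a' * a = a' * a * (a' * ((a * a) * a')) := by
          rw [S.Z_sq K.con ha, one_mul, S.Z_sq K.con ha', mul_one]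
      _ = a' * a * a' * a * (a * a') := by group
  set f := e * e' * g with hf
  have hfsq : f * f = c := sq_of_three (S.Z_sq K.con he) (S.Z_sq K.con he') (S.Z_sq K.con hg)
    (S.Z_sq K.con hcm) (flip he he' rfl) (flip he hg ege) (flip he' hg ege')
    (S.cen_comm K.con k1 hcm (K.fix (Near.mono S (S.near_one h01) (by omega)) he))
    (S.cen_comm K.con k1 hcm (K.fix (Near.mono S (S.near_one (S.symm ho)) (by omega)) he'))
  have inQ1 : ∀ {x : V} {a : G}, S.Adj x (p 1) → a ∈ S.Z x → a ∈ S.Q (p 1) := fun hx ha =>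
    K.below _ _ (S.near_one hx) ha
  have hfD : f ∈ S.D (p 1) := by
    rw [S.mem_D]
    refine ⟨mul_mem (mul_mem (inQ1 h01 he) (inQ1 (S.symm ho) he')) (inQ1 (S.symm h12) hg), ?_⟩
    intro w hw
    have hee : e * e' ∈ stabilizer G w ⊓ stabilizer G (p 1) :=
      mul_mem (near2 h01 hw he) (near2 (S.symm ho) hw he')
    rw [hf, S.mul_mem_Q_iff (S.symm hw) hee (near2 (S.symm h12) hw hg),
      S.mul_mem_Q_iff (S.symm hw) (near2 h01 hw he) (near2 (S.symm ho) hw he')]
    rcases hnb w hw with rfl | rfl | rfl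
    · simp [S.Z_le_Q K.con _ he, K.not_mem_Q_two rfl hall (S.symm ho) hw ho0 ko he' hew',
        K.not_mem_Q_two rfl hall (S.symm h12) hw n02.symm k2 hg hgw]
    · simp [S.Z_le_Q K.con _ hg, K.not_mem_Q_two rfl hall (S.symm ho) hw ho2 ko he' hew',
        K.not_mem_Q_two rfl hall h01 hw n02 hc0 he hew]
    · simp [S.Z_le_Q K.con _ he', K.not_mem_Q_two rfl hall h01 hw ho0.symm hc0 he hew,
        K.not_mem_Q_two rfl hall (S.symm h12) hw ho2.symm k2 hg hgw]
  have hfQ2 : f ∈ S.Q (p 2) := ((S.mem_D).mp hfD).2 _ h12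
  -- the element `M`
  have h42 := S.nb_two (S.symm h34) (S.symm h23) n24
  obtain ⟨M, hM, hMQ⟩ := SetLike.not_le_iff_exists.mp (hall _ h42 k4)
  have hM4 : M ∈ S.Z (p 4) := hM
  have hM2 : M • p 2 = p 2 := K.fix (S.near_two (S.symm h34) (S.symm h23)) hM4
  have hM3 : M • p 3 = p 3 := K.fix (Near.mono S (S.near_one (S.symm h34)) (by omega)) hM4
  have hMinv := S.Z_inv K.con hM4
  obtain ⟨hM1, -⟩ := S.moved h23 (S.symm h12) n13.symm hM2 hM3 hMQ
  have hf3 : f • p 3 = p 3 := hfQ2.2 _ h23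
  have hfQ3 : f ∉ S.Q (p 3) := by
    intro h
    have hz := K.comm_mem (S.symm h34) k3 (h.2 _ h34) hf3 hM4
    set z := f * M * f⁻¹ * M with hzdef
    have hzf : f * z = z * f := S.cen_comm K.con k3 hz hf3
    have e1 : M * f * M⁻¹ = z * f := by
      have : M * f⁻¹ * M = f⁻¹ * z := by rw [hzdef]; group
      calc M * f * M⁻¹ = (M * f⁻¹ * M)⁻¹ := by
            rw [_root_.mul_inv_rev, _root_.mul_inv_rev, inv_inv, hMinv, mul_assoc]
        _ = (f⁻¹ * z)⁻¹ := by rw [this]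
        _ = z * f := by rw [_root_.mul_inv_rev, inv_inv, S.Z_inv K.con hz]
    have e2 : M * c * M⁻¹ = c := by
      rw [← hfsq]
      calc M * (f * f) * M⁻¹ = M * f * M⁻¹ * (M * f * M⁻¹) := by group
        _ = z * f * (z * f) := by rw [e1]
        _ = z * (f * z) * f := by group
        _ = (z * z) * (f * f) := by rw [hzf]; group
        _ = f * f := by rw [S.Z_sq K.con hz, one_mul]
    have hc' := S.conj_mem_Z M hcm
    rw [e2] at hc'
    exact hc1 (K.meet (S.symm h12) (S.adj_of_fix (S.symm h12) hM2) hM1 k1 hcm hc')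
  -- the chain of subgroups
  set X := S.D (p 1) ⊓ S.Q (p 3) with hX
  set F := X ⊓ S.Q (p 4) with hF
  have hDX : Nat.card ↥(S.D (p 1)) ≤ 2 * Nat.card ↥X := by
    refine card_le_two_mul inf_le_left fun a ha a' ha' h h' => ⟨mul_mem ha ha', ?_⟩
    have hfix : ∀ {d : G}, d ∈ S.D (p 1) → d ∈ stabilizer G (p 3) ⊓ stabilizer G (p 2) :=
      fun hd => ⟨(((S.mem_D).mp hd).2 _ h12).2 _ h23, (((S.mem_D).mp hd).2 _ h12).1⟩
    exact S.mul_mem_Q (S.symm h23) (hfix ha) (hfix ha') (fun hh => h ⟨ha, hh⟩) (fun hh => h' ⟨ha', hh⟩)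
  have hXF : Nat.card ↥X ≤ 2 * Nat.card ↥F := by
    refine card_le_two_mul inf_le_left fun a ha a' ha' h h' => ⟨mul_mem ha ha', ?_⟩
    have hfix : ∀ {d : G}, d ∈ X → d ∈ stabilizer G (p 4) ⊓ stabilizer G (p 3) :=
      fun hd => ⟨hd.2.2 _ h34, hd.2.1⟩
    exact S.mul_mem_Q (S.symm h34) (hfix ha) (hfix ha') (fun hh => h ⟨ha, hh⟩) (fun hh => h' ⟨ha', hh⟩)
  set W : Subgroup G := ⨅ (w : V) (_ : S.Adj (p 2) w), S.D w with hW
  have hWmem : ∀ {d : G}, d ∈ W ↔ ∀ w, S.Adj (p 2) w → d ∈ S.D w := fun {d} => by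
    simp [W, Subgroup.mem_iInf]
  obtain ⟨a, ha, haQ⟩ := SetLike.not_le_iff_exists.mp
    (hall p (NB.take S hp (by omega)) hc0)
  have ha2 : a • p 2 = p 2 := K.fix (S.near_two h01 h12) ha
  have ha1 : a • p 1 = p 1 := K.fix (Near.mono S (S.near_one h01) (by omega)) ha
  have hFW : F ≤ W := by
    intro x hx
    have hxD := (S.mem_D).mp hx.1.1
    have hxf : x * f = f * x := by
      have hc : ∀ {y : V} {d : G}, S.Adj y (p 1) → d ∈ S.Z y → Commute x d := fun hy hd =>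
        S.Z_comm_Q K.con hd (hxD.2 _ (S.symm hy))
      exact ((hc h01 he).mul_right (hc (S.symm ho) he')).mul_right (hc (S.symm h12) hg)
    have hx3 : x ∈ S.D (p 3) := by
      refine (S.mem_D).mpr ⟨hx.1.2, fun w hw => ?_⟩
      obtain ⟨hf4, hf4'⟩ := S.moved (S.symm h23) h34 n24 hf3 hfQ2.1 hfQ3
      rcases S.eq_of_three (S.symm h23) h34 (S.adj_of_fix h34 hf3) hw n24 hf4' hf4 with
        rfl | rfl | rfl
      · exact hxD.2 _ h12
      · exact hx.2
      · have h := S.conj_mem_Q f hx.2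
        rwa [← hxf, mul_inv_cancel_right] at h
    rw [hWmem]
    intro w hw
    obtain ⟨ha3, ha3'⟩ := S.moved (S.symm h12) h23 n13 ha2 ha1 haQ
    rcases S.eq_of_three (S.symm h12) h23 (S.adj_of_fix h23 ha2) hw n13 ha3' ha3 with
      rfl | rfl | rfl
    · exact hx.1.1
    · exact hx3
    · have h := S.conj_mem_D a hx3
      rwa [← S.Z_comm_Q K.con ha (hxD.2 _ (S.symm h01)), mul_inv_cancel_right] at h
  have hWb : W = ⊥ := by
    by_contra hne
    have hWE : W ≤ stabilizer G (p 2) ⊓ stabilizer G (p 1) := fun d hd => by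
      have h := (S.mem_D).mp (hWmem.mp hd _ (S.symm h12))
      exact ⟨(h.2 _ h12).1, h.1.1⟩
    have hWn : stabilizer G (p 2) ≤ Subgroup.normalizer (W : Set G) := by
      rw [Subgroup.le_normalizer_iff]
      intro k hk d hd
      rw [hWmem] at hd ⊢
      intro w hw
      have h := S.conj_mem_D k (hd _ (S.adj_of_fix hw (inv_smul_fix hk)))
      rwa [smul_inv_smul] at h
    obtain ⟨z, hzW, hz, hz1⟩ := S.exists_central_mem (S.symm h12) hWE
      (inf_le_left.trans hWn) hne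
    have hz1' : z ∈ S.Z (p 1) := (K.Zc_eq (S.symm h12) k1) ▸ hz
    have hz4 : z ∈ S.Q (p 4) := ((S.mem_D).mp (hWmem.mp hzW _ h23)).2 _ h34
    refine hz1 (S.eq_one_of_central (S.symm h12) hz.1.1 hz.1.2 ?_ fun k hk => ?_)
    · exact S.gen (S.symm h12) (fun d hd => Subgroup.mem_centralizer_singleton_iff.mpr (hz.2.1 d hd))
        (Subgroup.mem_centralizer_singleton_iff.mpr (S.Z_comm_Q K.con hM4 hz4).symm) hM2 hM1
    · exact Subgroup.mem_centralizer_singleton_iff.mpr (S.cen_comm K.con k1 hz1' hk)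
  have hFb : Nat.card ↥F = 1 := Subgroup.card_eq_one.mpr (le_bot_iff.mp (hFW.trans hWb.le))
  refine ⟨p 1, p 2, h12, ?_⟩
  have := S.card_Q_le h12
  have := S.card_edge h12
  omega

end Cubic.Setting

end Cfsg.Agent.Amalgam33
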