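import Cfsg.Agent.Lib.Amalgam33.Common

/-!
Odd critical distance: it is at least three and every walk of that length from a noncentral vertex is critical
(`Cubic.Setting.allCrit_odd`).
-/

set_option autoImplicit false
set_option linter.unusedSectionVars false
set_option linter.style.haveILetI false

namespace Cfsg.Agent.Amalgam33

open MulAction Cfsg.Agent.ThompsonWielandt.Cubic

universe u₁ u₂

namespace Cubic

variable {G : Type u₁} [Group G] {V : Type u₂} [MulAction G V] (S : Cubic G V)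

/-- Generated by the `V' w` over the neighbours `w` of `u`. -/
def W' (u : V) : Subgroup G := ⨆ (w : V) (_ : S.Adj u w), S.V' w

theorem V'_le_W' {u w : V} (h : S.Adj u w) : S.V' w ≤ S.W' u := le_iSup₂_of_le w h le_rfl

theorem W'_le {u : V} {H : Subgroup G} (h : ∀ w, S.Adj u w → S.V' w ≤ H) : S.W' u ≤ H :=
  iSup₂_le h

theorem conj_mem_W' {u : V} {x : G} (g : G) (hx : x ∈ S.W' u) : g * x * g⁻¹ ∈ S.W' (g • u) := by
  suffices h : S.W' u ≤ (S.W' (g • u)).comap (MulAut.conj g).toMonoidHom from h hx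
  exact S.W'_le fun w hw z hz => S.V'_le_W' (S.smul g hw) (S.conj_mem_V' g hz)

theorem st_le_normalizer_W' (u : V) :
    stabilizer G u ≤ Subgroup.normalizer (S.W' u : Set G) := by
  rw [Subgroup.le_normalizer_iff]
  intro g hg x hx
  have h := S.conj_mem_W' g hx
  rwa [mem_stabilizer_iff.mp hg] at h

/-- Both ends of an inner walk, with inner neighbours `s'`, `t'`, are critical for the outer neighbours. -/
def Good (s s' t t' : V) : Prop :=
  (∀ x, S.Adj s x → x ≠ s' → ¬ S.Z x ≤ S.Q t) ∧ ∀ y, S.Adj t y → y ≠ t' → ¬ S.Z y ≤ S.Q s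

namespace Setting

variable {S} [Finite G] {b : ℕ} (K : S.Setting b)
include K

theorem cen_odd (hodd : b % 2 = 1) {p : ℕ → V} (hp : S.NB b p) (hc : ¬ S.Cen (p 0)) :
    S.Cen (p b) := by
  have h := S.cen_walk K.one hp.1 (le_refl b)
  have h' : ¬ b % 2 = 0 := by omega
  tauto

theorem ne_one : b ≠ 1 := by
  rintro rfl
  obtain ⟨p, hp, hc, hcrit⟩ := K.crit
  have h01 : S.Adj (p 0) (p 1) := hp.1 0 Nat.one_pos
  have k1 : S.Cen (p 1) := K.cen h01 hc
  obtain ⟨l, m, hl, hm, hl0, hm0, hml, -⟩ := S.three (S.symm h01)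
  obtain ⟨a, ha, haQ⟩ := SetLike.not_le_iff_exists.mp hcrit
  have hcl : ¬ S.Cen l := K.not_cen (S.symm hl) k1
  obtain ⟨g, hg0, hg1⟩ := K.exists_conj_edge h01 (S.symm hl) hc hcl
  set a' := g * a * g⁻¹ with ha'def
  have ha' : a' ∈ S.Z l := hg0 ▸ S.conj_mem_Z g ha
  have haQ' : a' ∉ S.Q (p 1) := fun h => haQ (by
    have h' := S.conj_mem_Q g⁻¹ h
    rwa [← hg1, inv_smul_smul, ha'def, show g⁻¹ * (g * a * g⁻¹) * g⁻¹⁻¹ = a by group] at h')
  clear_value a'
  have ha0 : a • p 0 = p 0 := (S.Z_le_Q K.con _ ha).1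
  have ha1 : a • p 1 = p 1 := K.fix (S.near_one h01) ha
  have hal : a' • l = l := (S.Z_le_Q K.con _ ha').1
  have ha'1 : a' • p 1 = p 1 := K.fix (S.near_one (S.symm hl)) ha'
  have elm : a • l = m := S.swap_eq (S.symm h01) hl hm hl0 hm0 hml ha1 ha0 haQ
  have eml : a • m = l := S.swap_eq (S.symm h01) hm hl hm0 hl0 hml.symm ha1 ha0 haQ
  have e0m : a' • p 0 = m := S.swap_eq hl (S.symm h01) hm hl0.symm hml hm0 ha'1 hal haQ'
  have hainv := S.Z_inv K.con ha
  have ha'inv := S.Z_inv K.con ha'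
  set y := a * a' * a⁻¹ * a'⁻¹ with hy
  have hy0 : y • p 0 = m := by
    rw [hy, ha'inv, hainv, mul_smul, mul_smul, mul_smul, e0m, eml, hal, elm]
  have hy1 : y • p 1 = p 1 := by
    rw [hy, ha'inv, hainv, mul_smul, mul_smul, mul_smul, ha'1, ha1, ha'1, ha1]
  refine hm0 (hy0.symm.trans ((K.con _ y hy1 fun q hq => ?_).2 _ (S.symm h01)))
  have hq0 : q • p 0 = p 0 := hq.2 _ (S.symm h01)
  have hql : q • l = l := hq.2 _ hl
  have hh := K.comm_mem h01 k1 hq0 hq.1 ha
  have hh' := K.comm_mem (S.symm hl) k1 hql hq.1 ha'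
  set h := q * a * q⁻¹ * a with hhdef
  set h' := q * a' * q⁻¹ * a' with hh'def
  have key : ∀ {d e : G}, d * d = 1 → e = q * d * q⁻¹ * d → d * e = e * d →
      d * q * d⁻¹ = e * q := by
    intro d e hd he hde
    have e1 : q * d = e * d * q := by
      rw [he]
      calc q * d = q * d * q⁻¹ * (d * d) * q := by rw [hd]; group
        _ = q * d * q⁻¹ * d * d * q := by group
    calc d * q * d⁻¹ = d * (q * d) := by rw [inv_eq_of_mul_eq_one_right hd, mul_assoc]
      _ = (d * e) * d * q := by rw [e1]; group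
      _ = e * (d * d) * q := by rw [hde]; group
      _ = e * q := by rw [hd, mul_one]
  have ka := key (S.Z_sq K.con ha) hhdef (S.cen_comm K.con k1 hh ha1)
  have ka' := key (S.Z_sq K.con ha') hh'def (S.cen_comm K.con k1 hh' ha'1)
  have ca : ∀ k ∈ S.Z (p 1), a * (k * q) * a⁻¹ = k * h * q := fun k hk => by
    calc a * (k * q) * a⁻¹ = a * k * q * a⁻¹ := by group
      _ = k * a * q * a⁻¹ := by rw [S.cen_comm K.con k1 hk ha1]
      _ = k * (a * q * a⁻¹) := by group
      _ = k * h * q := by rw [ka, ← mul_assoc]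
  have ca' : ∀ k ∈ S.Z (p 1), a' * (k * q) * a'⁻¹ = k * h' * q := fun k hk => by
    calc a' * (k * q) * a'⁻¹ = a' * k * q * a'⁻¹ := by group
      _ = k * a' * q * a'⁻¹ := by rw [S.cen_comm K.con k1 hk ha'1]
      _ = k * (a' * q * a'⁻¹) := by group
      _ = k * h' * q := by rw [ka', ← mul_assoc]
  have conj : y * q * y⁻¹ = q := by
    calc y * q * y⁻¹ = a * (a' * (a * (a' * q * a'⁻¹) * a⁻¹) * a'⁻¹) * a⁻¹ := by
          simp only [hy, _root_.mul_inv_rev, mul_assoc, hainv, ha'inv]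
      _ = a * (a' * (h' * h * q) * a'⁻¹) * a⁻¹ := by rw [ka', ca h' hh']
      _ = a * (h' * h * h' * q) * a⁻¹ := by rw [ca' _ (mul_mem hh' hh)]
      _ = h' * h * h' * h * q := by rw [ca _ (mul_mem (mul_mem hh' hh) hh')]
      _ = q := by rw [mul_assoc (h' * h) h' h, S.Z_sq K.con (mul_mem hh' hh), one_mul]
  calc y * q = y * q * y⁻¹ * y := by group
    _ = q * y := by rw [conj]

theorem three_le (hodd : b % 2 = 1) : 3 ≤ b := by
  have := K.ne_one
  omega

/-- Without movers at the noncentral ends, a critical walk makes its inner walk good on both sides. -/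
theorem good_of_crit (hodd : b % 2 = 1)
    (halt : ∀ r, S.NB (b - 1) r → ¬ S.Cen (r (b - 1)) → ¬ S.Mv (b - 1) r)
    {p : ℕ → V} (hp : S.NB b p) (hc : ¬ S.Cen (p 0)) (hcrit : ¬ S.Z (p 0) ≤ S.Q (p b)) :
    S.Good (p 1) (p 2) (p b) (p (b - 1)) := by
  have hb := K.three_le hodd
  have side : ∀ {p : ℕ → V}, S.NB b p → ¬ S.Cen (p 0) → ¬ S.Z (p 0) ≤ S.Q (p b) →
      ∀ y, S.Adj (p b) y → y ≠ p (b - 1) → ¬ S.Z y ≤ S.Q (p 1) := by
    intro p hp hc hcrit
    obtain ⟨a, ha, haQ⟩ := SetLike.not_le_iff_exists.mp hcrit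
    have ha1 : a • p 1 = p 1 := K.fix (Walk.near' S hp.1 (Nat.zero_le b) (by omega) (by omega) (by omega)) ha
    have hab : a • p b = p b := K.fix (Walk.near' S hp.1 (Nat.zero_le b) le_rfl (by omega) (by omega)) ha
    have ham : a • p (b - 1) = p (b - 1) :=
      K.fix (Walk.near' S hp.1 (Nat.zero_le b) (by omega) (by omega) (by omega)) ha
    have hlast : S.Adj (p b) (p (b - 1)) := by
      have h := S.symm (hp.1 (b - 1) (by omega))
      rwa [show b - 1 + 1 = b by omega] at h
    have hmid : S.Z (p (b - 1)) ≤ S.Q (p 1) :=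
      K.below _ _ (Walk.near' S hp.1 (by omega) (by omega) (by omega) (by omega))
    obtain ⟨y₀, hy₀, hy₀Q⟩ : ∃ y, S.Adj (p b) y ∧ ¬ S.Z y ≤ S.Q (p 1) := by
      by_contra hno
      push Not at hno
      have hV1 : S.V' (p b) ≤ S.Q (p 1) := S.V'_le hno
      by_cases hV0 : S.V' (p b) ≤ S.Q (p 0)
      · obtain ⟨y, hy, hyne⟩ := S.exists_ne hlast
        obtain ⟨hmv, -⟩ := S.moved hlast hy hyne hab ham haQ
        refine K.Z_ne hy (S.adj_of_fix hy hab) hmv (le_antisymm (fun z hz => ?_) fun z hz => ?_)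
        · have h1 := S.conj_mem_Z a hz
          rwa [← S.Z_comm_Q K.con ha (hV0 (S.Z_le_V' hy hz)), mul_inv_cancel_right] at h1
        · have h1 := S.conj_mem_Z a⁻¹ hz
          rw [inv_smul_smul, inv_inv, mul_assoc,
            S.Z_comm_Q K.con ha (hV0 (S.Z_le_V' (S.adj_of_fix hy hab) hz)), inv_mul_cancel_left] at h1
          exact h1
      · obtain ⟨g, hg, hgQ⟩ := SetLike.not_le_iff_exists.mp hV0
        refine halt (fun i => p (b - 1 - i)) (NB.rev S (NB.take S hp (show b - 1 ≤ b by omega))) ?_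
          ⟨g, fun i hi => ?_, ?_⟩
        · rw [Nat.sub_self]; exact hc
        · show g • p (b - 1 - i) = p (b - 1 - i)
          rcases Nat.eq_zero_or_pos (b - 1 - i) with h | h
          · rw [h]
            exact (hV1 hg).2 _ (S.symm (hp.1 0 (by omega)))
          · exact K.V'_fix (Walk.near' S hp.1 le_rfl (by omega) (by omega) (by omega)) hg
        · show g ∉ S.Q (p (b - 1 - (b - 1)))
          rwa [Nat.sub_self]
    have hy₀ne : y₀ ≠ p (b - 1) := fun e => hy₀Q (e ▸ hmid)
    intro y hy hyne hle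
    obtain ⟨hmv, hmv'⟩ := S.moved hlast hy₀ hy₀ne hab ham haQ
    rcases S.eq_of_three hlast hy₀ (S.adj_of_fix hy₀ hab) hy hy₀ne hmv' hmv with rfl | rfl | rfl
    · exact hyne rfl
    · exact hy₀Q hle
    · refine hy₀Q fun z hz => ?_
      have h := S.conj_mem_Q a⁻¹ (hle (S.conj_mem_Z a hz))
      rwa [inv_smul_fix ha1, show a⁻¹ * (a * z * a⁻¹) * a⁻¹⁻¹ = z by group] at h
  refine ⟨fun x hx hxne => ?_, side hp hc hcrit⟩
  have hlast : S.Adj (p b) (p (b - 1)) := by
    have h := S.symm (hp.1 (b - 1) (by omega))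
    rwa [show b - 1 + 1 = b by omega] at h
  obtain ⟨y, hy, hyne⟩ := S.exists_ne hlast
  have hkb : S.Cen (p b) := K.cen_odd hodd hp hc
  have hr : S.NB (b - 1) (fun i => p (b - i)) := NB.take S (NB.rev S hp) (by omega)
  have hq : S.NB b (pre y (fun i => p (b - i))) := by
    have h := NB.cons S hr (x := y) (S.symm hy) (fun _ => hyne)
    rwa [show b - 1 + 1 = b by omega] at h
  have eb : pre y (fun i => p (b - i)) b = p 1 := by
    obtain ⟨n, rfl⟩ : ∃ n, b = n + 1 := ⟨b - 1, by omega⟩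
    show p (n + 1 - n) = p 1
    rw [show n + 1 - n = 1 by omega]
  have eb1 : pre y (fun i => p (b - i)) (b - 1) = p 2 := by
    obtain ⟨n, rfl⟩ : ∃ n, b = n + 2 := ⟨b - 2, by omega⟩
    show p (n + 2 - n) = p 2
    rw [show n + 2 - n = 2 by omega]
  have h := side hq (K.not_cen (S.symm hy) hkb) (by rw [eb]; exact side hp hc hcrit y hy hyne)
    x (by rw [eb]; exact hx) (by rw [eb1]; exact hxne)
  show ¬ S.Z x ≤ S.Q (p b)
  exact h

/-- Moving a good walk two steps back. -/
theorem good_shift (hodd : b % 2 = 1)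
    (halt : ∀ r, S.NB (b - 1) r → ¬ S.Cen (r (b - 1)) → ¬ S.Mv (b - 1) r)
    {p : ℕ → V} (hp : S.NB b p) (hc : ¬ S.Cen (p 0))
    (hgood : S.Good (p 1) (p 2) (p b) (p (b - 1))) {w : V} (hw : S.Adj (p 0) w) (hwne : w ≠ p 1) :
    S.Good w (p 0) (p (b - 2)) (p (b - 3)) := by
  have hb := K.three_le hodd
  have h01 : S.Adj (p 0) (p 1) := hp.1 0 (by omega)
  have hbm : S.Adj (p (b - 1)) (p b) := by
    have h := hp.1 (b - 1) (by omega)
    rwa [show b - 1 + 1 = b by omega] at h
  have hcrit := hgood.1 (p 0) (S.symm h01) (hp.2 0 (by omega)).symm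
  suffices h : ∃ m, S.Adj w m ∧ m ≠ p 0 ∧ ¬ S.Z m ≤ S.Q (p (b - 2)) by
    obtain ⟨m, hm, hmne, hmQ⟩ := h
    obtain ⟨n, rfl⟩ : ∃ n, b = n + 3 := ⟨b - 3, by omega⟩
    have hn1 : S.NB (n + 2) (pre w p) :=
      NB.take S (NB.cons S hp (S.symm hw) (fun _ => hwne)) (by omega)
    have hn2 : S.NB (n + 3) (pre m (pre w p)) := NB.cons S hn1 (S.symm hm) (fun _ => hmne)
    have hk1 : S.Cen w := K.cen hw hc
    exact K.good_of_crit hodd halt hn2 (K.not_cen (S.symm hm) hk1) hmQ
  by_contra hno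
  push Not at hno
  have hV : S.V' w ≤ S.Q (p (b - 2)) := by
    refine S.V'_le fun m hm => ?_
    by_cases h : m = p 0
    · exact h ▸ K.below _ _ (Walk.near' S hp.1 (Nat.zero_le b) (by omega) (by omega) (by omega))
    · exact hno m hm h
  have hfix : ∀ v ∈ S.V' w, ∀ i, i ≤ b → v • p i = p i := by
    intro v hv
    have h1 : ∀ i, i ≤ b - 1 → v • p i = p i := fun i hi => by
      rcases Nat.lt_or_ge i (b - 1) with h | h
      · exact K.V'_fix (Near.mono S (Near.trans S (S.near_one (S.symm hw))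
          (Walk.near S hp.1 (Nat.zero_le i) (by omega))) (by omega)) hv
      · rw [show i = b - 1 by omega]
        have h' := hp.1 (b - 2) (by omega)
        rw [show b - 2 + 1 = b - 1 by omega] at h'
        exact (hV hv).2 _ h'
    intro i hi
    rcases Nat.lt_or_ge i b with h | h
    · exact h1 i (by omega)
    rw [show i = b by omega]
    by_contra hne
    refine halt p (NB.take S hp (by omega)) ?_ ⟨v, h1, fun hQ => hne (hQ.2 _ hbm)⟩
    have h' := S.cen_walk K.one hp.1 (show b - 1 ≤ b by omega)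
    have : (b - 1) % 2 = 0 := by omega
    tauto
  obtain ⟨y, hy, hyne⟩ := S.exists_ne (S.symm hbm)
  have hkb : S.Cen (p b) := K.cen_odd hodd hp hc
  have hky : ¬ S.Cen y := K.not_cen (S.symm hy) hkb
  have hyQ := hgood.2 y hy hyne
  have hZb : S.Z (p b) ≤ S.Q (p 1) :=
    K.below _ _ (Walk.near' S hp.1 le_rfl (by omega) (by omega) (by omega))
  obtain ⟨z, hz, hzne, hzQ⟩ : ∃ z, S.Adj y z ∧ z ≠ p b ∧ ¬ S.Z z ≤ S.Q (p 1) := by
    by_contra hno'
    push Not at hno'
    refine hyQ (S.Z_le fun z hz => ?_)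
    rw [K.Zc_eq hz (K.cen hz hky)]
    by_cases h : z = p b
    · exact h ▸ hZb
    · exact hno' z hz h
  obtain ⟨u, hu, huQ⟩ := SetLike.not_le_iff_exists.mp hzQ
  have huy : u ∈ S.Z y := K.Z_le_Z hz (K.cen hz hky) hu
  have huinv := S.Z_inv K.con hu
  have hu1 : u • p 1 = p 1 := K.fix (Near.mono S (Near.trans S (S.near_one (S.symm hy))
    (Walk.near' S hp.1 le_rfl (show 1 ≤ b by omega) (show 1 ≤ b + (b - 1) by omega)
      (show b ≤ 1 + (b - 1) by omega))) (by omega)) huy
  have hu2 : u • p 2 = p 2 := K.fix (Near.mono S (Near.trans S (S.near_one (S.symm hy))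
    (Walk.near' S hp.1 le_rfl (show 2 ≤ b by omega) (show 2 ≤ b + (b - 2) by omega)
      (show b ≤ 2 + (b - 2) by omega))) (by omega)) huy
  have hu0 : u • p 0 ≠ p 0 :=
    (S.moved (hp.1 1 (by omega)) (S.symm h01) (hp.2 0 (by omega)).symm hu1 hu2 huQ).1
  obtain ⟨a, ha, haQ⟩ := SetLike.not_le_iff_exists.mp hcrit
  have hav : a ∈ S.V' w := S.Z_le_V' (S.symm hw) ha
  -- `V' w` lies in the conjugate of `W' (p 0)` under `u`
  have hsub : S.V' w ≤ S.W' (u • p 0) := by
    intro v hv
    have key : u * v * u⁻¹ ∈ S.W' (p 0) := by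
      have inQ : ∀ d ∈ S.V' w, d ∈ S.Q (p b) → u * d = d * u := by
        intro d hd hdQ
        have hdy : d • y = y := hdQ.2 y hy
        have hd' : d ∈ S.Q y := by
          by_contra hne
          have hr : S.NB (b - 1) (post (b - 2) (fun i => p (2 + i)) y) := by
            have h := NB.snoc S (NB.shift S hp (show 2 + (b - 2) ≤ b by omega)) (x := y)
              (by rw [show 2 + (b - 2) = b by omega]; exact hy)
              (fun _ => by rw [show 2 + (b - 2 - 1) = b - 1 by omega]; exact hyne)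
            rwa [show b - 2 + 1 = b - 1 by omega] at h
          have hend : post (b - 2) (fun i => p (2 + i)) y (b - 1) = y :=
            post_of_lt _ _ (by omega)
          refine halt _ hr (by rw [hend]; exact hky) ⟨d, fun i hi => ?_, by rw [hend]; exact hne⟩
          rcases Nat.lt_or_ge (b - 2) i with h | h
          · rw [post_of_lt _ _ h]; exact hdy
          · rw [post_of_le _ _ h]; exact hfix d hd _ (by omega)
        exact (S.cen_comm K.con (K.cen hz hky) hu (hd'.2 z hz)).symm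
      by_cases hvQ : v ∈ S.Q (p b)
      · rw [inQ v hv hvQ, mul_inv_cancel_right]
        exact S.V'_le_W' hw hv
      · have hE : ∀ d ∈ S.V' w, d ∈ stabilizer G (p b) ⊓ stabilizer G (p (b - 1)) := fun d hd =>
          ⟨hfix d hd b le_rfl, hfix d hd (b - 1) (by omega)⟩
        have h := inQ _ (mul_mem hav hv) (S.mul_mem_Q (S.symm hbm) (hE a hav) (hE v hv) haQ hvQ)
        have e : u * v * u⁻¹ = u * a⁻¹ * u⁻¹ * (a * v) :=
          calc u * v * u⁻¹ = u * a⁻¹ * u⁻¹ * (u * (a * v)) * u⁻¹ := by group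
            _ = u * a⁻¹ * u⁻¹ * (a * v * u) * u⁻¹ := by rw [h]
            _ = u * a⁻¹ * u⁻¹ * (a * v) := by group
        rw [e]
        refine mul_mem (S.V'_le_W' h01 (S.Z_le_V' (w := u • p 0) ?_ (S.conj_mem_Z u (inv_mem ha))))
          (S.V'_le_W' hw (mul_mem hav hv))
        exact S.adj_of_fix (S.symm h01) hu1
    have h := S.conj_mem_W' u⁻¹ key
    rwa [show u⁻¹ * (u * v * u⁻¹) * u⁻¹⁻¹ = v by group, huinv] at h
  -- an element of `Q (p 1)` moving `w` fixes `u • p 0`
  obtain ⟨q, hq, hqQ⟩ := SetLike.not_le_iff_exists.mp (S.Q_not_le K.con (S.symm h01))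
  have hq0 : q • p 0 = p 0 := hq.2 _ (S.symm h01)
  have hqu : q • u • p 0 = u • p 0 := hq.2 _ (S.adj_of_fix (S.symm h01) hu1)
  obtain ⟨hqw, hqw'⟩ := S.moved h01 hw hwne hq0 hq.1 hqQ
  have hW : S.W' (p 0) ≤ S.W' (u • p 0) := by
    refine S.W'_le fun x hx => ?_
    rcases S.eq_of_three h01 hw (S.adj_of_fix hw hq0) hx hwne hqw' hqw with rfl | rfl | rfl
    · exact S.V'_le_W' (S.symm (S.adj_of_fix (S.symm h01) hu1))
    · exact hsub
    · intro v hv
      have h1 := S.conj_mem_V' q⁻¹ hv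
      rw [inv_smul_smul, inv_inv] at h1
      have h2 := S.conj_mem_W' q (hsub h1)
      rwa [hqu, show q * (q⁻¹ * v * q) * q⁻¹ = v by group] at h2
  have hW' : S.W' (u • p 0) ≤ S.W' (p 0) := by
    intro v hv
    have h1 := S.conj_mem_W' u hv
    rw [smul_smul, S.Z_sq K.con hu, one_smul] at h1
    have h2 := S.conj_mem_W' u⁻¹ (hW h1)
    rwa [inv_smul_smul, show u⁻¹ * (u * v * u⁻¹) * u⁻¹⁻¹ = v by group] at h2
  have heq : S.W' (p 0) = S.W' (u • p 0) := le_antisymm hW hW'
  have hun : u ∈ Subgroup.normalizer (S.W' (p 0) : Set G) := by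
    rw [Subgroup.mem_normalizer_iff]
    intro v
    constructor
    · intro hv
      have h := S.conj_mem_W' u hv
      rwa [← heq] at h
    · intro hv
      have h := S.conj_mem_W' u⁻¹ hv
      rwa [show u⁻¹ * (u * v * u⁻¹) * u⁻¹⁻¹ = v by group, huinv, ← heq] at h
  have hn1 : stabilizer G (p 1) ≤ Subgroup.normalizer (S.W' (p 0) : Set G) :=
    S.gen (S.symm h01) (inf_le_right.trans (S.st_le_normalizer_W' _)) hun hu1 hu0
  have hbot : S.W' (p 0) = ⊥ := by
    refine S.eq_bot_of_normalized h01 (S.W'_le fun x hx v hv => ⟨?_, ?_⟩)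
      (S.st_le_normalizer_W' _) hn1
    · exact K.V'_fix (Near.mono S (S.near_one (S.symm hx)) (by omega)) hv
    · exact K.V'_fix (Near.mono S (S.near_two (S.symm hx) h01) (by omega)) hv
  obtain ⟨t, ht, ht1⟩ := K.Z_ne_bot (p 0) ⟨_, h01⟩
  have ht' := S.V'_le_W' hw (S.Z_le_V' (S.symm hw) ht)
  rw [hbot, Subgroup.mem_bot] at ht'
  exact ht1 ht'

theorem allCrit_odd (hodd : b % 2 = 1) : S.AllCrit b := by
  by_cases halt : ∃ r, S.NB (b - 1) r ∧ ¬ S.Cen (r (b - 1)) ∧ S.Mv (b - 1) r
  · obtain ⟨r, hr, hrc, hrm⟩ := halt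
    refine K.allCrit_of_alt fun p hp hc => ⟨r, hr, ?_, hrm⟩
    have := K.cen_odd hodd hp hc
    tauto
  push Not at halt
  have halt' : ∀ r, S.NB (b - 1) r → ¬ S.Cen (r (b - 1)) → ¬ S.Mv (b - 1) r :=
    fun r hr hrc hm => halt r hr hrc hm
  have hb := K.three_le hodd
  obtain ⟨p, hp, hc, hcrit⟩ := K.crit
  have key : ∀ k, 2 * k + 1 ≤ b → ∀ q, S.NB b q → ¬ S.Cen (q 0) →
      (∀ i, i + (2 * k + 1) ≤ b → q (2 * k + 1 + i) = p (1 + i)) → (1 ≤ k → q (2 * k) ≠ p 2) →
      S.Good (q 1) (q 2) (q b) (q (b - 1)) := by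
    intro k
    induction k with
    | zero =>
      intro _ q _ _ hqp _
      have e : ∀ i, 1 ≤ i → i ≤ b → q i = p i := fun i h1 h2 => by
        have h := hqp (i - 1) (by omega)
        simp only [Nat.mul_zero, Nat.zero_add] at h
        rwa [show 1 + (i - 1) = i by omega] at h
      rw [e 1 le_rfl (by omega), e 2 (by omega) (by omega), e b (by omega) le_rfl,
        e (b - 1) (by omega) (by omega)]
      exact K.good_of_crit hodd halt' hp hc hcrit
    | succ k ih =>
      intro hk q hq hqc hqp hne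
      obtain ⟨q', hq'q, hq'p⟩ : ∃ q' : ℕ → V, (∀ i, i + 2 ≤ b → q' i = q (i + 2)) ∧
          ∀ i, i + (2 * k + 1) ≤ b → q' (2 * k + 1 + i) = p (1 + i) := by
        refine ⟨fun i => if i ≤ 2 * k + 1 then q (i + 2) else p (i - 2 * k), fun i hi => ?_,
          fun i hi => ?_⟩
        · dsimp only
          split_ifs with h
          · rfl
          · rw [show i - 2 * k = 1 + (i - 2 * k - 1) by omega, ← hqp (i - 2 * k - 1) (by omega)]
            congr 1
            omega
        · dsimp only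
          split_ifs with h
          · obtain rfl : i = 0 := by omega
            rw [show 2 * k + 1 + 0 + 2 = 2 * (k + 1) + 1 + 0 by omega]
            exact hqp 0 (by omega)
          · rw [show 2 * k + 1 + i - 2 * k = 1 + i by omega]
      have hNB : S.NB b q' := by
        refine ⟨fun i hi => ?_, fun i hi => ?_⟩
        · rcases Nat.lt_or_ge i (2 * k + 1) with h | h
          · rw [hq'q i (by omega), hq'q (i + 1) (by omega)]
            exact hq.1 (i + 2) (by omega)
          · rw [show i = 2 * k + 1 + (i - (2 * k + 1)) by omega, hq'p _ (by omega),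
              show 2 * k + 1 + (i - (2 * k + 1)) + 1 = 2 * k + 1 + (i - (2 * k + 1) + 1) by omega,
              hq'p _ (by omega)]
            exact hp.1 (1 + (i - (2 * k + 1))) (by omega)
        · rcases Nat.lt_or_ge i (2 * k + 1) with h | h
          · rw [hq'q i (by omega)]
            rcases Nat.lt_or_ge (i + 2) (2 * k + 2) with h' | h'
            · rw [hq'q (i + 2) (by omega)]
              exact hq.2 (i + 2) (by omega)
            · rw [show i + 2 = 2 * k + 1 + 1 by omega, hq'p 1 (by omega)]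
              have := (hne (by omega)).symm
              rwa [show 2 * (k + 1) = 2 * k + 1 + 1 by omega] at this
          · rw [show i = 2 * k + 1 + (i - (2 * k + 1)) by omega, hq'p _ (by omega),
              show 2 * k + 1 + (i - (2 * k + 1)) + 2 = 2 * k + 1 + (i - (2 * k + 1) + 2) by omega,
              hq'p _ (by omega)]
            exact hp.2 (1 + (i - (2 * k + 1))) (by omega)
      have hq0 : q' 0 = q 2 := hq'q 0 (by omega)
      have hc' : ¬ S.Cen (q' 0) := by
        rw [hq0]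
        exact fun h => hqc ((S.cen_two K.one (hq.1 0 (by omega)) (hq.1 1 (by omega))).mp h)
      have hgood := ih (by omega) q' hNB hc' hq'p fun hk1 => by
        rw [hq'q _ (by omega), show 2 * k + 2 = 2 * (k + 1) by omega]
        exact hne (by omega)
      have h1 : q 1 ≠ q' 1 := by
        rw [hq'q 1 (by omega)]
        exact (hq.2 1 (by omega)).symm
      have hfin := K.good_shift hodd halt' hNB hc' hgood
        (w := q 1) (by rw [hq0]; exact S.symm (hq.1 1 (by omega))) h1
      rwa [hq0, hq'q (b - 2) (by omega), hq'q (b - 3) (by omega), show b - 2 + 2 = b by omega,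
        show b - 3 + 2 = b - 1 by omega] at hfin
  intro q hq hqc
  obtain ⟨j, hj⟩ : ∃ j, b = 2 * j + 1 := ⟨b / 2, by omega⟩
  have h01 : S.Adj (p 0) (p 1) := hp.1 0 (by omega)
  have hk1 : S.Cen (p 1) := K.cen h01 hc
  have hkb : S.Cen (q b) := K.cen_odd hodd hq hqc
  obtain ⟨g, hg⟩ := S.exists_conj_of_cen K.one (u := q b) (v := p 1) (by tauto)
  have hadj : S.Adj (p 1) (g • q (b - 1)) := by
    have h := S.symm (hq.1 (b - 1) (by omega))
    rw [show b - 1 + 1 = b by omega] at h
    exact hg ▸ S.smul g h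
  obtain ⟨k, hk, hkx⟩ := S.trans hadj (S.symm h01)
  have hgq := key j (by omega) (fun i => (k * g) • q i) (NB.smul S hq _)
    (by show ¬ S.Cen ((k * g) • q 0); rw [S.cen_smul_iff]; exact hqc)
    (fun i hi => by
      obtain rfl : i = 0 := by omega
      rw [show 2 * j + 1 + 0 = b by omega, mul_smul, hg, hk])
    (fun _ => by
      rw [show 2 * j = b - 1 by omega, mul_smul, hkx]
      exact (hp.2 0 (by omega)).symm)
  intro hle
  refine hgq.1 ((k * g) • q 0) (S.smul _ (S.symm (hq.1 0 (by omega))))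
    (fun e => hq.2 0 (by omega) (MulAction.injective (k * g) e).symm) fun z hz => ?_
  have h1 := S.conj_mem_Z (k * g)⁻¹ hz
  rw [inv_smul_smul] at h1
  have h2 := S.conj_mem_Q (k * g) (hle h1)
  rwa [show k * g * ((k * g)⁻¹ * z * (k * g)⁻¹⁻¹) * (k * g)⁻¹ = z by group] at h2

end Setting

end Cubic

end Cfsg.Agent.Amalgam33
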