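import Cfsg.Agent.Lib.Amalgam33.TypeB

/-!
Common tools for odd critical distance: the covering lemma `Cubic.eq_one_of_cover`, the product of the three
transports (`Cubic.Setting.tri`), and consequences of `Two` and of `Cubic.NoLock`.
-/

set_option autoImplicit false
set_option linter.unusedSectionVars false
set_option linter.style.haveILetI false

namespace Cfsg.Agent.Amalgam33

open MulAction Cfsg.Agent.ThompsonWielandt.Cubic

universe u₁ u₂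

theorem perm_three {G : Type*} [Group G] (M : Subgroup G)
    (hM : ∀ x ∈ M, ∀ y ∈ M, x * y = y * x) {z₁ z₂ z₃ e₁ e₂ e₃ : G} (h1 : z₁ ∈ M) (h2 : z₂ ∈ M)
    (h3 : z₃ ∈ M) (k1 : e₁ ∈ M) (k2 : e₂ ∈ M) (k3 : e₃ ∈ M) :
    z₁ * e₁ * (z₂ * e₃) * (z₃ * e₂) = z₁ * z₂ * z₃ * (e₁ * e₂ * e₃) ∧
      z₁ * e₁ * (z₂ * e₂) * (z₃ * e₃) = z₁ * z₂ * z₃ * (e₁ * e₂ * e₃) ∧
      e₁ * e₂ * e₃ = e₂ * e₁ * e₃ := by
  letI : CommGroup M :=
    { (inferInstance : Group M) with mul_comm := fun a b => Subtype.ext (hM a a.2 b b.2) }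
  refine ⟨?_, ?_, ?_⟩
  · exact congrArg Subtype.val (show (⟨z₁, h1⟩ : M) * ⟨e₁, k1⟩ * (⟨z₂, h2⟩ * ⟨e₃, k3⟩) *
      (⟨z₃, h3⟩ * ⟨e₂, k2⟩) = ⟨z₁, h1⟩ * ⟨z₂, h2⟩ * ⟨z₃, h3⟩ * (⟨e₁, k1⟩ * ⟨e₂, k2⟩ * ⟨e₃, k3⟩) by
        ac_rfl)
  · exact congrArg Subtype.val (show (⟨z₁, h1⟩ : M) * ⟨e₁, k1⟩ * (⟨z₂, h2⟩ * ⟨e₂, k2⟩) *
      (⟨z₃, h3⟩ * ⟨e₃, k3⟩) = ⟨z₁, h1⟩ * ⟨z₂, h2⟩ * ⟨z₃, h3⟩ * (⟨e₁, k1⟩ * ⟨e₂, k2⟩ * ⟨e₃, k3⟩) by
        ac_rfl)
  · exact congrArg Subtype.val (show (⟨e₁, k1⟩ : M) * ⟨e₂, k2⟩ * ⟨e₃, k3⟩ =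
      ⟨e₂, k2⟩ * ⟨e₁, k1⟩ * ⟨e₃, k3⟩ by ac_rfl)

namespace Cubic

variable {G : Type u₁} [Group G] {V : Type u₂} [MulAction G V] (S : Cubic G V)

/-- At a central vertex the kernels at two different neighbours are not comparable inside `Q`. -/
def NoLock : Prop :=
  ∀ v x y, S.Cen v → S.Adj v x → S.Adj v y → x ≠ y → ∃ q ∈ S.Q v, q ∈ S.Q y ∧ q ∉ S.Q x

/-- An element fixing everything within three of a covering set of central vertices is trivial. -/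
theorem eq_one_of_cover (h1 : S.One) {T : Set V} {j₀ : V} (hj₀ : j₀ ∈ T) {c : G}
    (hT : ∀ j ∈ T, S.Cen j) (hc : ∀ j ∈ T, ∀ v, S.Near 3 j v → c • v = v)
    (hcov : ∀ j ∈ T, ∀ l m l', S.Adj j l → S.Adj l m → m ≠ j → S.Adj m l' → l' ≠ l →
      ∃ k ∈ T, S.Adj l' k ∧ k ≠ m) : c = 1 := by
  refine S.faithful c fun w => ?_
  suffices h : (S.Cen w ∧ ∃ j ∈ T, S.Near 2 j w) ∨
      (¬ S.Cen w ∧ ∀ x, S.Adj w x → ∃ j ∈ T, S.Near 2 j x) by
    rcases h with ⟨-, j, hj, hn⟩ | ⟨-, hall⟩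
    · exact hc j hj w (Near.mono S hn (by omega))
    · by_cases hw : ∃ x, S.Adj w x
      · obtain ⟨x, hx⟩ := hw
        obtain ⟨j, hj, hn⟩ := hall x hx
        exact hc j hj w (Near.trans S hn (S.near_one (S.symm hx)))
      · cases (S.reach w j₀).cases_head with
        | inl e => exact hc j₀ hj₀ w (e ▸ S.near_refl 3 j₀)
        | inr hh =>
          obtain ⟨x, hx, -⟩ := hh
          exact absurd ⟨x, hx⟩ hw
  induction S.reach j₀ w with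
  | refl => exact Or.inl ⟨hT j₀ hj₀, j₀, hj₀, S.near_refl 2 j₀⟩
  | @tail v w _ hvw ih =>
    rcases ih with ⟨hv, j, hj, hn⟩ | ⟨hv, hall⟩
    · refine Or.inr ⟨(h1 v w hvw).mp hv, fun x hx => ?_⟩
      rcases hn with rfl | ⟨l, hl, hlv⟩
      · exact ⟨_, hj, S.near_two hvw hx⟩
      rcases hlv with rfl | ⟨v', hv', hv''⟩
      · exact absurd hv ((h1 j _ hl).mp (hT j hj))
      obtain rfl : v' = v := hv''
      by_cases hvj : v' = j
      · subst hvj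
        exact ⟨_, hj, S.near_two hvw hx⟩
      by_cases hwl : w = l
      · subst hwl
        exact ⟨j, hj, S.near_two hl hx⟩
      obtain ⟨k, hk, hkw, -⟩ := hcov j hj l v' w hl hv' hvj hvw hwl
      exact ⟨k, hk, S.near_two (S.symm hkw) hx⟩
    · have h := h1 v w hvw
      exact Or.inl ⟨by tauto, hall w hvw⟩

/-- The covering lemma for the orbit of a subgroup centralising the element. -/
theorem eq_one_of_orbit (h1 : S.One) {C : Subgroup G} {c : G}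
    (hC : C ≤ Subgroup.centralizer ({c} : Set G)) {j₀ l₀ m₀ : V} (hj₀ : S.Cen j₀)
    (hc : ∀ v, S.Near 3 j₀ v → c • v = v)
    (htr : ∀ l m, S.Adj j₀ l → S.Adj l m → m ≠ j₀ →
      ∃ k ∈ C, k • j₀ = j₀ ∧ k • l = l₀ ∧ k • m = m₀)
    (hcov : ∀ l', S.Adj m₀ l' → l' ≠ l₀ → ∃ k ∈ C, S.Adj l' (k • j₀) ∧ k • j₀ ≠ m₀) : c = 1 := by
  refine S.eq_one_of_cover h1 (T := {v | ∃ k ∈ C, k • j₀ = v}) ⟨1, one_mem _, one_smul _ _⟩ ?_ ?_ ?_
  · rintro _ ⟨k, -, rfl⟩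
    exact S.cen_smul k hj₀
  · rintro _ ⟨k, hk, rfl⟩ v hv
    have h := Near.smul S k⁻¹ hv
    rw [inv_smul_smul] at h
    have h' := hc _ h
    have hcomm := Subgroup.mem_centralizer_singleton_iff.mp (hC hk)
    calc c • v = (c * k) • k⁻¹ • v := by rw [mul_smul, smul_inv_smul]
      _ = (k * c) • k⁻¹ • v := by rw [hcomm]
      _ = v := by rw [mul_smul, h', smul_inv_smul]
  · rintro _ ⟨k, hk, rfl⟩ l m l' hl hm hmj hl' hne
    have e1 := S.smul k⁻¹ hl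
    have e2 := S.smul k⁻¹ hm
    rw [inv_smul_smul] at e1
    obtain ⟨t, ht, htj, htl, htm⟩ := htr _ _ e1 e2 (fun e => hmj (by rw [← e, smul_inv_smul]))
    have e3 := S.smul t (S.smul k⁻¹ hl')
    rw [htm] at e3
    obtain ⟨d, hd, hd1, hd2⟩ := hcov _ e3 (fun e => hne (by
      have := congrArg (fun v => k • t⁻¹ • v) e
      simpa [← htl] using this))
    refine ⟨(k * t⁻¹ * d) • j₀, ⟨_, mul_mem (mul_mem hk (inv_mem ht)) hd, rfl⟩, ?_, fun e => hd2 ?_⟩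
    · have h := S.smul k (S.smul t⁻¹ hd1)
      rwa [inv_smul_smul, smul_inv_smul, ← mul_smul, ← mul_smul] at h
    · rw [← htm, ← e, mul_smul, mul_smul, inv_smul_smul, smul_inv_smul]

theorem lock_all (h1 : S.One) (h : ¬ S.NoLock) {v w : V} (hv : S.Cen v) (hw : S.Adj v w) :
    ∀ q ∈ S.Q v, q ∈ S.Q w → q ∈ S.D v := by
  simp only [NoLock, not_forall, not_exists, not_and, not_not] at h
  obtain ⟨v₁, x, y, hv₁, hx, hy, hxy, hle⟩ := h
  obtain ⟨g, hg⟩ := S.exists_conj_of_cen h1 (u := v) (v := v₁) (by tauto)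
  obtain ⟨k, hk, hkw⟩ := S.trans (hg ▸ S.smul g hw) hy
  intro q hq hqw
  have h1' := S.conj_mem_Q (k * g) hq
  have h2' := S.conj_mem_Q (k * g) hqw
  rw [mul_smul, hg, hk] at h1'
  rw [mul_smul, hkw] at h2'
  set d := k * g * q * (k * g)⁻¹ with hd
  have hdD : d ∈ S.D v₁ := by
    refine (S.mem_D).mpr ⟨h1', fun z hz => ?_⟩
    by_cases hzy : z = y
    · exact hzy ▸ h2'
    by_cases hzx : z = x
    · exact hzx ▸ hle d h1' h2'
    obtain ⟨e, hev, hey, hez⟩ := S.swap hy hz hx hzy hxy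
    have a1 := S.conj_mem_Q_of_fix hev h1'
    have a2 := S.conj_mem_Q_of_fix hey h2'
    have a3 := S.conj_mem_Q e⁻¹ (hle _ a1 a2)
    rwa [← hez, inv_smul_smul, show e⁻¹ * (e * d * e⁻¹) * e⁻¹⁻¹ = d by group] at a3
  have h := S.conj_mem_D (k * g)⁻¹ hdD
  rwa [hd, show (k * g)⁻¹ * (k * g * q * (k * g)⁻¹) * (k * g)⁻¹⁻¹ = q by group,
    inv_smul_eq_iff.mpr (show v₁ = (k * g) • v by rw [mul_smul, hg, hk])] at h

namespace Setting

variable {S} [Finite G] {b : ℕ} (K : S.Setting b)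
include K

theorem V'_comm (hb : 3 ≤ b) {v : V} {x y : G} (hx : x ∈ S.V' v) (hy : y ∈ S.V' v) :
    x * y = y * x := by
  have h1 : ∀ w, S.Adj v w → ∀ z ∈ S.Z w, z * y = y * z := by
    intro w hw z hz
    have h : S.V' v ≤ Subgroup.centralizer ({z} : Set G) := S.V'_le fun w' hw' z' hz' =>
      Subgroup.mem_centralizer_singleton_iff.mpr
        (K.comm (Near.mono S (S.near_two (S.symm hw') hw) (by omega)) hz' hz)
    exact (Subgroup.mem_centralizer_singleton_iff.mp (h hy)).symm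
  have h : S.V' v ≤ Subgroup.centralizer ({y} : Set G) := S.V'_le fun w hw z hz =>
    Subgroup.mem_centralizer_singleton_iff.mpr (h1 w hw z hz)
  exact Subgroup.mem_centralizer_singleton_iff.mp (h hx)

theorem V'_sq (hb : 3 ≤ b) {v : V} {x : G} (hx : x ∈ S.V' v) : x * x = 1 := by
  have h : S.V' v ≤ Zc (S.V' v) := S.V'_le fun w hw z hz =>
    ⟨S.Z_le_V' hw hz, fun t ht => K.V'_comm hb ht (S.Z_le_V' hw hz), S.Z_sq K.con hz⟩
  exact (h hx).2.2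

theorem V'_inv (hb : 3 ≤ b) {v : V} {x : G} (hx : x ∈ S.V' v) : x⁻¹ = x :=
  inv_eq_of_mul_eq_one_right (K.V'_sq hb hx)

theorem Z_le_V'_self {v w : V} (hv : S.Cen v) (h : S.Adj v w) : S.Z v ≤ S.V' v :=
  (K.Z_le_Z (S.symm h) hv).trans (S.Z_le_V' h)

theorem comm_V' {u v : V} (hn : S.Near (b - 2) u v) (hb : 2 ≤ b) {z x : G} (hz : z ∈ S.Z u)
    (hx : x ∈ S.V' v) : z * x = x * z := by
  have h : S.V' v ≤ Subgroup.centralizer ({z} : Set G) := S.V'_le fun w hw y hy =>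
    Subgroup.mem_centralizer_singleton_iff.mpr
      (K.comm (Near.mono S (Near.trans S hn (S.near_one hw)) (by omega)) hz hy).symm
  exact (Subgroup.mem_centralizer_singleton_iff.mp (h hx)).symm

theorem D_comm_V' {v : V} {d x : G} (hd : d ∈ S.D v) (hx : x ∈ S.V' v) : d * x = x * d := by
  have h : S.V' v ≤ Subgroup.centralizer ({d} : Set G) := S.V'_le fun w hw y hy =>
    Subgroup.mem_centralizer_singleton_iff.mpr
      (S.Z_comm_Q K.con hy (((S.mem_D).mp hd).2 w hw)).symm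
  exact (Subgroup.mem_centralizer_singleton_iff.mp (h hx)).symm

/-- Two transports of an element to the same neighbour agree modulo the centre. -/
theorem trans_eq {l v : V} (hv : S.Cen v) (hl : S.Adj l v) {g h a : G} (hg : g • v = v)
    (hh : h • v = v) (he : g • l = h • l) (ha : a ∈ S.Z l) :
    ∃ z ∈ S.Z v, h * a * h⁻¹ = z * (g * a * g⁻¹) := by
  have hk1 : (g⁻¹ * h) • l = l := by rw [mul_smul, ← he, inv_smul_smul]
  have hk2 : (g⁻¹ * h) • v = v := by rw [mul_smul, hh, inv_smul_fix hg]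
  have hz := K.comm_mem hl hv hk1 hk2 ha
  refine ⟨_, hz, ?_⟩
  set z := g⁻¹ * h * a * (g⁻¹ * h)⁻¹ * a with hzdef
  have hc : g * z = z * g := S.cen_comm K.con hv hz hg
  calc h * a * h⁻¹ = g * (g⁻¹ * h * a * (g⁻¹ * h)⁻¹ * (a * a)) * g⁻¹ := by
        rw [S.Z_sq K.con ha]; group
    _ = g * z * (a * g⁻¹) := by rw [hzdef]; group
    _ = z * (g * a * g⁻¹) := by rw [hc]; group

theorem tri_aux (hb : 3 ≤ b) {l v : V} (hv : S.Cen v) (hl : S.Adj l v) {a g₁ g₂ g₃ : G}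
    (ha : a ∈ S.Z l) (h₁ : g₁ • v = v) (h₂ : g₂ • v = v) (h₃ : g₃ • v = v)
    (n12 : g₂ • l ≠ g₁ • l) (n13 : g₃ • l ≠ g₁ • l) (n23 : g₃ • l ≠ g₂ • l) {k : G}
    (hk : k • v = v) (hk1 : k • g₁ • l = g₁ • l) :
    ∃ z ∈ S.Z v, k * (g₁ * a * g₁⁻¹ * (g₂ * a * g₂⁻¹) * (g₃ * a * g₃⁻¹)) * k⁻¹ =
      z * (g₁ * a * g₁⁻¹ * (g₂ * a * g₂⁻¹) * (g₃ * a * g₃⁻¹)) := by
  have hadj : ∀ {g : G}, g • v = v → S.Adj v (g • l) := fun hg => S.adj_of_fix (S.symm hl) hg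
  have hmem : ∀ {g : G}, g • v = v → g * a * g⁻¹ ∈ S.V' v := fun hg =>
    S.Z_le_V' (hadj hg) (S.conj_mem_Z _ ha)
  have hZV := K.Z_le_V'_self hv (S.symm hl)
  have te : ∀ {g g' : G}, g • v = v → g' • v = v → g' • l = k • g • l →
      ∃ z ∈ S.Z v, k * (g * a * g⁻¹) * k⁻¹ = z * (g' * a * g'⁻¹) := by
    intro g g' hg hg' he
    obtain ⟨z, hz, e⟩ := K.trans_eq hv hl hg' (h := k * g) (by rw [mul_smul, hg, hk])
      (by rw [mul_smul, he]) ha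
    exact ⟨z, hz, by rw [← e]; group⟩
  obtain ⟨z1, hz1, e1⟩ := te h₁ h₁ hk1.symm
  by_cases hkQ : k ∈ S.Q v
  · obtain ⟨z2, hz2, e2⟩ := te h₂ h₂ (hkQ.2 _ (hadj h₂)).symm
    obtain ⟨z3, hz3, e3⟩ := te h₃ h₃ (hkQ.2 _ (hadj h₃)).symm
    refine ⟨z1 * z2 * z3, mul_mem (mul_mem hz1 hz2) hz3, ?_⟩
    rw [← (perm_three (S.V' v) (fun x hx y hy => K.V'_comm hb hx hy) (hZV hz1) (hZV hz2) (hZV hz3)
      (hmem h₁) (hmem h₂) (hmem h₃)).2.1, ← e1, ← e2, ← e3]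
    group
  · obtain ⟨z2, hz2, e2⟩ := te h₂ h₃
      (S.swap_eq (hadj h₁) (hadj h₂) (hadj h₃) n12 n13 n23 hk hk1 hkQ).symm
    obtain ⟨z3, hz3, e3⟩ := te h₃ h₂
      (S.swap_eq (hadj h₁) (hadj h₃) (hadj h₂) n13 n12 n23.symm hk hk1 hkQ).symm
    refine ⟨z1 * z2 * z3, mul_mem (mul_mem hz1 hz2) hz3, ?_⟩
    rw [← (perm_three (S.V' v) (fun x hx y hy => K.V'_comm hb hx hy) (hZV hz1) (hZV hz2) (hZV hz3)
      (hmem h₁) (hmem h₂) (hmem h₃)).1, ← e1, ← e2, ← e3]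
    group

/-- The product of the three transports is fixed by the stabiliser modulo the centre. -/
theorem tri (hb : 3 ≤ b) {l v : V} (hv : S.Cen v) (hl : S.Adj l v) {a g h k : G} (ha : a ∈ S.Z l)
    (hg : g • v = v) (hh : h • v = v) (ngl : g • l ≠ l) (nhl : h • l ≠ l) (ngh : h • l ≠ g • l)
    (hk : k • v = v) :
    ∃ z ∈ S.Z v, k * (a * (g * a * g⁻¹) * (h * a * h⁻¹)) * k⁻¹ =
      z * (a * (g * a * g⁻¹) * (h * a * h⁻¹)) := by
  set s := a * (g * a * g⁻¹) * (h * a * h⁻¹) with hs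
  let H : Subgroup G :=
    { carrier := {k | k • v = v ∧ ∃ z ∈ S.Z v, k * s * k⁻¹ = z * s}
      one_mem' := ⟨one_smul _ _, 1, one_mem _, by group⟩
      mul_mem' := fun {k₁ k₂} a₁ a₂ => by
        obtain ⟨hk₁, z₁, hz₁, e₁⟩ := a₁
        obtain ⟨hk₂, z₂, hz₂, e₂⟩ := a₂
        refine ⟨by rw [mul_smul, hk₂, hk₁], z₂ * z₁, mul_mem hz₂ hz₁, ?_⟩
        calc k₁ * k₂ * s * (k₁ * k₂)⁻¹ = k₁ * (k₂ * s * k₂⁻¹) * k₁⁻¹ := by group
          _ = k₁ * z₂ * s * k₁⁻¹ := by rw [e₂]; group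
          _ = z₂ * (k₁ * s * k₁⁻¹) := by rw [S.cen_comm K.con hv hz₂ hk₁]; group
          _ = z₂ * z₁ * s := by rw [e₁, mul_assoc]
      inv_mem' := fun {k} a => by
        obtain ⟨hk, z, hz, e⟩ := a
        refine ⟨inv_smul_fix hk, z⁻¹, inv_mem hz, ?_⟩
        have hc := S.cen_comm K.con hv hz (inv_smul_fix hk)
        calc k⁻¹ * s * k⁻¹⁻¹ = z⁻¹ * (z * k⁻¹) * s * k := by group
          _ = z⁻¹ * (k⁻¹ * z) * s * k := by rw [hc]
          _ = z⁻¹ * (k⁻¹ * (z * s) * k) := by group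
          _ = z⁻¹ * s := by rw [← e]; group }
  suffices h : stabilizer G v ≤ H from (h hk).2
  have hmem : ∀ {x : G}, x • v = v → x * a * x⁻¹ ∈ S.V' v := fun hx =>
    S.Z_le_V' (S.adj_of_fix (S.symm hl) hx) (S.conj_mem_Z _ ha)
  have ha' : a ∈ S.V' v := S.Z_le_V' (S.symm hl) ha
  have hone : (1 : G) • v = v := one_smul _ _
  refine S.gen₂ (S.symm hl) (S.adj_of_fix (S.symm hl) hg) ngl (fun k hk => ⟨hk.1, ?_⟩)
    (fun k hk => ⟨hk.1, ?_⟩)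
  · obtain ⟨z, hz, e⟩ := K.tri_aux hb hv hl (g₁ := 1) (g₂ := g) (g₃ := h) ha hone hg hh
      (by rw [one_smul]; exact ngl) (by rw [one_smul]; exact nhl) ngh hk.1
      (by rw [one_smul]; exact hk.2)
    exact ⟨z, hz, by simpa [hs] using e⟩
  · obtain ⟨z, hz, e⟩ := K.tri_aux hb hv hl (g₁ := g) (g₂ := 1) (g₃ := h) ha hg hone hh
      (by rw [one_smul]; exact ngl.symm) ngh (by rw [one_smul]; exact nhl) hk.1 hk.2
    have e' := (perm_three (S.V' v) (fun x hx y hy => K.V'_comm hb hx hy)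
      (hmem hg) (hmem hg) (hmem hg) ha' (hmem hg) (hmem hh)).2.2
    simp only [inv_one, one_mul, mul_one] at e
    exact ⟨z, hz, by rw [hs, e']; exact e⟩

/-- With `NoLock`, two noncentral neighbours of a central vertex share only its centre. -/
theorem inter (hnl : S.NoLock) {v x y : V} (hv : S.Cen v) (hx : S.Adj v x) (hy : S.Adj v y)
    (hne : x ≠ y) {z : G} (hzx : z ∈ S.Z x) (hzy : z ∈ S.Z y) : z ∈ S.Z v := by
  obtain ⟨q, hq, hqy, hqx⟩ := hnl v x y hv hx hy hne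
  exact K.Z_of_comm (S.symm hx) hv (hq.2 x hx) hq.1 hqx hzx (S.Z_comm_Q K.con hzy hqy)

/-! ### Consequences of `Two` -/

theorem not_mem_of_two (hall : S.AllCrit b) {p : ℕ → V} (hp : S.NB b p) (hc : ¬ S.Cen (p 0))
    (htwo : S.Two (p 0) (p 1)) {x : G} (hx : x ∈ S.Z (p 0)) (hxw : x ∉ S.Z (p 1)) :
    x ∉ S.Q (p b) := by
  intro hxQ
  obtain ⟨a, ha, haQ⟩ := SetLike.not_le_iff_exists.mp (hall p hp hc)
  have hb := K.pos
  have hle : S.Z (p 1) ≤ S.Q (p b) :=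
    K.below _ _ (Walk.near' S hp.1 hb le_rfl (by omega) (by omega))
  have h := hle (htwo x hx a ha hxw fun h => haQ (hle h))
  exact haQ (((S.Q (p b)).mul_mem_cancel_left hxQ).mp h)

theorem unique (htwo : ∀ u w, S.Adj u w → ¬ S.Cen u → S.Two u w) {w : V} (hw : S.Cen w)
    (hne : ∃ u, S.Adj w u) {z z' : G} (hz : z ∈ S.Z w) (hz' : z' ∈ S.Z w) (h1 : z ≠ 1)
    (h1' : z' ≠ 1) : z = z' := by
  obtain ⟨u, hu⟩ := hne
  have huw := S.symm hu
  have hcu := K.not_cen huw hw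
  obtain ⟨x, hx, hxw⟩ := S.exists_ne huw
  have hle := K.Z_le_Z huw hw
  have h := htwo u x hx hcu z (hle hz) z' (hle hz') (fun h => h1 (K.meet huw hx hxw hw hz h))
    (fun h => h1' (K.meet huw hx hxw hw hz' h))
  have e := K.meet huw hx hxw hw (mul_mem hz hz') h
  exact (mul_eq_one_iff_eq_inv.mp e).trans (S.Z_inv K.con hz')

/-- Central elements of two vertices at even distance at most `b + 1` are different. -/
theorem inj (hall : S.AllCrit b) (htwo : ∀ u w, S.Adj u w → ¬ S.Cen u → S.Two u w) {n : ℕ}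
    {r : ℕ → V} (hr : S.NB n r) (hc : S.Cen (r 0)) (hn : 2 ≤ n) (hnb : n ≤ b + 1) {z : G}
    (hz : z ∈ S.Z (r 0)) (hz' : z ∈ S.Z (r n)) : z = 1 := by
  by_contra h1
  obtain ⟨q, hq, hqr⟩ := NB.extend S hr (by omega) (b + 1) hnb
  rw [← hqr 0 (by omega)] at hc hz
  rw [← hqr n le_rfl] at hz'
  have h01 : S.Adj (q 1) (q 0) := S.symm (hq.1 0 (by omega))
  have h12 : S.Adj (q 1) (q 2) := hq.1 1 (by omega)
  have hs := NB.shift S hq (show 1 + b ≤ b + 1 by omega)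
  refine K.not_mem_of_two hall hs (K.not_cen h01 hc) (htwo _ _ h12 (K.not_cen h01 hc))
    (K.Z_le_Z h01 hc hz)
    (fun h => h1 (K.meet h01 h12 (hq.2 0 (by omega)) hc hz h)) ?_
  exact K.below _ _ (Walk.near' S hq.1 (show n ≤ b + 1 by omega) (show 1 + b ≤ b + 1 by omega)
    (by omega) (by omega)) hz'

end Setting

end Cubic

end Cfsg.Agent.Amalgam33
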