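import Cfsg.Agent.Lib.Amalgam33.TypeBCommon

/-!
Odd critical distance at least five is impossible (`Cubic.Setting.odd_eq_three`).
-/

set_option autoImplicit false
set_option linter.unusedSectionVars false
set_option linter.style.haveILetI false

namespace Cfsg.Agent.Amalgam33

open MulAction Cfsg.Agent.ThompsonWielandt.Cubic

universe u₁ u₂

namespace Cubic.Setting

variable {G : Type u₁} [Group G] [Finite G] {V : Type u₂} [MulAction G V] {S : Cubic G V} {b : ℕ}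
  (K : S.Setting b)
include K

theorem cen_idx {n : ℕ} {p : ℕ → V} (hp : S.Walk n p) (hc : ¬ S.Cen (p 0)) {i : ℕ} (hi : i ≤ n) :
    S.Cen (p i) ↔ i % 2 = 1 := by
  have h := S.cen_walk K.one hp hi
  have h' : i % 2 = 1 ↔ ¬ i % 2 = 0 := by omega
  tauto

/-- `Z (p b)` meets `V' (p 1)` trivially on a walk of length `b` from a noncentral vertex. -/
theorem meet_far (hodd : b % 2 = 1) (hb : 5 ≤ b) (hall : S.AllCrit b) {p : ℕ → V}
    (hp : S.NB b p) (hc : ¬ S.Cen (p 0)) {c : G} (hcz : c ∈ S.Z (p b)) (hcv : c ∈ S.V' (p 1)) :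
    c = 1 := by
  have hkb : S.Cen (p b) := K.cen_odd hodd hp hc
  have hk2 : S.Cen (p (b - 2)) := (K.cen_idx hp.1 hc (by omega)).mpr (by omega)
  have hbm : S.Adj (p b) (p (b - 1)) := by
    have h := S.symm (hp.1 (b - 1) (by omega))
    rwa [show b - 1 + 1 = b by omega] at h
  have hmm : S.Adj (p (b - 1)) (p (b - 2)) := by
    have h := S.symm (hp.1 (b - 2) (by omega))
    rwa [show b - 2 + 1 = b - 1 by omega] at h
  have hmm' : S.Adj (p (b - 2)) (p (b - 3)) := by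
    have h := S.symm (hp.1 (b - 3) (by omega))
    rwa [show b - 3 + 1 = b - 2 by omega] at h
  have n1 : p (b - 2) ≠ p b := by
    have h := (hp.2 (b - 2) (by omega)).symm
    rwa [show b - 2 + 2 = b by omega] at h
  have n2 : p (b - 3) ≠ p (b - 1) := by
    have h := (hp.2 (b - 3) (by omega)).symm
    rwa [show b - 3 + 2 = b - 1 by omega] at h
  set C := Subgroup.centralizer ({c} : Set G) with hC
  have hst : ∀ k : G, k • p b = p b → k ∈ C := fun k hk =>
    Subgroup.mem_centralizer_singleton_iff.mpr (S.cen_comm K.con hkb hcz hk)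
  -- an element fixing `p (b - 2)` and moving `p (b - 1)`
  obtain ⟨q, hq, hqp⟩ := NB.extend S (NB.rev S (NB.take S hp (show b - 2 ≤ b by omega)))
    (by omega) b (by omega)
  have hq0 : q 0 = p (b - 2) := hqp 0 (by omega)
  have hq1 : q 1 = p (b - 3) := by rw [hqp 1 (by omega), show b - 2 - 1 = b - 3 by omega]
  have hq3 : q (b - 3) = p 1 := by rw [hqp _ (by omega), show b - 2 - (b - 3) = 1 by omega]
  have hr := NB.rev S hq
  have hrc : ¬ S.Cen (q b) := by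
    have h := S.cen_walk K.one hq.1 (le_refl b)
    rw [hq0] at h
    have h' : ¬ b % 2 = 0 := by omega
    tauto
  obtain ⟨e, he, heQ⟩ := SetLike.not_le_iff_exists.mp (hall _ hr (by rwa [Nat.sub_zero]))
  rw [Nat.sub_zero] at he
  rw [Nat.sub_self, hq0] at heQ
  have heC : e ∈ C := Subgroup.mem_centralizer_singleton_iff.mpr
    (K.comm_V' (Walk.near' S hq.1 le_rfl (by omega) (by omega) (by omega)) (by omega) he
      (hq3 ▸ hcv))
  have he2 : e • p (b - 2) = p (b - 2) :=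
    hq0 ▸ K.fix (Walk.near' S hq.1 le_rfl (Nat.zero_le b) (by omega) (by omega)) he
  have he3 : e • p (b - 3) = p (b - 3) :=
    hq1 ▸ K.fix (Walk.near' S hq.1 le_rfl (show 1 ≤ b by omega) (by omega) (by omega)) he
  obtain ⟨hel, hel'⟩ := S.moved hmm' (S.symm hmm) n2.symm he2 he3 heQ
  -- an element fixing `p b` and moving `e • p (b - 1)`
  obtain ⟨r, hr', hrp⟩ := NB.extend S (NB.shift S hp (show b - 2 + 2 ≤ b by omega))
    (by omega) b (by omega)
  have hr0 : r 0 = p (b - 2) := hrp 0 (by omega)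
  have hr2 : r 2 = p b := by rw [hrp 2 le_rfl]; show p (b - 2 + 2) = p b; rw [show b - 2 + 2 = b by omega]
  have hr1 : r 1 = p (b - 1) := by
    rw [hrp 1 (by omega)]; show p (b - 2 + 1) = p (b - 1); rw [show b - 2 + 1 = b - 1 by omega]
  have hrc' : ¬ S.Cen (r b) := by
    have h := S.cen_walk K.one hr'.1 (le_refl b)
    rw [hr0] at h
    have h' : ¬ b % 2 = 0 := by omega
    tauto
  obtain ⟨f, hf, hfQ⟩ := SetLike.not_le_iff_exists.mp (hall _ (NB.rev S hr') (by rwa [Nat.sub_zero]))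
  rw [Nat.sub_zero] at hf
  rw [Nat.sub_self, hr0] at hfQ
  have hfb : f • p b = p b :=
    hr2 ▸ K.fix (Walk.near' S hr'.1 le_rfl (show 2 ≤ b by omega) (by omega) (by omega)) hf
  have hf1 : f • p (b - 1) = p (b - 1) :=
    hr1 ▸ K.fix (Walk.near' S hr'.1 le_rfl (show 1 ≤ b by omega) (by omega) (by omega)) hf
  have hf2 : f • p (b - 2) = p (b - 2) :=
    hr0 ▸ K.fix (Walk.near' S hr'.1 le_rfl (Nat.zero_le b) (by omega) (by omega)) hf
  refine S.eq_one_of_orbit K.one (C := C) le_rfl (j₀ := p b) (l₀ := p (b - 1)) (m₀ := p (b - 2))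
    hkb (fun v hv => K.fix (Near.mono S hv (by omega)) hcz) ?_ ?_
  · intro l m hl hm hmj
    obtain ⟨k, hk, hkl⟩ := S.trans hl hbm
    have hm' : S.Adj (p (b - 1)) (k • m) := hkl ▸ S.smul k hm
    have hmj' : k • m ≠ p b := fun e => hmj (MulAction.injective k (e.trans hk.symm))
    obtain ⟨d, hd1, hdb, hdm⟩ := S.swap (S.symm hbm) hm' hmm hmj' n1
    exact ⟨d * k, mul_mem (hst d hdb) (hst k hk), by rw [mul_smul, hk, hdb],
      by rw [mul_smul, hkl, hd1], by rw [mul_smul, hdm]⟩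
  · intro l' hl' hne
    have hadj : S.Adj (e • p (b - 1)) (e • p b) := S.smul e (S.symm hbm)
    have hne' : e • p b ≠ p (b - 2) := fun h => n1 (MulAction.injective e (h.trans he2.symm)).symm
    by_cases hl : l' = e • p (b - 1)
    · exact ⟨e, heC, hl ▸ hadj, hne'⟩
    · have hel2 := S.adj_of_fix (S.symm hmm) he2
      have hfe := S.swap_eq (S.symm hmm) hel2 hl' hel hne hl hf2 hf1 hfQ
      refine ⟨f * e, mul_mem (hst f hfb) heC, ?_, ?_⟩
      · rw [← hfe, mul_smul]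
        exact S.smul f hadj
      · rw [mul_smul]
        exact fun h => hne' (MulAction.injective f (h.trans hf2.symm))

theorem meet_far' (hodd : b % 2 = 1) (hb : 5 ≤ b) (hall : S.AllCrit b) {p : ℕ → V}
    (hp : S.NB (b + 1) p) (hc : ¬ S.Cen (p 0)) {c : G} (hcz : c ∈ S.Z (p 1))
    (hcv : c ∈ S.V' (p b)) : c = 1 := by
  have hr := NB.take S (NB.rev S hp) (show b ≤ b + 1 by omega)
  refine K.meet_far hodd hb hall hr ?_ ?_ ?_
  · rw [Nat.sub_zero]
    exact fun h => by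
      have := (K.cen_idx hp.1 hc le_rfl).mp h
      omega
  · rwa [show b + 1 - b = 1 by omega]
  · rwa [Nat.add_sub_cancel]

/-- The commutator of the two end elements of a walk of length `b + 1`. -/
theorem five_core (hodd : b % 2 = 1) (hb : 5 ≤ b) (hall : S.AllCrit b) {p : ℕ → V}
    (hp : S.NB (b + 1) p) (hc : ¬ S.Cen (p 0)) {a u : G} (ha : a ∈ S.Z (p 0))
    (haQ : a ∉ S.Q (p b)) (hu : u ∈ S.Z (p (b + 1))) (huQ : u ∉ S.Q (p 1)) :
    u * a * u * a ∈ S.V' (p 1) ∧ u * a * u * a ∈ S.V' (p b) ∧ u * a * u * a ≠ 1 ∧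
      ∀ v ∈ S.V' (p 1), u * v * u * v = 1 ∨ u * v * u * v = u * a * u * a := by
  have h01 : S.Adj (p 0) (p 1) := hp.1 0 (by omega)
  have hbl : S.Adj (p b) (p (b + 1)) := hp.1 b (by omega)
  have hbm : S.Adj (p (b - 1)) (p b) := by
    have h := hp.1 (b - 1) (by omega)
    rwa [show b - 1 + 1 = b by omega] at h
  have hkb : S.Cen (p b) := (K.cen_idx hp.1 hc (by omega)).mpr hodd
  have hu1 : u • p 1 = p 1 := K.fix (Walk.near' S hp.1 le_rfl (by omega) (by omega) (by omega)) hu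
  have hu2 : u • p 2 = p 2 := K.fix (Walk.near' S hp.1 le_rfl (by omega) (by omega) (by omega)) hu
  have hab : a • p b = p b := K.fix (Walk.near' S hp.1 (Nat.zero_le _) (by omega) (by omega) (by omega)) ha
  have ham : a • p (b - 1) = p (b - 1) :=
    K.fix (Walk.near' S hp.1 (Nat.zero_le _) (by omega) (by omega) (by omega)) ha
  have huinv := S.Z_inv K.con hu
  have hainv := S.Z_inv K.con ha
  have ha1 : a ∈ S.V' (p 1) := S.Z_le_V' (S.symm h01) ha
  have hub : u ∈ S.V' (p b) := S.Z_le_V' hbl hu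
  have conjV : ∀ {v : G}, v ∈ S.V' (p 1) → u * v * u ∈ S.V' (p 1) := fun hv => by
    have h := S.conj_mem_V' u hv
    rwa [hu1, huinv] at h
  have hx1 : u * a * u * a ∈ S.V' (p 1) := mul_mem (conjV ha1) ha1
  have hx2 : u * a * u * a ∈ S.V' (p b) := by
    have h := S.conj_mem_V' a hub
    rw [hab, hainv] at h
    have h' := mul_mem hub h
    rwa [← mul_assoc, ← mul_assoc] at h'
  have hfixV : ∀ v ∈ S.V' (p 1), v ∈ stabilizer G (p b) ⊓ stabilizer G (p (b - 1)) := fun v hv =>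
    ⟨K.V'_fix (Walk.near' S hp.1 (by omega) (by omega) (by omega) (by omega)) hv,
      K.V'_fix (Walk.near' S hp.1 (by omega) (by omega) (by omega) (by omega)) hv⟩
  have inQ : ∀ v ∈ S.V' (p 1), v ∈ S.Q (p b) → v * u = u * v := by
    intro v hv hvQ
    have h := K.comm_mem (S.symm hbl) hkb (hvQ.2 _ hbl) hvQ.1 hu
    have hv' := K.V'_inv (by omega) hv
    have h1 : v * u * v⁻¹ * u ∈ S.V' (p 1) := by
      rw [hv', mul_assoc, mul_assoc, ← mul_assoc u v u]
      exact mul_mem hv (conjV hv)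
    have h2 := K.meet_far hodd hb hall (NB.take S hp (by omega)) hc h h1
    calc v * u = v * u * v⁻¹ * u * u⁻¹ * v := by group
      _ = u * v := by rw [h2, one_mul, huinv]
  have dich : ∀ v ∈ S.V' (p 1), u * v * u * v = 1 ∨ u * v * u * v = u * a * u * a := by
    intro v hv
    by_cases hvQ : v ∈ S.Q (p b)
    · left
      rw [mul_assoc u v u, inQ v hv hvQ, ← mul_assoc u u v, S.Z_sq K.con hu, one_mul,
        K.V'_sq (by omega) hv]
    · right
      have h := inQ _ (mul_mem ha1 hv) (S.mul_mem_Q (S.symm hbm) (hfixV a ha1) (hfixV v hv) haQ hvQ)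
      calc u * v * u * v = u * a * (a * v * u) * v := by
            rw [← mul_assoc (u * a), ← mul_assoc (u * a), mul_assoc u a a, S.Z_sq K.con ha, mul_one]
        _ = u * a * (u * (a * v)) * v := by rw [h]
        _ = u * a * u * a * (v * v) := by group
        _ = u * a * u * a := by rw [K.V'_sq (by omega) hv, mul_one]
  refine ⟨hx1, hx2, fun e => ?_, dich⟩
  have hcomm : ∀ v ∈ S.V' (p 1), u * v = v * u := fun v hv => by
    have e' : u * v * u * v = 1 := by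
      rcases dich v hv with h | h
      exacts [h, h.trans e]
    calc u * v = u * v * u * v * v⁻¹ * u⁻¹ := by group
      _ = v * u := by rw [e', one_mul, K.V'_inv (by omega) hv, huinv]
  obtain ⟨hu0, -⟩ := S.moved (hp.1 1 (by omega)) (S.symm h01) (hp.2 0 (by omega)).symm hu1 hu2 huQ
  refine K.Z_ne (S.symm h01) (S.adj_of_fix (S.symm h01) hu1) hu0
    (le_antisymm (fun z hz => ?_) fun z hz => ?_)
  · have h := S.conj_mem_Z u hz
    rwa [hcomm z (S.Z_le_V' (S.symm h01) hz), mul_inv_cancel_right] at h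
  · have h := S.conj_mem_Z u⁻¹ hz
    rw [inv_smul_smul, inv_inv, mul_assoc,
      ← hcomm z (S.Z_le_V' (S.adj_of_fix (S.symm h01) hu1) hz), inv_mul_cancel_left] at h
    exact h

theorem five_noLock (hodd : b % 2 = 1) (hb : 5 ≤ b) (hall : S.AllCrit b) {p : ℕ → V}
    (hp : S.NB (b + 1) p) (hc : ¬ S.Cen (p 0)) {a u : G} (ha : a ∈ S.Z (p 0))
    (haQ : a ∉ S.Q (p b)) (hu : u ∈ S.Z (p (b + 1))) (huQ : u ∉ S.Q (p 1)) : S.NoLock := by
  by_contra hlock
  obtain ⟨hx1, hx2, hx, dich⟩ := K.five_core hodd hb hall hp hc ha haQ hu huQ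
  have h01 : S.Adj (p 0) (p 1) := hp.1 0 (by omega)
  have h12 : S.Adj (p 1) (p 2) := hp.1 1 (by omega)
  have k1 : S.Cen (p 1) := K.cen h01 hc
  have huinv := S.Z_inv K.con hu
  have hu2 : u ∈ S.Q (p 2) := K.below _ _ (Walk.near' S hp.1 le_rfl (by omega) (by omega) (by omega)) hu
  have ha1 : a ∈ S.V' (p 1) := S.Z_le_V' (S.symm h01) ha
  set x := u * a * u * a with hxdef
  have hxZ : x ∈ Zc (stabilizer G (p 2) ⊓ stabilizer G (p 1)) := by
    refine ⟨⟨K.V'_fix (Near.mono S (S.near_one h12) (by omega)) hx1,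
      K.V'_fix (S.near_refl _ _) hx1⟩, fun g hg => ?_, K.V'_sq (by omega) hx1⟩
    have hu' : g * u * g⁻¹ ∈ S.Q (p 2) := S.conj_mem_Q_of_fix hg.1 hu2
    have hu'Q : g * u * g⁻¹ ∉ S.Q (p 1) := fun h => huQ (by
      have h' := S.conj_mem_Q_of_fix (inv_smul_fix hg.2) h
      rwa [show g⁻¹ * (g * u * g⁻¹) * g⁻¹⁻¹ = u by group] at h')
    set v := g * a * g⁻¹ with hv
    have hvV : v ∈ S.V' (p 1) := by
      have h := S.conj_mem_V' g ha1
      rwa [mem_stabilizer_iff.mp hg.2] at h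
    set d := u * (g * u * g⁻¹) with hd
    have hdD : d ∈ S.D (p 1) := by
      refine S.lock_all K.one hlock k1 h12 d ?_ (mul_mem hu2 hu')
      exact S.mul_mem_Q h12 ⟨(hu2.2 _ (S.symm h12)), hu2.1⟩ ⟨hu'.2 _ (S.symm h12), hu'.1⟩ huQ hu'Q
    have e1 : g * u * g⁻¹ = u * d := by rw [hd, ← mul_assoc, S.Z_sq K.con hu, one_mul]
    have e2 : g * x * g⁻¹ = u * v * u * v := by
      calc g * x * g⁻¹ = g * u * g⁻¹ * v * (g * u * g⁻¹)⁻¹ * v := by
            rw [hxdef, hv, _root_.mul_inv_rev, _root_.mul_inv_rev, inv_inv, huinv]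
            group
        _ = u * (d * v) * d⁻¹ * u⁻¹ * v := by rw [e1]; group
        _ = u * v * u⁻¹ * v := by rw [K.D_comm_V' hdD hvV]; group
        _ = u * v * u * v := by rw [huinv]
    rcases dich v hvV with h | h
    · exfalso
      rw [h] at e2
      exact hx (conj_eq_one_iff.mp e2)
    · rw [h] at e2
      calc g * x = g * x * g⁻¹ * g := by group
        _ = x * g := by rw [e2]
  rw [K.Zc_eq (S.symm h12) k1] at hxZ
  exact hx (K.meet_far' hodd hb hall hp hc hxZ hx2)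

theorem odd_setup {n : ℕ} (hn : b + 1 ≤ n) (hodd : b % 2 = 1) (hall : S.AllCrit b) :
    ∃ p a u, S.NB n p ∧ ¬ S.Cen (p 0) ∧ a ∈ S.Z (p 0) ∧ a ∉ S.Q (p b) ∧
      u ∈ S.Z (p (b + 1)) ∧ u ∉ S.Q (p 1) := by
  obtain ⟨p₀, hp₀, hc₀, -⟩ := K.crit
  obtain ⟨p, hp, hpe⟩ := NB.extend S hp₀ K.pos n (by omega)
  have hc : ¬ S.Cen (p 0) := by rwa [hpe 0 (Nat.zero_le b)]
  obtain ⟨a, ha, haQ⟩ := SetLike.not_le_iff_exists.mp (hall p (NB.take S hp (by omega)) hc)
  have hp' := NB.take S hp hn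
  have hr := NB.take S (NB.rev S hp') (show b ≤ b + 1 by omega)
  obtain ⟨u, hu, huQ⟩ := SetLike.not_le_iff_exists.mp (hall _ hr (by
    rw [Nat.sub_zero]
    exact fun h => by
      have := (K.cen_idx hp'.1 hc le_rfl).mp h
      omega))
  rw [Nat.sub_zero] at hu
  rw [show b + 1 - b = 1 by omega] at huQ
  exact ⟨p, a, u, hp, hc, ha, haQ, hu, huQ⟩

theorem five_facts (hodd : b % 2 = 1) (hb : 5 ≤ b) (hall : S.AllCrit b) :
    S.NoLock ∧ ∀ u w, S.Adj u w → ¬ S.Cen u → S.Two u w := by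
  obtain ⟨p, a, u, hp, hc, ha, haQ, hu, huQ⟩ := K.odd_setup (n := b + 1) le_rfl hodd hall
  have hnl := K.five_noLock hodd hb hall hp hc ha haQ hu huQ
  obtain ⟨-, -, -, dich⟩ := K.five_core hodd hb hall hp hc ha haQ hu huQ
  refine ⟨hnl, ?_⟩
  have h01 : S.Adj (p 0) (p 1) := hp.1 0 (by omega)
  have h12 : S.Adj (p 1) (p 2) := hp.1 1 (by omega)
  have k1 : S.Cen (p 1) := K.cen h01 hc
  have hu1 : u • p 1 = p 1 := K.fix (Walk.near' S hp.1 le_rfl (by omega) (by omega) (by omega)) hu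
  have hu2 : u • p 2 = p 2 := K.fix (Walk.near' S hp.1 le_rfl (by omega) (by omega) (by omega)) hu
  obtain ⟨hu0, -⟩ := S.moved h12 (S.symm h01) (hp.2 0 (by omega)).symm hu1 hu2 huQ
  have huinv := S.Z_inv K.con hu
  have hle : S.Z (p 1) ≤ S.Q (p b) :=
    K.below _ _ (Walk.near' S hp.1 (by omega) (by omega) (by omega) (by omega))
  have hbm : S.Adj (p b) (p (b - 1)) := by
    have h := S.symm (hp.1 (b - 1) (by omega))
    rwa [show b - 1 + 1 = b by omega] at h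
  have key : ∀ z ∈ S.Z (p 0), z ∈ S.Q (p b) → z ∈ S.Z (p 1) := by
    intro z hz hzQ
    have hzV : z ∈ S.V' (p 1) := S.Z_le_V' (S.symm h01) hz
    have hkb : S.Cen (p b) := (K.cen_idx hp.1 hc (by omega)).mpr hodd
    have h1 : z * u * z⁻¹ * u ∈ S.V' (p 1) := by
      rw [S.Z_inv K.con hz, mul_assoc, mul_assoc, ← mul_assoc u z u]
      have h := S.conj_mem_V' u hzV
      rw [hu1, huinv] at h
      exact mul_mem hzV h
    have h2 := K.meet_far hodd hb hall (NB.take S hp (by omega)) hc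
      (K.comm_mem (S.symm (hp.1 b (by omega))) hkb (hzQ.2 _ (hp.1 b (by omega))) hzQ.1 hu) h1
    refine K.inter hnl k1 (S.symm h01) (S.adj_of_fix (S.symm h01) hu1) hu0.symm hz ?_
    have h := S.conj_mem_Z u hz
    have e : u * z * u⁻¹ = z :=
      calc u * z * u⁻¹ = z⁻¹ * (z * u * z⁻¹ * u)⁻¹⁻¹ * 1 := by
            rw [inv_inv, h2, huinv, S.Z_inv K.con hz]
            calc u * z * u = z * (z * u * z * u) := by
                  rw [← mul_assoc z, ← mul_assoc z, ← mul_assoc z, S.Z_sq K.con hz, one_mul]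
              _ = z * 1 * 1 := by
                  rw [S.Z_inv K.con hz] at h2
                  rw [h2, mul_one, mul_one]
        _ = z := by rw [inv_inv, h2, mul_one, mul_one, S.Z_inv K.con hz]
    rwa [e] at h
  have htwo : S.Two (p 0) (p 1) := fun x hx y hy hxw hyw => key _ (mul_mem hx hy)
    (S.mul_mem_Q hbm
      ⟨K.fix (Walk.near' S hp.1 (Nat.zero_le _) (by omega) (by omega) (by omega)) hx,
        K.fix (Walk.near' S hp.1 (Nat.zero_le _) (by omega) (by omega) (by omega)) hx⟩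
      ⟨K.fix (Walk.near' S hp.1 (Nat.zero_le _) (by omega) (by omega) (by omega)) hy,
        K.fix (Walk.near' S hp.1 (Nat.zero_le _) (by omega) (by omega) (by omega)) hy⟩
      (fun h => hxw (key x hx h)) (fun h => hyw (key y hy h)))
  exact fun u w h hc' => K.two_all h01 hc htwo h hc'

set_option maxHeartbeats 1000000 in
/-- On a walk of length `b + 1` the commutator of the end elements is the nontrivial element of `Z (p 3)`. -/
theorem five_x (hodd : b % 2 = 1) (hb : 5 ≤ b) (hall : S.AllCrit b) {p : ℕ → V}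
    (hp : S.NB (b + 1) p) (hc : ¬ S.Cen (p 0)) {a u : G} (ha : a ∈ S.Z (p 0))
    (haQ : a ∉ S.Q (p b)) (hu : u ∈ S.Z (p (b + 1))) (huQ : u ∉ S.Q (p 1)) :
    u * a * u * a ∈ S.Z (p 3) ∧ u * a * u * a ≠ 1 := by
  obtain ⟨hnl, htwo⟩ := K.five_facts hodd hb hall
  obtain ⟨hx1, hx2, hx, -⟩ := K.five_core hodd hb hall hp hc ha haQ hu huQ
  refine ⟨?_, hx⟩
  have h01 : S.Adj (p 0) (p 1) := hp.1 0 (by omega)
  have h12 : S.Adj (p 1) (p 2) := hp.1 1 (by omega)
  have h23 : S.Adj (p 2) (p 3) := hp.1 2 (by omega)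
  have h34 : S.Adj (p 3) (p 4) := hp.1 3 (by omega)
  have n02 : p 2 ≠ p 0 := hp.2 0 (by omega)
  have n13 : p 3 ≠ p 1 := hp.2 1 (by omega)
  have n24 : p 4 ≠ p 2 := hp.2 2 (by omega)
  have k1 : S.Cen (p 1) := K.cen h01 hc
  have k2 : ¬ S.Cen (p 2) := K.not_cen (S.symm h12) k1
  have k3 : S.Cen (p 3) := K.cen h23 k2
  have hu1 : u • p 1 = p 1 := K.fix (Walk.near' S hp.1 le_rfl (by omega) (by omega) (by omega)) hu
  have hu2 : u • p 2 = p 2 := K.fix (Walk.near' S hp.1 le_rfl (by omega) (by omega) (by omega)) hu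
  obtain ⟨hu0, hu0'⟩ := S.moved h12 (S.symm h01) n02.symm hu1 hu2 huQ
  have hao : a ∉ S.Z (p 1) := fun h => haQ
    (K.below _ _ (Walk.near' S hp.1 (by omega) (by omega) (by omega) (by omega)) h)
  obtain ⟨z3, hz3, hz31⟩ := K.Z_ne_bot (p 3) ⟨_, h34⟩
  obtain ⟨g, hg1, hg0⟩ := S.trans (S.symm h01) h12
  set a2 := g * a * g⁻¹ with ha2
  have ha2m : a2 ∈ S.Z (p 2) := hg0 ▸ S.conj_mem_Z g ha
  have ha2n : a2 ∉ S.Z (p 1) := fun h => hao (by
    have h' := S.conj_mem_Z g⁻¹ h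
    rwa [inv_smul_fix hg1, ha2, show g⁻¹ * (g * a * g⁻¹) * g⁻¹⁻¹ = a by group] at h')
  have hz32 : z3 ∈ S.Z (p 2) := K.Z_le_Z h23 k3 hz3
  have hw : a2 * z3 ∈ S.Z (p 1) := htwo _ _ (S.symm h12) k2 _ ha2m _ hz32 ha2n
    fun h => hz31 (K.meet (S.symm h12) h23 n13 k1 h hz3)
  set s := u * a * u * a * z3 with hs
  suffices hs1 : s = 1 by
    rw [hs] at hs1
    rw [eq_inv_of_mul_eq_one_left hs1]
    exact inv_mem hz3
  have hz1V : ∀ {z : G}, z ∈ S.Z (p 1) → z ∈ S.V' (p 1) := fun hz =>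
    K.Z_le_V'_self k1 (S.symm h01) hz
  have hz3V : z3 ∈ S.V' (p 1) := S.Z_le_V' h12 hz32
  have hsV : s ∈ S.V' (p 1) := mul_mem hx1 hz3V
  have inv : ∀ {k : G}, k • p 1 = p 1 → ∃ z ∈ S.Z (p 1), k * s * k⁻¹ = z * s := by
    intro k hk
    have haV : a ∈ S.V' (p 1) := S.Z_le_V' (S.symm h01) ha
    have hu0V : u * a * u⁻¹ ∈ S.V' (p 1) :=
      S.Z_le_V' (S.adj_of_fix (S.symm h01) hu1) (S.conj_mem_Z u ha)
    have ha2V : a2 ∈ S.V' (p 1) := S.Z_le_V' h12 ha2m
    obtain ⟨z, hz, e⟩ := K.tri (by omega) k1 h01 ha hu1 hg1 hu0 (by rw [hg0]; exact n02)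
      (by rw [hg0]; exact hu0'.symm) hk
    refine ⟨z, hz, ?_⟩
    have es : s = a2 * z3 * (a * (u * a * u⁻¹) * a2) := by
      have hcm : ∀ {x y : G}, x ∈ S.V' (p 1) → y ∈ S.V' (p 1) → x * y = y * x :=
        fun h h' => K.V'_comm (by omega) h h'
      calc s = u * a * u⁻¹ * a * z3 := by rw [hs, S.Z_inv K.con hu]
        _ = a * (u * a * u⁻¹) * z3 * (a2 * a2) := by
            rw [hcm hu0V haV, K.V'_sq (by omega) ha2V, mul_one]
        _ = a * (u * a * u⁻¹) * ((z3 * a2) * a2) := by simp only [mul_assoc]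
        _ = a * (u * a * u⁻¹) * (a2 * (a2 * z3)) := by
            rw [hcm hz3V ha2V, hcm (mul_mem ha2V hz3V) ha2V]
        _ = a * (u * a * u⁻¹) * a2 * (a2 * z3) := by simp only [mul_assoc]
        _ = a2 * z3 * (a * (u * a * u⁻¹) * a2) :=
            hcm (mul_mem (mul_mem haV hu0V) ha2V) (mul_mem ha2V hz3V)
    rw [es]
    calc k * (a2 * z3 * (a * (u * a * u⁻¹) * a2)) * k⁻¹
        = a2 * z3 * (k * (a * (u * a * u⁻¹) * a2) * k⁻¹) := by
          rw [← mul_assoc k, S.cen_comm K.con k1 hw hk]; group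
      _ = a2 * z3 * (z * (a * (u * a * u⁻¹) * a2)) := by rw [e]
      _ = z * (a2 * z3 * (a * (u * a * u⁻¹) * a2)) := by
          rw [← mul_assoc, S.Z_comm K.con hw hz, mul_assoc]
  set C := Subgroup.centralizer ({s} : Set G) with hC
  have memC : ∀ {k : G}, k * s * k⁻¹ = s → k ∈ C := fun {k} h =>
    Subgroup.mem_centralizer_singleton_iff.mpr (by
      calc k * s = k * s * k⁻¹ * k := by group
        _ = s * k := by rw [h])
  have sqC : ∀ {k : G}, k • p 1 = p 1 → k * k ∈ C := by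
    intro k hk
    obtain ⟨z, hz, e⟩ := inv hk
    refine memC ?_
    calc k * k * s * (k * k)⁻¹ = k * (k * s * k⁻¹) * k⁻¹ := by group
      _ = k * z * s * k⁻¹ := by rw [e]; group
      _ = z * (k * s * k⁻¹) := by rw [S.cen_comm K.con k1 hz hk]; group
      _ = z * z * s := by rw [e, mul_assoc]
      _ = s := by rw [S.Z_sq K.con hz, one_mul]
  -- a rotation around `p 1`
  obtain ⟨o, ho, ho0, ho2, hnb⟩ := S.exists_third (S.symm h01) h12 n02
  obtain ⟨g₁, hg₁, hg₁Q⟩ := S.exists_not_mem (S.symm h01)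
  obtain ⟨g₂, hg₂, hg₂Q⟩ := S.exists_not_mem h12
  have e12 : g₁ • p 2 = o :=
    S.swap_eq (S.symm h01) h12 ho n02 ho0 ho2 hg₁.1 hg₁.2 hg₁Q
  have e1o : g₁ • o = p 2 :=
    S.swap_eq (S.symm h01) ho h12 ho0 n02 ho2.symm hg₁.1 hg₁.2 hg₁Q
  have e20 : g₂ • p 0 = o :=
    S.swap_eq h12 (S.symm h01) ho n02.symm ho2 ho0 hg₂.1 hg₂.2 hg₂Q
  have e2o : g₂ • o = p 0 :=
    S.swap_eq h12 ho (S.symm h01) ho2 n02.symm ho0.symm hg₂.1 hg₂.2 hg₂Q
  have hg₁0 : g₁ • p 0 = p 0 := hg₁.2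
  have hg₂2 : g₂ • p 2 = p 2 := hg₂.2
  have hg121 : (g₁ * g₂) • p 1 = p 1 := mem_stabilizer_iff.mp (mul_mem hg₁.1 hg₂.1)
  set ρ := g₁ * g₂ * (g₁ * g₂) with hρ
  have hρC : ρ ∈ C := sqC hg121
  have hρ1 : ρ • p 1 = p 1 := by rw [hρ, mul_smul, hg121, hg121]
  have hρ2 : ρ • p 2 = p 0 := by rw [hρ, mul_smul, mul_smul, mul_smul, hg₂2, e12, e2o, hg₁0]
  have hρ0 : ρ • o = p 2 := by rw [hρ, mul_smul, mul_smul, mul_smul, e2o, hg₁0, e20, e1o]
  have rot : ∀ l, S.Adj (p 1) l → ∃ k ∈ C, k • p 1 = p 1 ∧ k • l = p 2 := by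
    intro l hl
    rcases hnb l hl with rfl | rfl | rfl
    · exact ⟨ρ⁻¹, inv_mem hρC, inv_smul_fix hρ1, inv_smul_eq_iff.mpr hρ2.symm⟩
    · exact ⟨1, one_mem _, one_smul _ _, one_smul _ _⟩
    · exact ⟨ρ, hρC, hρ1, hρ0⟩
  -- a flip at `p 2` inside `Q (p 1)`
  obtain ⟨q, hq, hqC, hqQ⟩ : ∃ q ∈ S.Q (p 1), q ∈ C ∧ q ∉ S.Q (p 2) := by
    by_contra hno
    push Not at hno
    have hidx : ∀ q ∈ S.Q (p 1), ∀ q' ∈ S.Q (p 1), q ∉ C → q' ∉ C → q * q' ∈ C := by
      intro q hq q' hq' hn hn'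
      obtain ⟨z, hz, e⟩ := inv hq.1
      obtain ⟨z', hz', e'⟩ := inv hq'.1
      have hz1 : z ≠ 1 := fun h => hn (memC (by rw [e, h, one_mul]))
      have hz1' : z' ≠ 1 := fun h => hn' (memC (by rw [e', h, one_mul]))
      have hzz := K.unique htwo k1 ⟨_, h12⟩ hz hz' hz1 hz1'
      subst hzz
      refine memC ?_
      calc q * q' * s * (q * q')⁻¹ = q * (q' * s * q'⁻¹) * q⁻¹ := by group
        _ = q * z * s * q⁻¹ := by rw [e']; group
        _ = z * (q * s * q⁻¹) := by rw [S.cen_comm K.con k1 hz hq.1]; group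
        _ = z * z * s := by rw [e, mul_assoc]
        _ = s := by rw [S.Z_sq K.con hz, one_mul]
    have heq : ∀ y ∈ S.Q (p 1), y ∈ S.Q (p 2) → y ∈ C := by
      intro y hy hy2
      by_contra hyC
      obtain ⟨t, ht, htQ⟩ := SetLike.not_le_iff_exists.mp (S.Q_not_le K.con h12)
      exact htQ (((S.Q (p 2)).mul_mem_cancel_left hy2).mp
        (hno _ (mul_mem hy ht) (hidx y hy t ht hyC fun h => htQ (hno t ht h))))
    obtain ⟨y, hy, hy2, hy0⟩ := hnl (p 1) (p 0) (p 2) k1 (S.symm h01) h12 n02.symm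
    have h := hno _ (S.conj_mem_Q_of_fix (inv_smul_fix hρ1) hy)
      (mul_mem (mul_mem (inv_mem hρC) (heq y hy hy2)) (inv_mem (inv_mem hρC)))
    have h' := S.conj_mem_Q ρ h
    rw [show ρ * (ρ⁻¹ * y * ρ⁻¹⁻¹) * ρ⁻¹ = y by group, hρ2] at h'
    exact hy0 h'
  -- an element fixing `p 3` and moving `p 2`
  obtain ⟨q', hq', hq'p⟩ := NB.extend S (NB.shift S hp (show 3 + (b - 2) ≤ b + 1 by omega))
    (by omega) b (by omega)
  have q'0 : q' 0 = p 3 := hq'p 0 (by omega)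
  have q'1 : q' 1 = p 4 := hq'p 1 (by omega)
  have q'b : q' (b - 3) = p b := by
    rw [hq'p _ (by omega)]; show p (3 + (b - 3)) = p b; rw [show 3 + (b - 3) = b by omega]
  obtain ⟨w, hwz, hwQ⟩ := SetLike.not_le_iff_exists.mp (hall _ (NB.rev S hq') (by
    rw [Nat.sub_zero]
    have h := S.cen_walk K.one hq'.1 (le_refl b)
    rw [q'0] at h
    have h' : ¬ b % 2 = 0 := by omega
    tauto))
  rw [Nat.sub_zero] at hwz
  rw [Nat.sub_self, q'0] at hwQ
  have hw3 : w • p 3 = p 3 := q'0 ▸ K.fix (Walk.near' S hq'.1 le_rfl (Nat.zero_le b) (by omega) (by omega)) hwz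
  have hw4 : w • p 4 = p 4 :=
    q'1 ▸ K.fix (Walk.near' S hq'.1 le_rfl (show 1 ≤ b by omega) (by omega) (by omega)) hwz
  have hwC : w ∈ C := Subgroup.mem_centralizer_singleton_iff.mpr (by
    have c1 := K.comm_V' (Walk.near' S hq'.1 le_rfl (show b - 3 ≤ b by omega) (by omega) (by omega))
      (by omega) hwz (q'b ▸ hx2)
    have c2 := S.cen_comm K.con k3 hz3 hw3
    exact (Commute.mul_right c1 c2))
  obtain ⟨hw2, hw2'⟩ := S.moved h34 (S.symm h23) n24.symm hw3 hw4 hwQ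
  -- an element fixing `p 1` and moving at `p 3`
  obtain ⟨r, hr, hrp⟩ := NB.extend S (NB.rev S (NB.shift S hp (show 1 + 2 ≤ b + 1 by omega)))
    (by omega) b (by omega)
  have r0 : r 0 = p 3 := hrp 0 (by omega)
  have r1 : r 1 = p 2 := hrp 1 (by omega)
  have r2 : r 2 = p 1 := hrp 2 le_rfl
  obtain ⟨f, hf, hfQ⟩ := SetLike.not_le_iff_exists.mp (hall _ (NB.rev S hr) (by
    rw [Nat.sub_zero]
    have h := S.cen_walk K.one hr.1 (le_refl b)
    rw [r0] at h
    have h' : ¬ b % 2 = 0 := by omega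
    tauto))
  rw [Nat.sub_zero] at hf
  rw [Nat.sub_self, r0] at hfQ
  have hf3 : f • p 3 = p 3 := r0 ▸ K.fix (Walk.near' S hr.1 le_rfl (Nat.zero_le b) (by omega) (by omega)) hf
  have hf2 : f • p 2 = p 2 :=
    r1 ▸ K.fix (Walk.near' S hr.1 le_rfl (show 1 ≤ b by omega) (by omega) (by omega)) hf
  have hfC : f ∈ C := Subgroup.mem_centralizer_singleton_iff.mpr
    (K.comm_V' (Walk.near' S hr.1 le_rfl (show 2 ≤ b by omega) (by omega) (by omega))
      (by omega) hf (r2 ▸ hsV))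
  refine S.eq_one_of_orbit K.one (C := C) le_rfl (j₀ := p 1) (l₀ := p 2) (m₀ := p 3) k1
    (fun v hv => K.V'_fix (Near.mono S hv (by omega)) hsV) ?_ ?_
  · intro l m hl hm hmj
    obtain ⟨k, hk, hk1, hkl⟩ := rot l hl
    have hm' : S.Adj (p 2) (k • m) := hkl ▸ S.smul k hm
    have hmj' : k • m ≠ p 1 := fun e => hmj (MulAction.injective k (e.trans hk1.symm))
    by_cases hkm : k • m = p 3
    · exact ⟨k, hk, hk1, hkl, hkm⟩
    refine ⟨q * k, mul_mem hqC hk, by rw [mul_smul, hk1, hq.1],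
      by rw [mul_smul, hkl, hq.2 _ h12], ?_⟩
    rw [mul_smul]
    exact S.swap_eq (S.symm h12) hm' h23 hmj' n13 (Ne.symm hkm) (hq.2 _ h12) hq.1 hqQ
  · intro l' hl' hne
    have hadj : S.Adj (w • p 2) (w • p 1) := S.smul w (S.symm h12)
    have hne' : w • p 1 ≠ p 3 := fun h => n13 (MulAction.injective w (h.trans hw3.symm)).symm
    by_cases hl : l' = w • p 2
    · exact ⟨w, hwC, hl ▸ hadj, hne'⟩
    · have hfw := S.swap_eq (S.symm h23) (S.adj_of_fix (S.symm h23) hw3) hl' hw2 hne hl hf3 hf2 hfQ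
      refine ⟨f * w, mul_mem hfC hwC, ?_, ?_⟩
      · rw [← hfw, mul_smul]
        exact S.smul f hadj
      · rw [mul_smul]
        exact fun h => hne' (MulAction.injective f (h.trans hf3.symm))

theorem five_eq (hodd : b % 2 = 1) (hb : 5 ≤ b) (hall : S.AllCrit b) : b = 5 := by
  by_contra hne
  obtain ⟨-, htwo⟩ := K.five_facts hodd hb hall
  obtain ⟨p, a, u, hp, hc, ha, haQ, hu, huQ⟩ := K.odd_setup (n := b + 1) le_rfl hodd hall
  obtain ⟨hz3, hx⟩ := K.five_x hodd hb hall hp hc ha haQ hu huQ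
  have hr := NB.rev S hp
  obtain ⟨hz', -⟩ := K.five_x hodd hb hall hr
    (by
      rw [Nat.sub_zero]
      intro h
      have := (K.cen_idx hp.1 hc le_rfl).mp h
      omega)
    (a := u) (u := a) (by rw [Nat.sub_zero]; exact hu)
    (by rw [show b + 1 - b = 1 by omega]; exact huQ)
    (by rw [Nat.sub_self]; exact ha) (by rw [Nat.add_sub_cancel]; exact haQ)
  rw [show b + 1 - 3 = b - 2 by omega] at hz'
  have e : a * u * a * u = u * a * u * a := by
    have := S.Z_inv K.con hz3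
    rw [_root_.mul_inv_rev, _root_.mul_inv_rev, _root_.mul_inv_rev, S.Z_inv K.con hu,
      S.Z_inv K.con ha] at this
    rw [← this, mul_assoc, mul_assoc]
  rw [e] at hz'
  have h3 : S.Cen (p 3) := (K.cen_idx hp.1 hc (by omega)).mpr rfl
  refine hx (K.inj hall htwo (NB.shift S hp (show 3 + (b - 5) ≤ b + 1 by omega)) h3 (by omega)
    (by omega) hz3 ?_)
  show u * a * u * a ∈ S.Z (p (3 + (b - 5)))
  rwa [show 3 + (b - 5) = b - 2 by omega]

theorem odd_eq_three (hodd : b % 2 = 1) : b = 3 := by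
  by_contra hne
  have hb : 5 ≤ b := by have := K.three_le hodd; omega
  have hall := K.allCrit_odd hodd
  obtain rfl := K.five_eq hodd hb hall
  obtain ⟨-, htwo⟩ := K.five_facts hodd hb hall
  obtain ⟨p, a, u, hp, hc, ha, haQ, -, -⟩ := K.odd_setup (n := 8) (by omega) hodd hall
  have k8 : ¬ S.Cen (p 8) := fun h => by
    have := (K.cen_idx hp.1 hc le_rfl).mp h
    omega
  have ha1 : a ∉ S.Z (p 1) := fun h => haQ
    (K.below _ _ (Walk.near' S hp.1 (show 1 ≤ 8 by omega) (by omega) (by omega) (by omega)) h)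
  have hr := NB.take S (NB.rev S hp) (show 5 ≤ 8 by omega)
  obtain ⟨M, hM, hMQ⟩ := SetLike.not_le_iff_exists.mp (hall _ hr k8)
  have hM8 : M ∈ S.Z (p 8) := hM
  have hM7 : M ∉ S.Z (p 7) := fun h => hMQ
    (K.below _ _ (Walk.near' S hp.1 (show 7 ≤ 8 by omega) (by omega) (by omega) (by omega)) h)
  -- a general form of `five_x`
  have X : ∀ {q : ℕ → V}, S.NB 6 q → ¬ S.Cen (q 0) → ∀ {a u : G}, a ∈ S.Z (q 0) →
      a ∉ S.Z (q 1) → u ∈ S.Z (q 6) → u ∉ S.Z (q 5) → u * a * u * a ∈ S.Z (q 3) ∧ u * a * u * a ≠ 1 := by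
    intro q hq hqc a u ha ha' hu hu'
    have h01 : S.Adj (q 0) (q 1) := hq.1 0 (by omega)
    have h65 : S.Adj (q 6) (q 5) := S.symm (hq.1 5 (by omega))
    have k6 : ¬ S.Cen (q 6) := fun h => by
      have := (K.cen_idx hq.1 hqc le_rfl).mp h
      omega
    refine K.five_x hodd hb hall hq hqc ha ?_ hu ?_
    · exact K.not_mem_of_two hall (NB.take S hq (by omega)) hqc (htwo _ _ h01 hqc) ha ha'
    · exact K.not_mem_of_two hall (NB.take S (NB.rev S hq) (by omega)) k6 (htwo _ _ h65 k6) hu hu'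
  have hMinv := S.Z_inv K.con hM8
  have hainv := S.Z_inv K.con ha
  have hM3 : M • p 3 = p 3 := K.fix (Walk.near' S hp.1 le_rfl (by omega) (by omega) (by omega)) hM8
  have hM4 : M • p 4 = p 4 := K.fix (Walk.near' S hp.1 le_rfl (by omega) (by omega) (by omega)) hM8
  obtain ⟨hM2, -⟩ := S.moved (hp.1 3 (by omega)) (S.symm (hp.1 2 (by omega))) (hp.2 2 (by omega)).symm
    hM3 hM4 hMQ
  have ha5 : a • p 5 = p 5 := K.fix (Walk.near' S hp.1 (Nat.zero_le 8) (by omega) (by omega) (by omega)) ha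
  have ha4 : a • p 4 = p 4 := K.fix (Walk.near' S hp.1 (Nat.zero_le 8) (by omega) (by omega) (by omega)) ha
  obtain ⟨ha6, -⟩ := S.moved (S.symm (hp.1 4 (by omega))) (hp.1 5 (by omega)) (hp.2 4 (by omega))
    ha5 ha4 haQ
  -- the two walks
  have hA : S.NB 6 (pre (p 0) (pre (p 1) (pre (p 2) (fun i => M • p (3 - i))))) := by
    refine NB.cons S (NB.cons S (NB.cons S (NB.smul S (NB.rev S (NB.take S hp (by omega))) M)
      ?_ (fun _ => ?_)) (hp.1 1 (by omega)) (fun _ => ?_)) (hp.1 0 (by omega)) (fun _ => ?_)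
    · show S.Adj (p 2) (M • p 3); rw [hM3]; exact hp.1 2 (by omega)
    · exact hM2.symm
    · show p 1 ≠ M • p 3; rw [hM3]; exact (hp.2 1 (by omega)).symm
    · exact (hp.2 0 (by omega)).symm
  have hB : S.NB 6 (pre (p 8) (pre (p 7) (pre (p 6) (fun i => a • p (5 + i))))) := by
    refine NB.cons S (NB.cons S (NB.cons S (NB.smul S (NB.shift S hp (show 5 + 3 ≤ 8 by omega)) a)
      ?_ (fun _ => ?_)) ?_ (fun _ => ?_)) ?_ (fun _ => ?_)
    · show S.Adj (p 6) (a • p 5); rw [ha5]; exact S.symm (hp.1 5 (by omega))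
    · exact ha6.symm
    · exact S.symm (hp.1 6 (by omega))
    · show p 7 ≠ a • p 5; rw [ha5]; exact hp.2 5 (by omega)
    · exact S.symm (hp.1 7 (by omega))
    · exact hp.2 6 (by omega)
  have conjmem : ∀ {g z : G} {v : V}, z ∈ S.Z v → g * z * g⁻¹ ∈ S.Z (g • v) :=
    fun hz => S.conj_mem_Z _ hz
  have conjnot : ∀ {g z : G} {v : V}, z ∉ S.Z v → g * z * g⁻¹ ∉ S.Z (g • v) := fun {g z v} hz h => hz (by
    have h' := S.conj_mem_Z g⁻¹ h
    rwa [inv_smul_smul, show g⁻¹ * (g * z * g⁻¹) * g⁻¹⁻¹ = z by group] at h')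
  obtain ⟨hzA, hzA1⟩ := X hA hc (a := a) (u := M * a * M⁻¹) ha ha1 (conjmem ha) (conjnot ha1)
  obtain ⟨hzB, -⟩ := X hB k8 (a := M) (u := a * M * a⁻¹) hM8 hM7 (conjmem hM8) (conjnot hM7)
  have hzA' : M * a * M⁻¹ * a * (M * a * M⁻¹) * a ∈ S.Z (p 3) := hM3 ▸ hzA
  have hzB' : a * M * a⁻¹ * M * (a * M * a⁻¹) * M ∈ S.Z (p 5) := ha5 ▸ hzB
  refine hzA1 (K.inj hall htwo (r := fun i => p (3 + i)) (n := 2)
    (NB.shift S hp (by omega)) ((K.cen_idx hp.1 hc (show 3 ≤ 8 by omega)).mpr rfl) le_rfl (by omega)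
    hzA' ?_)
  show M * a * M⁻¹ * a * (M * a * M⁻¹) * a ∈ S.Z (p 5)
  have e : M * a * M⁻¹ * a * (M * a * M⁻¹) * a = (a * M * a⁻¹ * M * (a * M * a⁻¹) * M)⁻¹ := by
    simp only [_root_.mul_inv_rev, hMinv, hainv, mul_assoc]
  rw [e]
  exact inv_mem hzB'

end Cubic.Setting

end Cfsg.Agent.Amalgam33
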