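import Cfsg.Agent.Lib.Amalgam33.TypeBFive

/-!
Critical distance three: `Cubic.Setting.three_facts` (no lock, `Two`, the parity of the kernel of a central vertex).
-/

set_option autoImplicit false
set_option linter.unusedSectionVars false
set_option linter.style.haveILetI false

namespace Cfsg.Agent.Amalgam33

open MulAction Cfsg.Agent.ThompsonWielandt.Cubic

universe u₁ u₂

theorem inv_comm_four {G : Type*} [Group G] {a u : G} (ha : a⁻¹ = a) (hu : u⁻¹ = u) :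
    (u * a * u * a)⁻¹ = a * u * a * u := by
  simp only [_root_.mul_inv_rev, ha, hu, mul_assoc]

namespace Cubic.Setting

variable {G : Type u₁} [Group G] [Finite G] {V : Type u₂} [MulAction G V] {S : Cubic G V}
  (K : S.Setting 3)
include K

theorem nb_four_rev {p : ℕ → V} (hp : S.NB 4 p) (hc : ¬ S.Cen (p 0)) : ¬ S.Cen (p 4) := fun h => by
  have := (K.cen_idx hp.1 hc le_rfl).mp h
  omega

/-- A stabiliser of the first two inner vertices fixes the commutator modulo the first. -/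
theorem three_mod {p : ℕ → V} (hp : S.NB 4 p) (hc : ¬ S.Cen (p 0)) {a u : G}
    (ha : a ∈ S.Z (p 0)) (hu : u ∈ S.Z (p 4)) (huQ : u ∉ S.Q (p 1)) {k : G}
    (hk1 : k • p 1 = p 1) (hk2 : k • p 2 = p 2) :
    ∃ z ∈ S.Z (p 1), k * (u * a * u * a) * k⁻¹ = z * (u * a * u * a) := by
  have h01 : S.Adj (p 0) (p 1) := hp.1 0 (by omega)
  have h12 : S.Adj (p 1) (p 2) := hp.1 1 (by omega)
  have n02 : p 2 ≠ p 0 := hp.2 0 (by omega)
  have k1 : S.Cen (p 1) := K.cen h01 hc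
  have hu1 : u • p 1 = p 1 := K.fix (Walk.near' S hp.1 le_rfl (by omega) (by omega) (by omega)) hu
  have hu2 : u • p 2 = p 2 := K.fix (Walk.near' S hp.1 le_rfl (by omega) (by omega) (by omega)) hu
  obtain ⟨hu0, hu0'⟩ := S.moved h12 (S.symm h01) n02.symm hu1 hu2 huQ
  obtain ⟨g, hg1, hg0⟩ := S.trans (S.symm h01) h12
  obtain ⟨z, hz, e⟩ := K.tri le_rfl k1 h01 ha hu1 hg1 hu0 (by rw [hg0]; exact n02)
    (by rw [hg0]; exact hu0'.symm) hk1
  set w := g * a * g⁻¹ with hw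
  have hwm : w ∈ S.Z (p 2) := hg0 ▸ S.conj_mem_Z g ha
  have hz' := K.comm_mem (S.symm h12) k1 hk2 hk1 hwm
  set z' := k * w * k⁻¹ * w with hz'def
  have ew : k * w * k⁻¹ = z' * w := by
    rw [hz'def, mul_assoc (k * w * k⁻¹) w w, S.Z_sq K.con hwm, mul_one]
  have haV : a ∈ S.V' (p 1) := S.Z_le_V' (S.symm h01) ha
  have huV : u * a * u ∈ S.V' (p 1) := by
    have h := S.conj_mem_V' u haV
    rwa [hu1, S.Z_inv K.con hu] at h
  have hwV : w ∈ S.V' (p 1) := S.Z_le_V' h12 hwm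
  have hz'V : z' ∈ S.V' (p 1) := K.Z_le_V'_self k1 (S.symm h01) hz'
  have hcm : ∀ {x y : G}, x ∈ S.V' (p 1) → y ∈ S.V' (p 1) → x * y = y * x :=
    fun h h' => K.V'_comm le_rfl h h'
  rw [S.Z_inv K.con hu] at e
  set s := a * (u * a * u) * w with hs
  have es : u * a * u * a = s * w := by
    rw [hs, mul_assoc (a * (u * a * u)) w w, S.Z_sq K.con hwm, mul_one, hcm haV huV]
  refine ⟨z * z', mul_mem hz hz', ?_⟩
  have hsV : s ∈ S.V' (p 1) := mul_mem (mul_mem haV huV) hwV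
  rw [es]
  calc k * (s * w) * k⁻¹ = k * s * k⁻¹ * (k * w * k⁻¹) := by group
    _ = z * (s * z') * w := by rw [e, ew]; group
    _ = z * z' * (s * w) := by rw [hcm hsV hz'V]; group

/-- The commutator lies in `Z` of the middle vertex. -/
theorem three_mem {p : ℕ → V} (hp : S.NB 4 p) (hc : ¬ S.Cen (p 0)) {a u : G}
    (ha : a ∈ S.Z (p 0)) (hu : u ∈ S.Z (p 4)) (huQ : u ∉ S.Q (p 1)) :
    u * a * u * a ∈ S.Z (p 2) := by
  have h01 : S.Adj (p 0) (p 1) := hp.1 0 (by omega)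
  have h12 : S.Adj (p 1) (p 2) := hp.1 1 (by omega)
  have h23 : S.Adj (p 2) (p 3) := hp.1 2 (by omega)
  have h34 : S.Adj (p 3) (p 4) := hp.1 3 (by omega)
  have n13 : p 3 ≠ p 1 := hp.2 1 (by omega)
  have k1 : S.Cen (p 1) := K.cen h01 hc
  have k2 : ¬ S.Cen (p 2) := K.not_cen (S.symm h12) k1
  have k3 : S.Cen (p 3) := K.cen h23 k2
  have huinv := S.Z_inv K.con hu
  have hainv := S.Z_inv K.con ha
  by_cases haQ : a ∈ S.Q (p 3)
  · have h := K.comm_mem (S.symm h34) k3 (haQ.2 _ h34) haQ.1 hu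
    rw [hainv] at h
    rw [← inv_inv (u * a * u * a), inv_comm_four hainv huinv]
    exact inv_mem (K.Z_le_Z h23 k3 h)
  set x := u * a * u * a with hx
  have hu1 : u • p 1 = p 1 := K.fix (Walk.near' S hp.1 le_rfl (by omega) (by omega) (by omega)) hu
  have hxV : x ∈ S.V' (p 1) := by
    have haV : a ∈ S.V' (p 1) := S.Z_le_V' (S.symm h01) ha
    have h := S.conj_mem_V' u haV
    rw [hu1, huinv] at h
    exact mul_mem h haV
  have hx2 : x ∈ S.Q (p 2) := (S.V'_le fun w hw => K.below _ _ (S.near_two (S.symm hw) h12)) hxV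
  have hxx : x * x = 1 := K.V'_sq le_rfl hxV
  have mod1 : ∀ {k : G}, k • p 1 = p 1 → k • p 2 = p 2 → ∃ z ∈ S.Z (p 1), k * x * k⁻¹ = z * x :=
    fun h h' => K.three_mod hp hc ha hu huQ h h'
  have mod3 : ∀ {k : G}, k • p 3 = p 3 → k • p 2 = p 2 → ∃ z ∈ S.Z (p 3), k * x * k⁻¹ = z * x := by
    intro k h h'
    obtain ⟨z, hz, e⟩ := K.three_mod (a := u) (u := a) (NB.rev S hp) (K.nb_four_rev hp hc) hu ha haQ h h'
    refine ⟨z, hz, ?_⟩
    rw [← inv_comm_four hainv huinv, show (u * a * u * a)⁻¹ = x from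
      inv_eq_of_mul_eq_one_right hxx] at e
    exact e
  have Qc : ∀ q ∈ S.Q (p 2), q * x = x * q := by
    intro q hq
    obtain ⟨z, hz, e⟩ := mod1 (hq.2 _ (S.symm h12)) hq.1
    obtain ⟨z', hz', e'⟩ := mod3 (hq.2 _ h23) hq.1
    obtain rfl : z = z' := mul_right_cancel (e.symm.trans e')
    calc q * x = q * x * q⁻¹ * q := by group
      _ = x * q := by rw [e, K.meet (S.symm h12) h23 n13 k1 hz hz', one_mul]
  obtain ⟨t, ht, htQ⟩ := S.exists_not_mem (S.symm h12)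
  obtain ⟨t', ht', htQ'⟩ := S.exists_not_mem h23
  set g := t * t' with hg
  have ht2 : t • p 2 = p 2 := ht.1
  have ht1 : t • p 1 = p 1 := ht.2
  have ht'2 : t' • p 2 = p 2 := ht'.1
  have ht'3 : t' • p 3 = p 3 := ht'.2
  have hg2 : g • p 2 = p 2 := by rw [hg, mul_smul, ht'2, ht2]
  obtain ⟨o, ho, ho1, ho3, hnb⟩ := S.exists_third (S.symm h12) h23 n13
  have e3o : t • p 3 = o := S.swap_eq (S.symm h12) h23 ho n13 ho1 ho3 ht2 ht1 htQ
  have eo3 : t • o = p 3 := S.swap_eq (S.symm h12) ho h23 ho1 n13 ho3.symm ht2 ht1 htQ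
  have e1o : t' • p 1 = o := S.swap_eq h23 (S.symm h12) ho n13.symm ho3 ho1 ht'2 ht'3 htQ'
  have eo1 : t' • o = p 1 := S.swap_eq h23 ho (S.symm h12) ho3 n13.symm ho1.symm ht'2 ht'3 htQ'
  have hg1 : g • p 1 = p 3 := by rw [hg, mul_smul, e1o, eo3]
  have hg3 : g • p 3 = o := by rw [hg, mul_smul, ht'3, e3o]
  have hgo : g • o = p 1 := by rw [hg, mul_smul, eo1, ht1]
  have hg3Q : g * g * g ∈ S.Q (p 2) := by
    refine S.mem_Q_of_two (S.symm h12) h23 n13 ?_ ?_ ?_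
    · rw [mul_smul, mul_smul, hg2, hg2, hg2]
    · rw [mul_smul, mul_smul, hg1, hg3, hgo]
    · rw [mul_smul, mul_smul, hg3, hgo, hg1]
  -- conjugation modulo `Z (p 2)`
  obtain ⟨y₁, hy₁, ey₁⟩ := mod1 ht1 ht2
  obtain ⟨y₃, hy₃, ey₃⟩ := mod3 ht'3 ht'2
  have hy₁' : y₁ ∈ S.Z (p 2) := K.Z_le_Z (S.symm h12) k1 hy₁
  have hy₃' : y₃ ∈ S.Z (p 2) := K.Z_le_Z h23 k3 hy₃
  set z := t * y₃ * t⁻¹ * y₁ with hz
  have hz2 : z ∈ S.Z (p 2) := mul_mem (S.conj_mem_Z_of_fix ht2 hy₃') hy₁'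
  have eg : g * x * g⁻¹ = z * x := by
    calc g * x * g⁻¹ = t * (t' * x * t'⁻¹) * t⁻¹ := by rw [hg]; group
      _ = t * y₃ * t⁻¹ * (t * x * t⁻¹) := by rw [ey₃]; group
      _ = z * x := by rw [ey₁, hz]; group
  set w := g * z * g⁻¹ with hwdef
  have hw2 : w ∈ S.Z (p 2) := S.conj_mem_Z_of_fix hg2 hz2
  have hrel : g * w * g⁻¹ * w * z = 1 := by
    have h := Qc _ hg3Q
    have e : g * g * g * x * (g * g * g)⁻¹ = g * w * g⁻¹ * w * z * x := by
      calc g * g * g * x * (g * g * g)⁻¹ = g * (g * (g * x * g⁻¹) * g⁻¹) * g⁻¹ := by group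
        _ = g * (g * (z * x) * g⁻¹) * g⁻¹ := by rw [eg]
        _ = g * (g * z * g⁻¹ * (g * x * g⁻¹)) * g⁻¹ := by group
        _ = g * (w * (z * x)) * g⁻¹ := by rw [eg, hwdef]
        _ = g * w * g⁻¹ * (g * z * g⁻¹) * (g * x * g⁻¹) := by group
        _ = g * w * g⁻¹ * w * (z * x) := by rw [eg, hwdef]
        _ = g * w * g⁻¹ * w * z * x := by rw [← mul_assoc]
    rw [h, mul_inv_cancel_right] at e
    exact mul_right_cancel (e.symm.trans (one_mul x).symm)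
  set h' := w * x with hh'
  have Qc' : ∀ q ∈ S.Q (p 2), q * h' = h' * q := fun q hq =>
    Commute.mul_right (S.Z_comm_Q K.con hw2 hq) (Qc q hq)
  have egw : g * w * g⁻¹ = z * w := by
    rw [mul_assoc (g * w * g⁻¹) w z] at hrel
    rw [mul_eq_one_iff_eq_inv.mp hrel, _root_.mul_inv_rev, S.Z_inv K.con hz2, S.Z_inv K.con hw2]
  have gh : g * h' * g⁻¹ = h' := by
    calc g * h' * g⁻¹ = g * w * g⁻¹ * (g * x * g⁻¹) := by rw [hh']; group
      _ = z * (w * z) * x := by rw [egw, eg]; simp only [mul_assoc]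
      _ = z * z * w * x := by rw [S.Z_comm K.con hw2 hz2, ← mul_assoc z z w]
      _ = h' := by rw [S.Z_sq K.con hz2, one_mul, hh']
  set y := t * w * t⁻¹ * y₁ * w with hydef
  have hy2 : y ∈ S.Z (p 2) := mul_mem (mul_mem (S.conj_mem_Z_of_fix ht2 hw2) hy₁') hw2
  have th : t * h' * t⁻¹ = y * h' := by
    calc t * h' * t⁻¹ = t * w * t⁻¹ * (t * x * t⁻¹) := by rw [hh']; group
      _ = t * w * t⁻¹ * y₁ * (w * w) * x := by rw [ey₁, S.Z_sq K.con hw2, mul_one]; group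
      _ = y * h' := by rw [hydef, hh']; group
  have ty : t * y = y * t := by
    have h := Qc' _ (S.mul_self_mem_Q (S.symm h12) ht)
    have e : t * t * h' * (t * t)⁻¹ = t * y * t⁻¹ * y * h' := by
      calc t * t * h' * (t * t)⁻¹ = t * (t * h' * t⁻¹) * t⁻¹ := by group
        _ = t * (y * h') * t⁻¹ := by rw [th]
        _ = t * y * t⁻¹ * (t * h' * t⁻¹) := by group
        _ = t * y * t⁻¹ * y * h' := by rw [th, ← mul_assoc]
    rw [h, mul_inv_cancel_right] at e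
    have e' : t * y * t⁻¹ * y = 1 := mul_right_cancel (e.symm.trans (one_mul h').symm)
    calc t * y = t * y * t⁻¹ * y * (y⁻¹ * t) := by group
      _ = y * t := by rw [e', one_mul, S.Z_inv K.con hy2]
  have gy : g * y = y * g := by
    set q := t * t * (t' * t') with hq
    have hqQ : q ∈ S.Q (p 2) :=
      mul_mem (S.mul_self_mem_Q (S.symm h12) ht) (S.mul_self_mem_Q h23 ht')
    have et : t * g * t⁻¹ = q * g⁻¹ := by rw [hq, hg]; group
    have cg : Commute g⁻¹ h' := (show Commute g h' from by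
      calc g * h' = g * h' * g⁻¹ * g := by group
        _ = h' * g := by rw [gh]).inv_left
    have c1 : Commute (q * g⁻¹) h' := (show Commute q h' from Qc' q hqQ).mul_left cg
    have c2 : Commute (q * g⁻¹) (y * h') := by
      rw [← et, ← th]
      calc t * g * t⁻¹ * (t * h' * t⁻¹) = t * (g * h' * g⁻¹) * g * t⁻¹ := by group
        _ = t * h' * t⁻¹ * (t * g * t⁻¹) := by rw [gh]; group
    have c3 : Commute (q * g⁻¹) y := by
      have := c2.mul_right c1.inv_right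
      rwa [mul_inv_cancel_right] at this
    have c4 : Commute g⁻¹ y := by
      have := (show Commute q y from S.Z_comm_Q K.con hy2 hqQ).inv_left.mul_left c3
      rwa [inv_mul_cancel_left] at this
    exact (Commute.inv_left_iff.mp c4)
  have hy1 : y ∈ S.Z (p 1) := K.Z_of_comm (S.symm h12) k1 ht2 ht1 htQ hy2 ty
  have hy3 : y ∈ S.Z (p 3) := by
    have h := S.conj_mem_Z g hy1
    rwa [hg1, gy, mul_inv_cancel_right] at h
  have hyone : y = 1 := K.meet (S.symm h12) h23 n13 k1 hy1 hy3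
  rw [hyone, one_mul] at th
  have tc : t * h' = h' * t := by
    calc t * h' = t * h' * t⁻¹ * t := by group
      _ = h' * t := by rw [th]
  have hh'Q : h' ∈ S.Q (p 2) := mul_mem (S.Z_le_Q K.con _ hw2) hx2
  have hmem : h' ∈ Zc (stabilizer G (p 2) ⊓ stabilizer G (p 1)) := by
    refine ⟨S.Q_le (S.symm h12) hh'Q, fun k hk => ?_, ?_⟩
    · by_cases hkQ : k ∈ S.Q (p 2)
      · exact Qc' k hkQ
      · have h := Qc' _ (S.mul_mem_Q (S.symm h12) hk ht hkQ htQ)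
        calc k * h' = k * (h' * t) * t⁻¹ := by group
          _ = (k * t * h') * t⁻¹ := by rw [← tc]; group
          _ = h' * k := by rw [h]; group
    · rw [hh']
      have hc := S.Z_comm_Q K.con hw2 hx2
      calc w * x * (w * x) = w * (x * w) * x := by group
        _ = (w * w) * (x * x) := by rw [hc]; group
        _ = 1 := by rw [S.Z_sq K.con hw2, hxx, one_mul]
  have h2 : h' ∈ S.Z (p 2) := K.Z_le_Z (S.symm h12) k1 (K.Zc_eq (S.symm h12) k1 ▸ hmem)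
  have := mul_mem (inv_mem hw2) h2
  rwa [hh', inv_mul_cancel_left] at this

theorem three_walk {v x y : V} (hx : S.Adj v x) (hy : S.Adj v y) (hne : x ≠ y) :
    ∃ p, S.NB 4 p ∧ p 0 = x ∧ p 1 = v ∧ p 2 = y := by
  obtain ⟨p, hp, hpe⟩ := NB.extend S (S.nb_two (S.symm hx) hy hne) (by omega) 4 (by omega)
  exact ⟨p, hp, hpe 0 (by omega), hpe 1 (by omega), hpe 2 (by omega)⟩

/-- The product of the transports of an element lies in `Z` of the middle vertex. -/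
theorem three_sigma (hall : S.AllCrit 3) {v x y z : V} (hv : S.Cen v) (hx : S.Adj v x)
    (hy : S.Adj v y) (hz : S.Adj v z) (hxy : x ≠ y) (hzx : z ≠ x) (hzy : z ≠ y) {a g h : G}
    (ha : a ∈ S.Z x) (hg : g • v = v) (hgx : g • x = y) (hh : h • v = v) (hhx : h • x = z) :
    a * (g * a * g⁻¹) * (h * a * h⁻¹) ∈ S.Z y := by
  obtain ⟨p, hp, rfl, rfl, rfl⟩ := K.three_walk hx hy hxy
  have hc : ¬ S.Cen (p 0) := K.not_cen (S.symm hx) hv
  obtain ⟨u, hu, huQ⟩ := SetLike.not_le_iff_exists.mp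
    (hall _ (NB.take S (NB.rev S hp) (by omega)) (K.nb_four_rev hp hc))
  have hu4 : u ∈ S.Z (p 4) := hu
  have huQ1 : u ∉ S.Q (p 1) := huQ
  have hu1 : u • p 1 = p 1 := K.fix (Walk.near' S hp.1 le_rfl (by omega) (by omega) (by omega)) hu4
  have hu2 : u • p 2 = p 2 := K.fix (Walk.near' S hp.1 le_rfl (by omega) (by omega) (by omega)) hu4
  have hu0 : u • p 0 = z := S.swap_eq hy hx hz hxy hzy hzx hu1 hu2 huQ1
  obtain ⟨d, hd, e⟩ := K.trans_eq hv (S.symm hx) hu1 hh (hu0.trans hhx.symm) ha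
  have hd2 : d ∈ S.Z (p 2) := K.Z_le_Z (S.symm hy) hv hd
  have hw : g * a * g⁻¹ ∈ S.Z (p 2) := hgx ▸ S.conj_mem_Z g ha
  have hX := K.three_mem hp hc ha hu4 huQ1
  have huinv := S.Z_inv K.con hu4
  have haV : a ∈ S.V' (p 1) := S.Z_le_V' hx ha
  have hwV : g * a * g⁻¹ ∈ S.V' (p 1) := S.Z_le_V' hy hw
  have hdV : d ∈ S.V' (p 1) := K.Z_le_V'_self hv hx hd
  have huV : u * a * u ∈ S.V' (p 1) := by
    have h := S.conj_mem_V' u haV
    rwa [hu1, huinv] at h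
  have hcm : ∀ {x y : G}, x ∈ S.V' (p 1) → y ∈ S.V' (p 1) → x * y = y * x :=
    fun h h' => K.V'_comm le_rfl h h'
  have ee : a * (g * a * g⁻¹) * (h * a * h⁻¹) = u * a * u * a * (g * a * g⁻¹ * d) := by
    rw [e, huinv, hcm hdV huV, hcm huV haV]
    calc a * (g * a * g⁻¹) * (u * a * u * d) = a * ((g * a * g⁻¹) * (u * a * u)) * d := by group
      _ = a * (u * a * u) * (g * a * g⁻¹ * d) := by rw [hcm hwV huV]; group
  rw [ee]
  exact mul_mem hX (mul_mem hw hd2)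

theorem three_noLock (hall : S.AllCrit 3) : S.NoLock := by
  by_contra hlock
  obtain ⟨p, a, u, hp, hc, ha, haQ, -, -⟩ := K.odd_setup (n := 4) le_rfl (by norm_num) hall
  have h01 : S.Adj (p 0) (p 1) := hp.1 0 (by omega)
  have h12 : S.Adj (p 1) (p 2) := hp.1 1 (by omega)
  have n02 : p 2 ≠ p 0 := hp.2 0 (by omega)
  have k1 : S.Cen (p 1) := K.cen h01 hc
  obtain ⟨o, ho, ho0, ho2, hnb⟩ := S.exists_third (S.symm h01) h12 n02
  suffices key : ∀ a ∈ S.Z (p 0), a ∈ S.Z (p 2) by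
    obtain ⟨g, hg1, hgo, hg0⟩ := S.swap ho (S.symm h01) h12 ho0.symm ho2.symm
    refine K.Z_ne (S.symm h01) h12 n02 (le_antisymm key fun z hz => ?_)
    have e2 : g • p 2 = p 0 := by
      rcases hnb _ (S.adj_of_fix h12 hg1) with h | h | h
      · exact h
      · exact absurd (MulAction.injective g (h.trans hg0.symm)) n02
      · exact absurd (MulAction.injective g (h.trans hgo.symm)) ho2.symm
    have h1 := key _ (e2 ▸ S.conj_mem_Z g hz)
    have h2 := S.conj_mem_Z g⁻¹ h1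
    rwa [← hg0, inv_smul_smul, show g⁻¹ * (g * z * g⁻¹) * g⁻¹⁻¹ = z by group] at h2
  intro a ha
  obtain ⟨g, hg1, hg0⟩ := S.trans (S.symm h01) h12
  obtain ⟨h, hh1, hh0⟩ := S.trans (S.symm h01) ho
  have hσ := K.three_sigma hall k1 (S.symm h01) h12 ho n02.symm ho0 ho2 ha hg1 hg0 hh1 hh0
  set σ := a * (g * a * g⁻¹) * (h * a * h⁻¹) with hσdef
  obtain ⟨q, hq, hq0⟩ := SetLike.not_le_iff_exists.mp (S.Q_not_le K.con (S.symm h01))
  have hqE : ∀ {q : G}, q ∈ S.Q (p 1) → q ∈ stabilizer G (p 0) ⊓ stabilizer G (p 1) := fun hq =>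
    ⟨hq.2 _ (S.symm h01), hq.1⟩
  have hcz := K.comm_mem h01 k1 (hqE hq).1 hq.1 ha
  set c := q * a * q⁻¹ * a with hcdef
  have ea : q * a * q⁻¹ = c * a := by
    rw [hcdef, mul_assoc (q * a * q⁻¹) a a, S.Z_sq K.con ha, mul_one]
  have eall : ∀ {k : G}, k • p 1 = p 1 → q * (k * a * k⁻¹) * q⁻¹ = c * (k * a * k⁻¹) := by
    intro k hk
    set q' := k⁻¹ * q * k with hq'
    have hq'Q : q' ∈ S.Q (p 1) := by
      have h := S.conj_mem_Q_of_fix (inv_smul_fix hk) hq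
      rwa [inv_inv] at h
    have hq'0 : q' ∉ S.Q (p 0) := fun hin => hq0 (by
      have hD := S.lock_all K.one hlock k1 (S.symm h01) q' hq'Q hin
      have h := S.conj_mem_D k hD
      rw [hk, hq', show k * (k⁻¹ * q * k) * k⁻¹ = q by group] at h
      exact ((S.mem_D).mp h).2 _ (S.symm h01))
    have hd : q⁻¹ * q' ∈ S.Q (p 0) :=
      S.mul_mem_Q h01 (inv_mem (hqE hq)) (hqE hq'Q) (fun h => hq0 (inv_mem_iff.mp h)) hq'0
    have e' : q' * a * q'⁻¹ = c * a := by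
      calc q' * a * q'⁻¹ = q * ((q⁻¹ * q') * a) * (q⁻¹ * q')⁻¹ * q⁻¹ := by group
        _ = q * a * q⁻¹ := by rw [S.Z_comm_Q K.con ha hd]; group
        _ = c * a := ea
    calc q * (k * a * k⁻¹) * q⁻¹ = k * (q' * a * q'⁻¹) * k⁻¹ := by rw [hq']; group
      _ = (k * c) * a * k⁻¹ := by rw [e']; group
      _ = c * (k * a * k⁻¹) := by rw [S.cen_comm K.con k1 hcz hk]; group
  have haV : a ∈ S.V' (p 1) := S.Z_le_V' (S.symm h01) ha
  have hcV : c ∈ S.V' (p 1) := K.Z_le_V'_self k1 (S.symm h01) hcz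
  have hgV : g * a * g⁻¹ ∈ S.V' (p 1) := S.Z_le_V' h12 (hg0 ▸ S.conj_mem_Z g ha)
  have hhV : h * a * h⁻¹ ∈ S.V' (p 1) := S.Z_le_V' ho (hh0 ▸ S.conj_mem_Z h ha)
  have eσ : q * σ * q⁻¹ = c * σ := by
    calc q * σ * q⁻¹ = (q * a * q⁻¹) * (q * (g * a * g⁻¹) * q⁻¹) * (q * (h * a * h⁻¹) * q⁻¹) := by
          rw [hσdef]; group
      _ = c * a * (c * (g * a * g⁻¹)) * (c * (h * a * h⁻¹)) := by rw [ea, eall hg1, eall hh1]
      _ = c * c * c * σ := (perm_three (S.V' (p 1)) (fun x hx y hy => K.V'_comm le_rfl hx hy)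
            hcV hcV hcV haV hgV hhV).2.1
      _ = c * σ := by rw [S.Z_sq K.con hcz, one_mul]
  have hσV : σ ∈ S.V' (p 1) := mul_mem (mul_mem haV hgV) hhV
  obtain ⟨k, hk1, hkx⟩ : ∃ k, k • p 1 = p 1 ∧ k • p 2 = p 0 :=
    ⟨g⁻¹, inv_smul_fix hg1, inv_smul_eq_iff.mpr hg0.symm⟩
  have hσ0 : σ ∈ S.Z (p 0) := by
    obtain ⟨z, hz, e⟩ := K.tri le_rfl k1 h01 ha hg1 hh1 (by rw [hg0]; exact n02)
      (by rw [hh0]; exact ho0) (by rw [hg0, hh0]; exact ho2) hk1
    have h1 := S.conj_mem_Z k hσ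
    rw [hkx, e] at h1
    have h2 := mul_mem (inv_mem (K.Z_le_Z h01 k1 hz)) h1
    rwa [inv_mul_cancel_left] at h2
  have hcomm : q * (a * σ) = a * σ * q := by
    calc q * (a * σ) = (q * a * q⁻¹) * (q * σ * q⁻¹) * q := by group
      _ = c * (a * c) * σ * q := by rw [ea, eσ]; group
      _ = (c * c) * (a * σ) * q := by rw [K.V'_comm le_rfl haV hcV]; group
      _ = a * σ * q := by rw [S.Z_sq K.con hcz, one_mul]
  have h1 := K.Z_of_comm h01 k1 (hqE hq).1 hq.1 hq0 (mul_mem ha hσ0) hcomm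
  have h2 := mul_mem (K.Z_le_Z (S.symm h12) k1 h1) (inv_mem hσ)
  rwa [mul_inv_cancel_right] at h2

theorem three_two (hall : S.AllCrit 3) : ∀ u w, S.Adj u w → ¬ S.Cen u → S.Two u w := by
  have hnl := K.three_noLock hall
  obtain ⟨p, a, u, hp, hc, ha, haQ, hu, huQ⟩ := K.odd_setup (n := 4) le_rfl (by norm_num) hall
  change u ∈ S.Z (p 4) at hu
  have h01 : S.Adj (p 0) (p 1) := hp.1 0 (by omega)
  have h12 : S.Adj (p 1) (p 2) := hp.1 1 (by omega)
  have h23 : S.Adj (p 2) (p 3) := hp.1 2 (by omega)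
  have h34 : S.Adj (p 3) (p 4) := hp.1 3 (by omega)
  have k1 : S.Cen (p 1) := K.cen h01 hc
  have k3 : S.Cen (p 3) := K.cen h23 (K.not_cen (S.symm h12) k1)
  have k4 := K.nb_four_rev hp hc
  have hu1 : u • p 1 = p 1 := K.fix (Walk.near' S hp.1 le_rfl (by omega) (by omega) (by omega)) hu
  have hu2 : u • p 2 = p 2 := K.fix (Walk.near' S hp.1 le_rfl (by omega) (by omega) (by omega)) hu
  obtain ⟨hu0, -⟩ := S.moved h12 (S.symm h01) (hp.2 0 (by omega)).symm hu1 hu2 huQ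
  have hE4 : ∀ z ∈ S.Z (p 4), z ∈ stabilizer G (p 1) ⊓ stabilizer G (p 2) := fun z hz =>
    ⟨K.fix (Walk.near' S hp.1 le_rfl (by omega) (by omega) (by omega)) hz,
      K.fix (Walk.near' S hp.1 le_rfl (by omega) (by omega) (by omega)) hz⟩
  have hE0 : ∀ z ∈ S.Z (p 0), z ∈ stabilizer G (p 3) ⊓ stabilizer G (p 2) := fun z hz =>
    ⟨K.fix (Walk.near' S hp.1 (Nat.zero_le 4) (by omega) (by omega) (by omega)) hz,
      K.fix (Walk.near' S hp.1 (Nat.zero_le 4) (by omega) (by omega) (by omega)) hz⟩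
  by_cases hex : ∀ h ∈ S.Z (p 0), h ∈ S.Q (p 3) → h ∈ S.Z (p 1)
  · have htwo : S.Two (p 0) (p 1) := fun x hx y hy hxw hyw => hex _ (mul_mem hx hy)
      (S.mul_mem_Q (S.symm h23) (hE0 x hx) (hE0 y hy) (fun h => hxw (hex x hx h))
        (fun h => hyw (hex y hy h)))
    exact fun v w h hv => K.two_all h01 hc htwo h hv
  push Not at hex
  obtain ⟨h, hh, hh3, hh1⟩ := hex
  have hh4 : h ∉ S.Q (p 4) := by
    intro hin
    refine hh1 (K.inter hnl k1 (S.symm h01) (S.adj_of_fix (S.symm h01) hu1) hu0.symm hh ?_)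
    have h' := S.conj_mem_Z u hh
    rwa [← S.Z_comm_Q K.con hu hin, mul_inv_cancel_right] at h'
  have key : ∀ z ∈ S.Z (p 4), z ∈ S.Q (p 1) → z ∈ S.Z (p 3) := by
    intro z hz hzQ
    have hz0 : z • p 0 = p 0 := hzQ.2 _ (S.symm h01)
    have e1 := K.comm_mem h01 k1 hz0 hzQ.1 hh
    have e3 := K.comm_mem (S.symm h34) k3 (hh3.2 _ h34) hh3.1 hz
    have hzi := S.Z_inv K.con hz
    have hhi := S.Z_inv K.con hh
    rw [hzi] at e1
    rw [hhi, ← inv_comm_four hhi hzi, inv_mem_iff] at e3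
    have e : z * h * z * h = 1 := K.meet (S.symm h12) h23 (hp.2 1 (by omega)) k1 e1 e3
    refine K.Z_of_comm (S.symm h34) k3 (hh3.2 _ h34) hh3.1 hh4 hz ?_
    calc h * z = (z * h * z * h)⁻¹ * (z * h) := by
          rw [inv_comm_four hhi hzi, mul_assoc (h * z * h) z, ← mul_assoc z z h, S.Z_sq K.con hz,
            one_mul, mul_assoc, S.Z_sq K.con hh, mul_one]
      _ = z * h := by rw [e, inv_one, one_mul]
  have htwo : S.Two (p 4) (p 3) := fun x hx y hy hxw hyw => key _ (mul_mem hx hy)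
    (S.mul_mem_Q h12 (hE4 x hx) (hE4 y hy) (fun h => hxw (key x hx h)) (fun h => hyw (key y hy h)))
  exact fun v w h hv => K.two_all (S.symm h34) k4 htwo h hv

/-- Membership in the kernels at the three neighbours of a central vertex is even. -/
theorem three_even (hall : S.AllCrit 3) {v x y z : V} (hv : S.Cen v) (hx : S.Adj v x)
    (hy : S.Adj v y) (hz : S.Adj v z) (hxy : x ≠ y) (hzx : z ≠ x) (hzy : z ≠ y) {q : G}
    (hq : q ∈ S.Q v) : q ∈ S.Q z ↔ (q ∈ S.Q x ↔ q ∈ S.Q y) := by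
  have hnl := K.three_noLock hall
  have htwo := K.three_two hall
  obtain ⟨p, hp, rfl, rfl, rfl⟩ := K.three_walk hx hy hxy
  have hc : ¬ S.Cen (p 0) := K.not_cen (S.symm hx) hv
  obtain ⟨a, ha, haQ⟩ := SetLike.not_le_iff_exists.mp (hall p (NB.take S hp (by omega)) hc)
  have ha1 : a ∉ S.Z (p 1) := fun h => haQ (K.below _ _
    (Walk.near' S hp.1 (show 1 ≤ 4 by omega) (by omega) (by omega) (by omega)) h)
  obtain ⟨g, hg, hgx⟩ := S.trans hx hy
  obtain ⟨h, hh, hhx⟩ := S.trans hx hz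
  have hσy := K.three_sigma hall hv hx hy hz hxy hzx hzy ha hg hgx hh hhx
  have hσz := K.three_sigma hall hv hx hz hy hzx.symm hxy.symm hzy.symm ha hh hhx hg hgx
  have haV : a ∈ S.V' (p 1) := S.Z_le_V' hx ha
  have hgV : g * a * g⁻¹ ∈ S.V' (p 1) := S.Z_le_V' hy (hgx ▸ S.conj_mem_Z g ha)
  have hhV : h * a * h⁻¹ ∈ S.V' (p 1) := S.Z_le_V' hz (hhx ▸ S.conj_mem_Z h ha)
  set σ := a * (g * a * g⁻¹) * (h * a * h⁻¹) with hσdef
  have hσv : σ ∈ S.Z (p 1) := by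
    refine K.inter hnl hv hy hz hzy.symm hσy ?_
    rwa [hσdef, mul_assoc, K.V'_comm le_rfl hgV hhV, ← mul_assoc]
  have hqσ : q * σ * q⁻¹ = σ := by
    rw [S.cen_comm K.con hv hσv hq.1, mul_inv_cancel_right]
  -- each transport is moved by a fixed central involution
  obtain ⟨t, ht, htQ⟩ := S.exists_not_mem (S.symm hx)
  set c := t * a * t⁻¹ * a with hcdef
  have hcz : c ∈ S.Z (p 1) := K.comm_mem (S.symm hx) hv ht.1 ht.2 ha
  have hc1 : c ≠ 1 := K.comm_ne_one (S.symm hx) hv ht htQ ha ha1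
  have eall : ∀ {k : G} {w : V}, S.Adj (p 1) w → k • p 1 = p 1 → k • p 0 = w →
      (q ∈ S.Q w → q * (k * a * k⁻¹) * q⁻¹ = k * a * k⁻¹) ∧
        (q ∉ S.Q w → q * (k * a * k⁻¹) * q⁻¹ = c * (k * a * k⁻¹)) := by
    intro k w hw hk hkw
    have hkm : k * a * k⁻¹ ∈ S.Z w := hkw ▸ S.conj_mem_Z k ha
    refine ⟨fun hin => by rw [S.Z_comm_Q K.con hkm hin, mul_inv_cancel_right], fun hout => ?_⟩
    have hkn : k * a * k⁻¹ ∉ S.Z (p 1) := fun hin => ha1 (by
      have h' := S.conj_mem_Z k⁻¹ hin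
      rwa [inv_smul_fix hk, show k⁻¹ * (k * a * k⁻¹) * k⁻¹⁻¹ = a by group] at h')
    have ht' : k * t * k⁻¹ ∈ stabilizer G w ⊓ stabilizer G (p 1) :=
      ⟨show (k * t * k⁻¹) • w = w by rw [← hkw, conj_smul_smul, mem_stabilizer_iff.mp ht.1],
        show (k * t * k⁻¹) • p 1 = p 1 by
          rw [mul_smul, mul_smul, inv_smul_fix hk, mem_stabilizer_iff.mp ht.2, hk]⟩
    have htQ' : k * t * k⁻¹ ∉ S.Q w := fun hin => htQ (by
      have h' := S.conj_mem_Q k⁻¹ hin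
      rwa [← hkw, inv_smul_smul, show k⁻¹ * (k * t * k⁻¹) * k⁻¹⁻¹ = t by group] at h')
    have e := K.comm_eq (S.symm hw) hv (htwo _ _ (S.symm hw) (K.not_cen (S.symm hw) hv)) ht'
      (t' := q) ⟨hq.2 _ hw, hq.1⟩ htQ' hout hkm hkm hkn hkn
    have e2 : k * t * k⁻¹ * (k * a * k⁻¹) * (k * t * k⁻¹)⁻¹ * (k * a * k⁻¹) = c := by
      calc _ = k * c * k⁻¹ := by rw [hcdef]; group
        _ = c := by rw [S.cen_comm K.con hv hcz hk, mul_inv_cancel_right]
    rw [e2] at e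
    calc q * (k * a * k⁻¹) * q⁻¹
        = q * (k * a * k⁻¹) * q⁻¹ * ((k * a * k⁻¹) * (k * a * k⁻¹)) := by
          rw [S.Z_sq K.con hkm, mul_one]
      _ = c * (k * a * k⁻¹) := by rw [← mul_assoc, e]
  have ex : (q ∈ S.Q (p 0) → q * a * q⁻¹ = a) ∧ (q ∉ S.Q (p 0) → q * a * q⁻¹ = c * a) := by
    simpa using eall (k := 1) hx (one_smul _ _) (one_smul _ _)
  have ey := eall hy hg hgx
  have ez := eall hz hh hhx
  have hcV : c ∈ S.V' (p 1) := K.Z_le_V'_self hv hx hcz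
  have eprod : ∀ {c₁ c₂ c₃ : G}, c₁ ∈ S.V' (p 1) → c₂ ∈ S.V' (p 1) → c₃ ∈ S.V' (p 1) →
      q * a * q⁻¹ = c₁ * a → q * (g * a * g⁻¹) * q⁻¹ = c₂ * (g * a * g⁻¹) →
      q * (h * a * h⁻¹) * q⁻¹ = c₃ * (h * a * h⁻¹) → c₁ * c₂ * c₃ = 1 := by
    intro c₁ c₂ c₃ m1 m2 m3 e1 e2 e3
    refine mul_right_cancel (b := σ) ?_
    rw [one_mul]
    conv_rhs => rw [← hqσ]
    rw [hσdef, ← (perm_three (S.V' (p 1)) (fun x hx y hy => K.V'_comm le_rfl hx hy) m1 m2 m3
      haV hgV hhV).2.1, ← e1, ← e2, ← e3]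
    group
  have one' : (1 : G) ∈ S.V' (p 1) := one_mem _
  by_cases h1 : q ∈ S.Q (p 0) <;> by_cases h2 : q ∈ S.Q (p 2) <;> by_cases h3 : q ∈ S.Q z <;>
    simp [h1, h2, h3]
  all_goals first
    | exact absurd (eprod one' one' hcV (by rw [one_mul, ex.1 h1]) (by rw [one_mul, ey.1 h2])
        (ez.2 h3)) (by simpa using hc1)
    | exact absurd (eprod one' hcV one' (by rw [one_mul, ex.1 h1]) (ey.2 h2)
        (by rw [one_mul, ez.1 h3])) (by simpa using hc1)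
    | exact absurd (eprod hcV one' one' (ex.2 h1) (by rw [one_mul, ey.1 h2])
        (by rw [one_mul, ez.1 h3])) (by simpa using hc1)
    | exact absurd (eprod hcV hcV hcV (ex.2 h1) (ey.2 h2) (ez.2 h3))
        (by simpa [S.Z_sq K.con hcz] using hc1)

end Cubic.Setting

end Cfsg.Agent.Amalgam33
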