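import Cfsg.Agent.Lib.Amalgam33.Center

/-!
Walks in a cubic graph, the critical distance, and the standing setting `Cubic.Setting` of the amalgam method when
every edge has exactly one end whose centre is central.

Main results: `Cubic.exists_setting`, `Cubic.Setting.fix`, `Cubic.Setting.meet`, `Cubic.conj_walks`,
`Cubic.Setting.allCrit_of_alt`.
-/

set_option autoImplicit false
set_option linter.unusedSectionVars false
set_option linter.style.haveILetI false

namespace Cfsg.Agent.Amalgam33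

open MulAction Cfsg.Agent.ThompsonWielandt.Cubic

universe u₁ u₂

/-- Prepend a vertex to a walk. -/
def pre {α : Type*} (x : α) (p : ℕ → α) : ℕ → α
  | 0 => x
  | i + 1 => p i

/-- Change a walk after position `n`. -/
def post {α : Type*} (n : ℕ) (p : ℕ → α) (x : α) : ℕ → α := fun i => if i ≤ n then p i else x

theorem post_of_le {α : Type*} {n i : ℕ} (p : ℕ → α) (x : α) (h : i ≤ n) : post n p x i = p i :=
  if_pos h

theorem post_of_lt {α : Type*} {n i : ℕ} (p : ℕ → α) (x : α) (h : n < i) : post n p x i = x :=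
  if_neg (Nat.not_le.mpr h)

namespace Cubic

variable {G : Type u₁} [Group G] {V : Type u₂} [MulAction G V] (S : Cubic G V)

/-- A walk of length `n`. -/
def Walk (n : ℕ) (p : ℕ → V) : Prop := ∀ i, i < n → S.Adj (p i) (p (i + 1))

/-- A walk without backtracking. -/
def NB (n : ℕ) (p : ℕ → V) : Prop := S.Walk n p ∧ ∀ i, i + 2 ≤ n → p (i + 2) ≠ p i

/-- At distance at most `n`. -/
def Near : ℕ → V → V → Prop
  | 0, u, v => u = v
  | n + 1, u, v => u = v ∨ ∃ x, S.Adj u x ∧ Near n x v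

theorem near_refl : ∀ (n : ℕ) (u : V), S.Near n u u
  | 0, _ => rfl
  | _ + 1, _ => Or.inl rfl

theorem Near.mono {m : ℕ} : ∀ {n : ℕ} {u v : V}, S.Near m u v → m ≤ n → S.Near n u v := by
  induction m with
  | zero => intro n u v h _; cases h; exact S.near_refl n u
  | succ m ih =>
    intro n u v h hmn
    obtain ⟨n, rfl⟩ : ∃ k, n = k + 1 := ⟨n - 1, by omega⟩
    rcases h with h | ⟨x, hx, h⟩
    · exact Or.inl h
    · exact Or.inr ⟨x, hx, ih h (by omega)⟩

theorem Near.trans {m : ℕ} : ∀ {n : ℕ} {u v w : V}, S.Near m u v → S.Near n v w →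
    S.Near (m + n) u w := by
  induction m with
  | zero => intro n u v w h h'; cases h; rwa [Nat.zero_add]
  | succ m ih =>
    intro n u v w h h'
    rcases h with rfl | ⟨x, hx, h⟩
    · exact Near.mono S h' (by omega)
    · rw [Nat.succ_add]
      exact Or.inr ⟨x, hx, ih h h'⟩

theorem near_one {u v : V} (h : S.Adj u v) : S.Near 1 u v := Or.inr ⟨v, h, rfl⟩

theorem near_two {u v w : V} (h : S.Adj u v) (h' : S.Adj v w) : S.Near 2 u w :=
  Or.inr ⟨v, h, S.near_one h'⟩

theorem Near.symm {n : ℕ} : ∀ {u v : V}, S.Near n u v → S.Near n v u := by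
  induction n with
  | zero => intro u v h; exact Eq.symm h
  | succ n ih =>
    intro u v h
    rcases h with h | ⟨x, hx, h⟩
    · exact Or.inl h.symm
    · exact Near.trans S (ih h) (S.near_one (S.symm hx))

theorem Near.smul {n : ℕ} (g : G) : ∀ {u v : V}, S.Near n u v → S.Near n (g • u) (g • v) := by
  induction n with
  | zero => intro u v h; exact congrArg (g • ·) h
  | succ n ih =>
    intro u v h
    rcases h with h | ⟨x, hx, h⟩
    · exact Or.inl (congrArg (g • ·) h)
    · exact Or.inr ⟨g • x, S.smul g hx, ih h⟩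

theorem Walk.near {n : ℕ} {p : ℕ → V} (h : S.Walk n p) : ∀ {i j : ℕ}, i ≤ j → j ≤ n →
    S.Near (j - i) (p i) (p j) := by
  intro i j hij
  induction j, hij using Nat.le_induction with
  | base => intro _; exact S.near_refl _ _
  | succ j hij ih =>
    intro hj
    have h' := Near.trans S (ih (by omega)) (S.near_one (h j (by omega)))
    exact Near.mono S h' (by omega)

theorem Walk.near' {n : ℕ} {p : ℕ → V} (h : S.Walk n p) {i j m : ℕ} (hi : i ≤ n) (hj : j ≤ n)
    (h1 : j ≤ i + m) (h2 : i ≤ j + m) : S.Near m (p i) (p j) := by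
  rcases Nat.le_total i j with hij | hij
  · exact Near.mono S (Walk.near S h hij hj) (by omega)
  · exact Near.mono S (Near.symm S (Walk.near S h hij hi)) (by omega)

theorem exists_walk_of_near : ∀ {n : ℕ} {u v : V}, S.Near n u v →
    ∃ m, m ≤ n ∧ ∃ p, S.Walk m p ∧ p 0 = u ∧ p m = v := by
  intro n
  induction n with
  | zero => intro u v h; exact ⟨0, le_rfl, fun _ => u, fun i hi => absurd hi (by omega), rfl, h⟩
  | succ n ih =>
    intro u v h
    rcases h with h | ⟨x, hx, h⟩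
    · exact ⟨0, by omega, fun _ => u, fun i hi => absurd hi (by omega), rfl, h⟩
    · obtain ⟨m, hm, p, hp, rfl, rfl⟩ := ih h
      refine ⟨m + 1, by omega, pre u p, fun i hi => ?_, rfl, rfl⟩
      rcases i with _ | i
      · exact hx
      · exact hp i (by omega)

theorem NB.rev {n : ℕ} {p : ℕ → V} (h : S.NB n p) : S.NB n (fun i => p (n - i)) := by
  refine ⟨fun i hi => ?_, fun i hi => ?_⟩
  · have h' := S.symm (h.1 (n - (i + 1)) (by omega))
    rwa [show n - (i + 1) + 1 = n - i by omega] at h'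
  · have h' := (h.2 (n - (i + 2)) (by omega)).symm
    rwa [show n - (i + 2) + 2 = n - i by omega] at h'

theorem NB.shift {n m k : ℕ} {p : ℕ → V} (h : S.NB n p) (hk : k + m ≤ n) :
    S.NB m (fun i => p (k + i)) :=
  ⟨fun i hi => h.1 (k + i) (by omega), fun i hi => h.2 (k + i) (by omega)⟩

theorem NB.take {n m : ℕ} {p : ℕ → V} (h : S.NB n p) (hm : m ≤ n) : S.NB m p :=
  ⟨fun i hi => h.1 i (by omega), fun i hi => h.2 i (by omega)⟩

theorem NB.smul {n : ℕ} {p : ℕ → V} (h : S.NB n p) (g : G) : S.NB n (fun i => g • p i) :=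
  ⟨fun i hi => S.smul g (h.1 i hi), fun i hi e => h.2 i hi (MulAction.injective g e)⟩

theorem NB.cons {n : ℕ} {p : ℕ → V} {x : V} (h : S.NB n p) (hx : S.Adj x (p 0))
    (hne : 1 ≤ n → x ≠ p 1) : S.NB (n + 1) (pre x p) := by
  refine ⟨fun i hi => ?_, fun i hi => ?_⟩
  · rcases i with _ | i
    exacts [hx, h.1 i (by omega)]
  · rcases i with _ | i
    exacts [(hne (by omega)).symm, h.2 i (by omega)]

theorem NB.snoc {n : ℕ} {p : ℕ → V} {x : V} (h : S.NB n p) (hx : S.Adj (p n) x)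
    (hne : 1 ≤ n → x ≠ p (n - 1)) : S.NB (n + 1) (post n p x) := by
  refine ⟨fun i hi => ?_, fun i hi => ?_⟩
  · rw [post_of_le p x (show i ≤ n by omega)]
    rcases Nat.lt_or_ge i n with hin | hin
    · rw [post_of_le p x (show i + 1 ≤ n by omega)]
      exact h.1 i hin
    · obtain rfl : i = n := by omega
      rw [post_of_lt p x (Nat.lt_succ_self i)]
      exact hx
  · rw [post_of_le p x (show i ≤ n by omega)]
    rcases Nat.lt_or_ge (i + 1) n with hin | hin
    · rw [post_of_le p x (show i + 2 ≤ n by omega)]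
      exact h.2 i (by omega)
    · rw [post_of_lt p x (show n < i + 2 by omega), show i = n - 1 by omega]
      exact hne (by omega)

theorem NB.exists_snoc {n : ℕ} {p : ℕ → V} (h : S.NB n p) (hn : 1 ≤ n) :
    ∃ x, S.Adj (p n) x ∧ x ≠ p (n - 1) := by
  have h' := h.1 (n - 1) (by omega)
  rw [show n - 1 + 1 = n by omega] at h'
  exact S.exists_ne (S.symm h')

theorem NB.extend {n : ℕ} {p : ℕ → V} (h : S.NB n p) (hn : 1 ≤ n) : ∀ m, n ≤ m →
    ∃ q, S.NB m q ∧ ∀ i, i ≤ n → q i = p i := by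
  intro m hm
  induction m, hm using Nat.le_induction with
  | base => exact ⟨p, h, fun i _ => rfl⟩
  | succ m hm ih =>
    obtain ⟨q, hq, hqp⟩ := ih
    obtain ⟨x, hx, hxne⟩ := NB.exists_snoc S hq (by omega)
    exact ⟨post m q x, NB.snoc S hq hx (fun _ => hxne),
      fun i hi => (post_of_le q x (by omega)).trans (hqp i hi)⟩

/-- An element fixes a walk and moves beyond its end. -/
def Mv (n : ℕ) (p : ℕ → V) : Prop := ∃ g : G, (∀ i, i ≤ n → g • p i = p i) ∧ g ∉ S.Q (p n)

theorem Mv.suffix {n m : ℕ} {p : ℕ → V} (h : S.Mv n p) (hm : m ≤ n) :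
    S.Mv m (fun i => p (n - m + i)) := by
  obtain ⟨g, hg, hgQ⟩ := h
  exact ⟨g, fun i hi => hg _ (by omega), show g ∉ S.Q (p (n - m + m)) by
    rwa [show n - m + m = n by omega]⟩

/-- Every edge has exactly one end with central centre. -/
def One : Prop := ∀ u v, S.Adj u v → (S.Cen u ↔ ¬ S.Cen v)

theorem cen_two {u v w : V} (h1 : S.One) (h : S.Adj u v) (h' : S.Adj v w) : S.Cen w ↔ S.Cen u := by
  have := h1 u v h
  have := h1 v w h'
  tauto

theorem cen_walk (h1 : S.One) {n : ℕ} {p : ℕ → V} (h : S.Walk n p) : ∀ {i : ℕ}, i ≤ n →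
    (S.Cen (p i) ↔ (S.Cen (p 0) ↔ i % 2 = 0)) := by
  intro i
  induction i with
  | zero => intro _; simp
  | succ i ih =>
    intro hi
    have := h1 _ _ (h i (by omega))
    have := ih (by omega)
    have h2 : (i + 1) % 2 = 0 ↔ ¬ i % 2 = 0 := by omega
    tauto

theorem exists_conj_of_cen (h1 : S.One) {u v : V} (h : S.Cen u ↔ S.Cen v) :
    ∃ g : G, g • u = v := by
  cases (S.reach u v).cases_head with
  | inl e => exact ⟨1, by rw [one_smul, e]⟩
  | inr hh =>
    obtain ⟨c, huc, -⟩ := hh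
    obtain ⟨g, -, hg⟩ := S.translate huc (H := ⊤) le_top le_top v
    rcases hg with hg | hg
    · exact ⟨g, hg⟩
    · exfalso
      have h2 := h1 u c huc
      rw [← hg, S.cen_smul_iff] at h
      tauto

/-- Walks with starts of the same colour are conjugate, given movers at smaller lengths. -/
theorem conj_walks (h1 : S.One) (n : ℕ)
    (hmv : ∀ k, 1 ≤ k → k < n → ∀ p, S.NB k p →
      ∃ r, S.NB k r ∧ (S.Cen (r 0) ↔ S.Cen (p 0)) ∧ S.Mv k r) :
    ∀ p q, S.NB n p → S.NB n q → (S.Cen (p 0) ↔ S.Cen (q 0)) →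
      ∃ g : G, ∀ i, i ≤ n → g • p i = q i := by
  induction n with
  | zero =>
    intro p q _ _ hc
    obtain ⟨g, hg⟩ := S.exists_conj_of_cen h1 hc
    exact ⟨g, fun i hi => by rw [Nat.le_zero.mp hi]; exact hg⟩
  | succ n ih =>
    intro p q hp hq hc
    have ih' := ih fun k hk hk' => hmv k hk (Nat.lt_succ_of_lt hk')
    obtain ⟨g, hg⟩ := ih' p q (NB.take S hp (Nat.le_succ n)) (NB.take S hq (Nat.le_succ n)) hc
    have hx : S.Adj (q n) (g • p (n + 1)) := hg n le_rfl ▸ S.smul g (hp.1 n (Nat.lt_succ_self n))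
    have hy : S.Adj (q n) (q (n + 1)) := hq.1 n (Nat.lt_succ_self n)
    rcases Nat.eq_zero_or_pos n with rfl | hn
    · obtain ⟨k, hk, hkx⟩ := S.trans hx hy
      refine ⟨k * g, fun i hi => ?_⟩
      rcases i with _ | i
      · rw [mul_smul, hg 0 le_rfl, hk]
      · obtain rfl : i = 0 := by omega
        rw [mul_smul, hkx]
    by_cases he : g • p (n + 1) = q (n + 1)
    · refine ⟨g, fun i hi => ?_⟩
      rcases Nat.lt_or_ge n i with hi' | hi'
      · rw [show i = n + 1 by omega, he]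
      · exact hg i hi'
    obtain ⟨r, hr, hrc, a, ha, haQ⟩ := hmv n hn (Nat.lt_succ_self n) q (NB.take S hq (Nat.le_succ n))
    obtain ⟨c, hc'⟩ := ih' r q hr (NB.take S hq (Nat.le_succ n)) hrc
    set d := c * a * c⁻¹ with hd
    have hdfix : ∀ i, i ≤ n → d • q i = q i := fun i hi => by
      rw [← hc' i hi, hd, conj_smul_smul, ha i hi]
    have hdQ : d ∉ S.Q (q n) := fun h => haQ (by
      have h' := S.conj_mem_Q c⁻¹ h
      rw [← hc' n le_rfl, inv_smul_smul, hd] at h'
      rwa [show c⁻¹ * (c * a * c⁻¹) * c⁻¹⁻¹ = a by group] at h')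
    have hprev : S.Adj (q n) (q (n - 1)) := by
      have h' := S.symm (hq.1 (n - 1) (by omega))
      rwa [show n - 1 + 1 = n by omega] at h'
    have hxne : g • p (n + 1) ≠ q (n - 1) := fun e => by
      rw [← hg (n - 1) (by omega)] at e
      have := hp.2 (n - 1) (by omega)
      rw [show n - 1 + 2 = n + 1 by omega] at this
      exact this (MulAction.injective g e)
    have hyne : q (n + 1) ≠ q (n - 1) := by
      have := hq.2 (n - 1) (by omega)
      rwa [show n - 1 + 2 = n + 1 by omega] at this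
    have hmove := S.swap_eq hprev hx hy hxne hyne (Ne.symm he) (hdfix n le_rfl)
      (hdfix (n - 1) (by omega)) hdQ
    refine ⟨d * g, fun i hi => ?_⟩
    rcases Nat.lt_or_ge n i with hi' | hi'
    · rw [show i = n + 1 by omega, mul_smul, hmove]
    · rw [mul_smul, hg i hi', hdfix i hi']

/-- The standing setting: constrained stabilisers, one central end on each edge, critical distance `b`. -/
structure Setting (b : ℕ) : Prop where
  con : S.Con
  one : S.One
  below : ∀ u v, S.Near (b - 1) u v → S.Z u ≤ S.Q v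
  pos : 1 ≤ b
  crit : ∃ p, S.NB b p ∧ ¬ S.Cen (p 0) ∧ ¬ S.Z (p 0) ≤ S.Q (p b)

/-- Every walk of length `b` from a noncentral vertex is critical. -/
def AllCrit (b : ℕ) : Prop :=
  ∀ p, S.NB b p → ¬ S.Cen (p 0) → ¬ S.Z (p 0) ≤ S.Q (p b)

variable [Finite G]

theorem exists_setting (hcon : S.Con) (h1 : S.One) {u₀ v₀ : V} (h₀ : S.Adj u₀ v₀) :
    ∃ b, S.Setting b := by
  classical
  have hex : ∃ n, ∃ u v, S.Near n u v ∧ ¬ S.Z u ≤ S.Q v := by
    by_contra hno
    push Not at hno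
    obtain ⟨z, hz, hz1⟩ := S.exists_central h₀
    refine hz1 (S.faithful z fun w => ?_)
    have key : ∀ w, ∃ n, S.Near n u₀ w := fun w => by
      induction S.reach u₀ w with
      | refl => exact ⟨0, rfl⟩
      | tail _ hbc ih =>
        obtain ⟨n, hn⟩ := ih
        exact ⟨n + 1, Near.trans S hn (S.near_one hbc)⟩
    obtain ⟨n, hn⟩ := key w
    exact (hno n u₀ w hn (S.Zc_le_Z h₀ hz)).1
  obtain ⟨u, v, hnear, hnot⟩ := Nat.find_spec hex
  set b := Nat.find hex with hb
  have hmin : ∀ m, m < b → ∀ u v, S.Near m u v → S.Z u ≤ S.Q v := fun m hm u v h => by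
    by_contra h'
    exact Nat.find_min hex hm ⟨u, v, h, h'⟩
  have hpos : 1 ≤ b := by
    by_contra h0
    rw [show b = 0 by omega] at hnear
    cases hnear
    exact hnot (S.Z_le_Q hcon u)
  obtain ⟨m, hm, p, hp, rfl, rfl⟩ := S.exists_walk_of_near hnear
  obtain rfl : m = b := by
    by_contra hne
    exact hnot (hmin m (by omega) _ _ (Walk.near S hp (Nat.zero_le m) le_rfl))
  have hNB : S.NB b p := ⟨hp, fun i hi e => by
    refine hnot (hmin (b - 1) (by omega) _ _ ?_)
    have n1 := Walk.near S hp (Nat.zero_le i) (show i ≤ b by omega)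
    have n2 := Walk.near S hp hi le_rfl
    rw [e] at n2
    exact Near.mono S (Near.trans S n1 n2) (by omega)⟩
  refine ⟨b, hcon, h1, hmin (b - 1) (by omega), hpos, p, hNB, fun h0 => hnot ?_, hnot⟩
  have hadj := hp 0 (by omega)
  have hle : S.Z (p 0) ≤ S.Z (p 1) := by
    rw [← S.cen_Zc_eq hcon h0 hadj, inf_comm]
    exact S.Zc_le_Z (S.symm hadj)
  exact hle.trans (hmin (b - 1) (by omega) _ _
    (Walk.near S hp (show 1 ≤ b by omega) le_rfl))

namespace Setting

variable {S} {b : ℕ} (K : S.Setting b)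
include K

theorem fix {u v : V} (h : S.Near b u v) {z : G} (hz : z ∈ S.Z u) : z • v = v := by
  obtain ⟨m, hm, p, hp, rfl, rfl⟩ := S.exists_walk_of_near h
  rcases m with _ | m
  · exact (S.Z_le_Q K.con _ hz).1
  · have hQ := K.below _ _ (Near.mono S (Walk.near S hp (Nat.zero_le m) (by omega))
      (show m - 0 ≤ b - 1 by omega)) hz
    exact hQ.2 _ (hp m (by omega))

theorem comm {u v : V} (h : S.Near (b - 1) u v) {x y : G} (hx : x ∈ S.Z u) (hy : y ∈ S.Z v) :
    x * y = y * x :=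
  S.Z_comm_Q K.con hy (K.below u v h hx)

theorem not_cen {u w : V} (h : S.Adj u w) (hw : S.Cen w) : ¬ S.Cen u :=
  fun hu => (K.one u w h).mp hu hw

theorem cen {u w : V} (h : S.Adj u w) (hu : ¬ S.Cen u) : S.Cen w := by
  have := K.one u w h
  tauto

/-- The centre of an edge group is `Z` of its central end. -/
theorem Zc_eq {u w : V} (h : S.Adj u w) (hw : S.Cen w) :
    Zc (stabilizer G u ⊓ stabilizer G w) = S.Z w := by
  rw [inf_comm]
  exact S.cen_Zc_eq K.con hw (S.symm h)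

theorem Z_le_Z {u w : V} (h : S.Adj u w) (hw : S.Cen w) : S.Z w ≤ S.Z u :=
  K.Zc_eq h hw ▸ S.Zc_le_Z h

theorem Z_of_comm {u w : V} (h : S.Adj u w) (hw : S.Cen w) {t z : G} (htu : t • u = u)
    (htw : t • w = w) (htQ : t ∉ S.Q u) (hz : z ∈ S.Z u) (hc : t * z = z * t) : z ∈ S.Z w :=
  K.Zc_eq h hw ▸ S.Zc_of_comm K.con h ⟨htu, htw⟩ htQ hz hc

theorem comm_mem {u w : V} (h : S.Adj u w) (hw : S.Cen w) {t z : G} (htu : t • u = u)
    (htw : t • w = w) (hz : z ∈ S.Z u) : t * z * t⁻¹ * z ∈ S.Z w :=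
  K.Zc_eq h hw ▸ S.comm_mem_Zc K.con h ⟨htu, htw⟩ hz

theorem meet {u w w' : V} (h : S.Adj u w) (h' : S.Adj u w') (hne : w' ≠ w) (hw : S.Cen w)
    {z : G} (hz : z ∈ S.Z w) (hz' : z ∈ S.Z w') : z = 1 := by
  have hw' : S.Cen w' := K.cen h' (K.not_cen h hw)
  have hw1 : stabilizer G w ≤ Subgroup.centralizer ({z} : Set G) := fun g hg =>
    Subgroup.mem_centralizer_singleton_iff.mpr (S.cen_comm K.con hw hz hg)
  have hu : stabilizer G u ≤ Subgroup.centralizer ({z} : Set G) :=
    S.gen₂ h h' hne (inf_le_right.trans hw1) (inf_le_right.trans fun g hg =>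
      Subgroup.mem_centralizer_singleton_iff.mpr (S.cen_comm K.con hw' hz' hg))
  have hfix := S.Q_le (S.symm h) (S.Z_le_Q K.con w hz)
  exact S.eq_one_of_central h hfix.2 hfix.1 hu hw1

theorem Z_ne_bot (u : V) (hu : ∃ w, S.Adj u w) : ∃ z ∈ S.Z u, z ≠ 1 := by
  obtain ⟨w, hw⟩ := hu
  obtain ⟨z, hz, hz1⟩ := S.exists_central hw
  exact ⟨z, S.Zc_le_Z hw hz, hz1⟩

theorem Z_ne {v x y : V} (hx : S.Adj v x) (hy : S.Adj v y) (hne : y ≠ x)
    (he : S.Z x = S.Z y) : False := by
  have hxn : stabilizer G x ≤ Subgroup.normalizer (S.Z x : Set G) := by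
    rw [Subgroup.le_normalizer_iff]
    exact fun g hg z hz => S.conj_mem_Z_of_fix hg hz
  have hyn : stabilizer G y ≤ Subgroup.normalizer (S.Z x : Set G) := by
    rw [he, Subgroup.le_normalizer_iff]
    exact fun g hg z hz => S.conj_mem_Z_of_fix hg hz
  have hvn := S.gen₂ hx hy hne (inf_le_right.trans hxn) (inf_le_right.trans hyn)
  have hle : S.Z x ≤ stabilizer G x ⊓ stabilizer G v :=
    (S.Z_le_Q K.con x).trans (S.Q_le (S.symm hx))
  obtain ⟨z, hz, hz1⟩ := K.Z_ne_bot x ⟨v, S.symm hx⟩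
  rw [S.eq_bot_of_normalized (S.symm hx) hle hxn hvn, Subgroup.mem_bot] at hz
  exact hz1 hz

/-- A critical element moves the walk at its end. -/
theorem mv {p : ℕ → V} (hp : S.NB b p) (hcrit : ¬ S.Z (p 0) ≤ S.Q (p b)) : S.Mv b p := by
  obtain ⟨z, hz, hzQ⟩ := SetLike.not_le_iff_exists.mp hcrit
  exact ⟨z, fun i hi => K.fix (Near.mono S (Walk.near S hp.1 (Nat.zero_le i) hi) (by omega)) hz,
    hzQ⟩

/-- Movers with both colours of ends make all walks of length `b` critical. -/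
theorem allCrit_of_alt
    (halt : ∀ p, S.NB b p → ¬ S.Cen (p 0) → ∃ r, S.NB (b - 1) r ∧
      ¬ (S.Cen (r (b - 1)) ↔ S.Cen (p b)) ∧ S.Mv (b - 1) r) : S.AllCrit b := by
  obtain ⟨p₀, hp₀, hc₀, hcrit₀⟩ := K.crit
  obtain ⟨r₀, hr₀, hrc₀, hrm₀⟩ := halt p₀ hp₀ hc₀
  intro p hp hc
  have hmv : ∀ k, 1 ≤ k → k < b → ∀ q, S.NB k q →
      ∃ r, S.NB k r ∧ (S.Cen (r 0) ↔ S.Cen (q 0)) ∧ S.Mv k r := by
    intro k hk hkb q hq
    have hq' := S.cen_walk K.one hq.1 (le_refl k)
    have sel : ∀ n r, k ≤ n → S.NB n r → S.Mv n r → (S.Cen (r n) ↔ S.Cen (q k)) →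
        ∃ r', S.NB k r' ∧ (S.Cen (r' 0) ↔ S.Cen (q 0)) ∧ S.Mv k r' := by
      intro n r hkn hr hrm he
      have hs : S.NB k (fun i => r (n - k + i)) := NB.shift S hr (by omega)
      refine ⟨_, hs, ?_, Mv.suffix S hrm hkn⟩
      have h' := S.cen_walk K.one hs.1 (le_refl k)
      simp only [show n - k + k = n by omega] at h'
      revert h' hq' he
      tauto
    by_cases he : S.Cen (p₀ b) ↔ S.Cen (q k)
    · exact sel b p₀ (by omega) hp₀ (K.mv hp₀ hcrit₀) he
    · exact sel (b - 1) r₀ (by omega) hr₀ hrm₀ (by revert hrc₀ he; tauto)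
  obtain ⟨g, hg⟩ := S.conj_walks K.one b hmv p₀ p hp₀ hp (by simp [hc₀, hc])
  intro hle
  refine hcrit₀ fun z hz => ?_
  have h' := S.conj_mem_Z g hz
  rw [hg 0 (Nat.zero_le b)] at h'
  have h'' := S.conj_mem_Q g⁻¹ (hle h')
  rw [← hg b le_rfl, inv_smul_smul] at h''
  rwa [show g⁻¹ * (g * z * g⁻¹) * g⁻¹⁻¹ = z by group] at h''

end Setting

end Cubic

end Cfsg.Agent.Amalgam33
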